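import Mathlib.Tactic.Linarith
import Mathlib.Tactic.LinearCombination
import Mathlib.Tactic.Positivity
import Mathlib.Algebra.Order.Ring.Int
import Mathlib.Algebra.Ring.Parity
import Mathlib.Tactic.NormNum
import Mathlib.Tactic.Ring

/-!
The arithmetic of the class equation in Dickson's theorem.
-/

set_option autoImplicit false

namespace Cfsg.Agent.PStable

/-! ### The counting -/

theorem count_small_one {N q M s t g : ℕ} (hq : 3 ≤ q) (ht : 1 ≤ t) (hs : s = 1 ∨ s = 2)
    (hg : g = N * q) (hM : M * (s * (t + 1)) = g) (hle : N * (q - 1) + M * t + 1 ≤ g) :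
    s = 2 ∧ t = 1 ∧ q = 3 := by
  obtain ⟨r, rfl⟩ := Nat.exists_eq_add_of_le hq
  rw [show 3 + r - 1 = 2 + r by omega] at hle
  have hlt : M * t < N := by nlinarith
  have hM2 : M * (s * (t + 1)) = N * (3 + r) := hg ▸ hM
  rcases hs with rfl | rfl
  · nlinarith
  · refine ⟨rfl, ?_, ?_⟩
    · by_contra h
      have : 2 ≤ t := by omega
      nlinarith
    · by_contra h
      have : 1 ≤ r := by omega
      nlinarith

theorem count_split_one {N q d M t g M1 : ℕ} (hq : 3 ≤ q) (hd : 2 ≤ d) (ht : 1 ≤ t)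
    (hg : g = N * (d * q)) (hM1 : M1 * d = g) {s : ℕ} (hs : s = 1 ∨ s = 2)
    (hM : M * (s * (t + 1)) = g) :
    g < N * (q - 1) + M1 * (d - 1) + M * t + 1 := by
  obtain ⟨r, rfl⟩ := Nat.exists_eq_add_of_le hq
  obtain ⟨c, rfl⟩ := Nat.exists_eq_add_of_le hd
  rw [show 3 + r - 1 = 2 + r by omega, show 2 + c - 1 = 1 + c by omega]
  have h1 : M1 = N * (3 + r) := Nat.eq_of_mul_eq_mul_right (show 0 < 2 + c by omega) (by
    rw [hM1, hg]; ring)
  subst h1
  have h2 : g ≤ 4 * (M * t) := by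
    rw [← hM]
    have : s * (t + 1) ≤ 4 * t := by rcases hs with rfl | rfl <;> omega
    calc M * (s * (t + 1)) ≤ M * (4 * t) := Nat.mul_le_mul_left _ this
      _ = 4 * (M * t) := by ring
  have h3 : N * 6 ≤ g := by rw [hg]; exact Nat.mul_le_mul_left _ (by nlinarith)
  nlinarith

theorem count_half {N q d M t g M1 : ℕ} (hq : 3 ≤ q) (hd : 2 ≤ d) (hN : 1 ≤ N)
    (hg : g = N * (d * q)) (hM1 : M1 * (2 * d) = g) (h : g ≤ 2 * (M * t)) :
    g < N * (q - 1) + M1 * (d - 1) + M * t + 1 := by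
  obtain ⟨r, rfl⟩ := Nat.exists_eq_add_of_le hq
  obtain ⟨c, rfl⟩ := Nat.exists_eq_add_of_le hd
  rw [show 3 + r - 1 = 2 + r by omega, show 2 + c - 1 = 1 + c by omega]
  have h1 : 2 * M1 = N * (3 + r) := Nat.eq_of_mul_eq_mul_right (show 0 < 2 + c by omega) (by
    nlinarith)
  nlinarith

/-- The only solutions of the class equation. -/
theorem count_final {N q d M t g M1 k : ℕ} (hq : 3 ≤ q) (hd : 2 ≤ d) (hdvd : d ∣ q - 1)
    (hodd : Odd q) (hk : N = 1 + k * q) (hk1 : 1 ≤ k) (hg : g = N * (d * q))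
    (hM1 : M1 * (2 * d) = g) (hM : M * (2 * (t + 1)) = g)
    (heq : N * (q - 1) + M1 * (d - 1) + M * t + 1 = g) :
    N = q + 1 ∨ (q = 3 ∧ d = 2 ∧ g = 60 ∧ t = 4) := by
  obtain ⟨e, he⟩ := hdvd
  obtain ⟨o, ho⟩ := hodd
  obtain ⟨c, rfl⟩ := Nat.exists_eq_add_of_le hd
  rw [show 2 + c - 1 = 1 + c by omega] at heq
  have hq1N : q = (2 + c) * e + 1 := by omega
  rw [he] at heq
  have hqZ : (3 : ℤ) ≤ q := by exact_mod_cast hq
  have hq1 : (q : ℤ) = (2 + c) * e + 1 := by exact_mod_cast hq1N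
  have hkZ : (N : ℤ) = 1 + k * q := by exact_mod_cast hk
  have hk1Z : (1 : ℤ) ≤ k := by exact_mod_cast hk1
  have hgZ : (g : ℤ) = N * ((2 + c) * q) := by exact_mod_cast hg
  have hM1Z : (M1 : ℤ) * (2 * (2 + c)) = g := by exact_mod_cast hM1
  have hMZ : (M : ℤ) * (2 * (t + 1)) = g := by exact_mod_cast hM
  have heqZ : (N : ℤ) * ((2 + c) * e) + M1 * (1 + c) + M * t + 1 = g := by exact_mod_cast heq
  have h1 : 2 * (M1 : ℤ) = N * q := by
    have hd0 : ((2 : ℤ) + c) ≠ 0 := by positivity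
    refine mul_right_cancel₀ hd0 ?_
    linear_combination hM1Z + hgZ
  have key : (g : ℤ) + (t + 1) * (2 * M1 - 2 - 2 * N * (q - 1)) = 0 := by
    linear_combination -(2 * ((t : ℤ) + 1)) * heqZ + (t : ℤ) * hMZ + ((t : ℤ) + 1) * hM1Z -
      2 * ((t : ℤ) + 1) * N * hq1
  set d' : ℤ := 2 + c with hd'
  have hd2 : 2 ≤ d' := by rw [hd']; linarith [Int.natCast_nonneg c]
  set j : ℤ := t + 1 - d' with hj
  have h2 : ((t : ℤ) + 1) * (1 + k * (q - 2)) = d' * (1 + k * q) := by
    have hq0 : (q : ℤ) ≠ 0 := by linarith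
    refine mul_right_cancel₀ hq0 ?_
    linear_combination -key + hgZ + ((t : ℤ) + 1) * h1 -
      (((t : ℤ) + 1) * (q - 2) - d' * q) * hkZ
  have h3 : j * (1 + k * (q - 2)) = 2 * k * d' := by
    rw [hj]; linear_combination h2
  have hpos : 0 < (1 : ℤ) + k * (q - 2) := by nlinarith
  have hjpos : 1 ≤ j := by
    by_contra h
    have : j * (1 + k * (q - 2)) ≤ 0 := mul_nonpos_of_nonpos_of_nonneg (by omega) hpos.le
    nlinarith
  have hlow : (1 : ℤ) + k * (q - 2) ≤ 2 * k * d' :=
    h3 ▸ le_mul_of_one_le_left hpos.le hjpos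
  have he3 : e = 1 ∨ e = 2 := by
    rcases Nat.lt_or_ge e 3 with h | h
    · rcases Nat.eq_zero_or_pos e with h0 | h0
      · exfalso; rw [h0, mul_zero] at hq1N; omega
      · omega
    · exfalso
      have he' : 3 * d' ≤ (q : ℤ) - 1 := by
        rw [hq1, add_sub_cancel_right, mul_comm d']
        exact mul_le_mul_of_nonneg_right (by exact_mod_cast h) (by linarith)
      nlinarith
  have hkey : (k : ℤ) = 1 → N = q + 1 := by
    intro h
    have : k = 1 := by exact_mod_cast h
    rw [hk, this]; ring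
  rcases he3 with rfl | rfl
  · -- `d = q - 1`
    have hde : (q : ℤ) = d' + 1 := by push_cast at hq1; linarith
    rw [hde] at h3 hqZ hpos
    have hc1 : c ≠ 1 := fun h => by subst h; omega
    rcases eq_or_lt_of_le hjpos with h | h
    · exfalso; rw [← h] at h3; nlinarith
    rcases eq_or_lt_of_le (show (2 : ℤ) ≤ j by omega) with h' | h'
    · left
      rw [← h'] at h3
      exact hkey (by nlinarith)
    · right
      have hj3 : 3 ≤ j := by omega
      rcases Nat.lt_or_ge c 2 with h4 | h4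
      · obtain rfl : c = 0 := by omega
        have hd'2 : d' = 2 := by simp [hd']
        rw [hd'2] at h3
        have hj3' : j = 3 := by
          by_contra hne
          have : 4 ≤ j := by omega
          nlinarith
        rw [hj3'] at h3
        have hk3 : k = 3 := by
          have : (k : ℤ) = 3 := by linarith
          exact_mod_cast this
        have hq3 : q = 3 := by omega
        have ht : (t : ℤ) = 4 := by rw [hd'2] at hj; linarith
        refine ⟨hq3, rfl, ?_, by exact_mod_cast ht⟩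
        rw [hg, hk, hk3, hq3]
      · exfalso
        have : 4 ≤ d' := by
          have : (2 : ℤ) ≤ c := by exact_mod_cast h4
          rw [hd']; linarith
        nlinarith
  · -- `2 d = q - 1`
    left
    have hde : (q : ℤ) = 2 * d' + 1 := by push_cast at hq1; linarith
    rw [hde] at h3
    rcases eq_or_lt_of_le hjpos with h | h
    · rw [← h] at h3
      exact hkey (by linarith)
    · exfalso
      have : 2 ≤ j := by omega
      nlinarith

end Cfsg.Agent.PStable
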