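import Mathlib.LinearAlgebra.Matrix.SpecialLinearGroup
import Mathlib.LinearAlgebra.Matrix.Adjugate
import Mathlib.LinearAlgebra.Matrix.GeneralLinearGroup.Defs
import Mathlib.Algebra.CharP.Lemmas
import Mathlib.LinearAlgebra.Matrix.CharP
import Mathlib.GroupTheory.OrderOfElement
import Mathlib.Tactic.LinearCombination
import Mathlib.Tactic.FieldSimp

/-!
Elementary facts on `2 × 2` matrices of determinant one in odd characteristic.
-/

set_option autoImplicit false

namespace Cfsg.Agent.PStable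

open Matrix

variable {F : Type*} [Field F]

local notation "SL2" => Matrix.SpecialLinearGroup (Fin 2) F
local notation "M2" => Matrix (Fin 2) (Fin 2) F

/-- Upper unitriangular matrix. -/
def upp (b : F) : SL2 := ⟨!![1, b; 0, 1], by simp [Matrix.det_fin_two]⟩

/-- Lower unitriangular matrix. -/
def low (b : F) : SL2 := ⟨!![1, 0; b, 1], by simp [Matrix.det_fin_two]⟩

/-- The element is a scalar. -/
def IsSc (x : SL2) : Prop := ∃ c : F, (x : M2) = c • (1 : M2)

theorem upp_val (b : F) : ((upp b : SL2) : M2) = !![1, b; 0, 1] := rfl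
theorem low_val (b : F) : ((low b : SL2) : M2) = !![1, 0; b, 1] := rfl

theorem upp_mul (a b : F) : (upp a : SL2) * upp b = upp (a + b) := by
  apply Subtype.ext
  simp [upp_val, Matrix.mul_fin_two, add_comm]

theorem upp_zero : (upp 0 : SL2) = 1 := by
  apply Subtype.ext
  simp [upp_val, Matrix.one_fin_two]

theorem upp_inv (a : F) : (upp a : SL2)⁻¹ = upp (-a) := by
  rw [inv_eq_iff_mul_eq_one, upp_mul, add_neg_cancel, upp_zero]

theorem low_mul (a b : F) : (low a : SL2) * low b = low (a + b) := by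
  apply Subtype.ext
  simp [low_val, Matrix.mul_fin_two]

theorem upp_injective : Function.Injective (upp : F → SL2) := fun a b h => by
  simpa [upp_val] using congrArg (fun x : SL2 => (x : M2) 0 1) h

theorem det_one (x : SL2) : (x : M2) 0 0 * (x : M2) 1 1 - (x : M2) 0 1 * (x : M2) 1 0 = 1 := by
  rw [← Matrix.det_fin_two, x.2]

theorem ext2 {x y : M2} (h00 : x 0 0 = y 0 0) (h01 : x 0 1 = y 0 1) (h10 : x 1 0 = y 1 0)
    (h11 : x 1 1 = y 1 1) : x = y := by
  ext i j; fin_cases i <;> fin_cases j <;> assumption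

theorem isSc_iff {x : SL2} :
    IsSc x ↔ (x : M2) 0 1 = 0 ∧ (x : M2) 1 0 = 0 ∧ (x : M2) 0 0 = (x : M2) 1 1 := by
  constructor
  · rintro ⟨c, hc⟩; simp [hc]
  · rintro ⟨h1, h2, h3⟩
    exact ⟨(x : M2) 0 0, ext2 (by simp) (by simp [h1]) (by simp [h2]) (by simp [h3])⟩

theorem IsSc.commute {x : SL2} (hx : IsSc x) (y : SL2) : x * y = y * x := by
  obtain ⟨c, hc⟩ := hx
  apply Subtype.ext
  simp [hc]

theorem IsSc.eq_or_eq {x : SL2} (hx : IsSc x) : (x : M2) = 1 ∨ (x : M2) = -1 := by
  obtain ⟨c, hc⟩ := hx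
  have h := det_one x
  rw [hc] at h
  simp only [Matrix.smul_apply, Matrix.one_apply_eq, smul_eq_mul, mul_one] at h
  simp at h
  rcases mul_self_eq_one_iff.1 h with h | h
  · left; rw [hc, h, one_smul]
  · right; rw [hc, h, neg_one_smul]

theorem IsSc.conj {x : SL2} (hx : IsSc x) (g : SL2) : g * x * g⁻¹ = x := by
  rw [← hx.commute, mul_inv_cancel_right]

theorem isSc_conj_iff {x g : SL2} : IsSc (g * x * g⁻¹) ↔ IsSc x := by
  refine ⟨fun h => ?_, fun h => by rwa [h.conj]⟩
  have e := h.conj g⁻¹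
  rw [inv_inv, show g⁻¹ * (g * x * g⁻¹) * g = x by group] at e
  rwa [← e] at h

theorem isSc_mul {x y : SL2} (hx : IsSc x) (hy : IsSc y) : IsSc (x * y) := by
  obtain ⟨c, hc⟩ := hx
  obtain ⟨d, hd⟩ := hy
  exact ⟨c * d, by simp [hc, hd, smul_smul, mul_comm]⟩

theorem trace_conj (g x : SL2) : Matrix.trace ((g * x * g⁻¹ : SL2) : M2) = Matrix.trace (x : M2) := by
  rw [SpecialLinearGroup.coe_mul, SpecialLinearGroup.coe_mul, Matrix.trace_mul_comm, ← mul_assoc,
    ← SpecialLinearGroup.coe_mul, inv_mul_cancel, SpecialLinearGroup.coe_one, one_mul]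

theorem exists_repr {x y : SL2} (hx : ¬ IsSc x) (h : x * y = y * x) :
    ∃ α β : F, (y : M2) = α • (1 : M2) + β • (x : M2) := by
  have h' : (x : M2) * (y : M2) = (y : M2) * (x : M2) := congrArg Subtype.val h
  have e00 := congrFun (congrFun h' 0) 0
  have e01 := congrFun (congrFun h' 0) 1
  have e10 := congrFun (congrFun h' 1) 0
  simp only [Matrix.mul_apply, Fin.sum_univ_two] at e00 e01 e10
  by_cases hb : (x : M2) 0 1 = 0
  · by_cases hc : (x : M2) 1 0 = 0
    · have had : (x : M2) 0 0 - (x : M2) 1 1 ≠ 0 :=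
        sub_ne_zero.2 fun h' => hx (isSc_iff.2 ⟨hb, hc, h'⟩)
      obtain ⟨β, hβ⟩ : ∃ β : F, β * ((x : M2) 0 0 - (x : M2) 1 1) = (y : M2) 0 0 - (y : M2) 1 1 :=
        ⟨_, div_mul_cancel₀ _ had⟩
      refine ⟨(y : M2) 0 0 - β * (x : M2) 0 0, β, ext2 (by simp) ?_ ?_ ?_⟩
      · simp [hb]
        rw [hb] at e01
        exact (mul_eq_zero.1 (show ((x : M2) 0 0 - (x : M2) 1 1) * (y : M2) 0 1 = 0 by
          linear_combination e01)).resolve_left had
      · simp [hc]
        rw [hc] at e10
        exact (mul_eq_zero.1 (show ((x : M2) 0 0 - (x : M2) 1 1) * (y : M2) 1 0 = 0 by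
          linear_combination -e10)).resolve_left had
      · simp; linear_combination hβ
    · obtain ⟨β, hβ⟩ : ∃ β : F, β * (x : M2) 1 0 = (y : M2) 1 0 := ⟨_, div_mul_cancel₀ _ hc⟩
      refine ⟨(y : M2) 0 0 - β * (x : M2) 0 0, β, ext2 (by simp) ?_ ?_ ?_⟩
      · simp [hb]
        rw [hb] at e00
        exact (mul_eq_zero.1 (show (x : M2) 1 0 * (y : M2) 0 1 = 0 by
          linear_combination -e00)).resolve_left hc
      · simp; linear_combination -hβ
      · simp
        refine mul_left_cancel₀ hc ?_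
        linear_combination -e10 + ((x : M2) 0 0 - (x : M2) 1 1) * hβ
  · obtain ⟨β, hβ⟩ : ∃ β : F, β * (x : M2) 0 1 = (y : M2) 0 1 := ⟨_, div_mul_cancel₀ _ hb⟩
    refine ⟨(y : M2) 0 0 - β * (x : M2) 0 0, β, ext2 (by simp) ?_ ?_ ?_⟩
    · simp; linear_combination -hβ
    · simp
      refine mul_left_cancel₀ hb ?_
      linear_combination e00 - (x : M2) 1 0 * hβ
    · simp
      refine mul_left_cancel₀ hb ?_
      linear_combination e01 + ((x : M2) 0 0 - (x : M2) 1 1) * hβ

/-- Commuting with a non-scalar element is transitive. -/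
theorem commute_trans {x y w : SL2} (hx : ¬ IsSc x) (h1 : x * y = y * x) (h2 : x * w = w * x) :
    y * w = w * y := by
  obtain ⟨a, b, hy⟩ := exists_repr hx h1
  obtain ⟨c, d, hw⟩ := exists_repr hx h2
  apply Subtype.ext
  simp only [SpecialLinearGroup.coe_mul, hy, hw]
  have hc : Commute (a • (1 : M2) + b • (x : M2)) (c • (1 : M2) + d • (x : M2)) :=
    ((((Commute.one_left _).smul_left a).smul_right c).add_right
      (((Commute.one_left _).smul_left a).smul_right d)).add_left
    ((((Commute.one_right _).smul_left b).smul_right c).add_right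
      (((Commute.refl _).smul_left b).smul_right d))
  exact hc.eq

theorem commute_eq_or_inv (h2 : (2 : F) ≠ 0) {x y : SL2} (hx : ¬ IsSc x) (h : x * y = y * x)
    (htr : Matrix.trace (y : M2) = Matrix.trace (x : M2)) (hτ : Matrix.trace (x : M2) ^ 2 ≠ 4) :
    y = x ∨ y = x⁻¹ := by
  obtain ⟨α, β, hy⟩ := exists_repr hx h
  have hdx := det_one x
  have hdy := det_one y
  rw [Matrix.trace_fin_two] at hτ
  rw [hy, Matrix.trace_fin_two, Matrix.trace_fin_two] at htr
  rw [hy] at hdy
  simp [Matrix.add_apply, Matrix.smul_apply] at htr hdy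
  have h1 : (β - 1) * (β + 1) * (((x : M2) 0 0 + (x : M2) 1 1) ^ 2 - 4) = 0 := by
    linear_combination (2 * α + β * ((x : M2) 0 0 + (x : M2) 1 1) +
      ((x : M2) 0 0 + (x : M2) 1 1)) * htr - 4 * hdy + 4 * β ^ 2 * hdx
  rcases mul_eq_zero.1 h1 with h3 | h3
  · rcases mul_eq_zero.1 h3 with h4 | h4
    · left
      have hb : β = 1 := sub_eq_zero.1 h4
      have ha : α = 0 := (mul_eq_zero.1 (show (2 : F) * α = 0 by
        rw [hb] at htr; linear_combination htr)).resolve_left h2
      apply Subtype.ext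
      rw [hy, ha, hb, zero_smul, zero_add, one_smul]
    · right
      have hb : β = -1 := eq_neg_of_add_eq_zero_left h4
      have ha : α = (x : M2) 0 0 + (x : M2) 1 1 :=
        mul_left_cancel₀ h2 (by rw [hb] at htr; linear_combination htr)
      apply Subtype.ext
      rw [hy, SpecialLinearGroup.coe_inv, Matrix.adjugate_fin_two, ha, hb]
      exact ext2 (by simp) (by simp) (by simp) (by simp)
  · exact absurd (sub_eq_zero.1 h3) hτ

variable {p : ℕ} [hp : Fact p.Prime] [CharP F p]

theorem two_ne_zero' (hp2 : p ≠ 2) : (2 : F) ≠ 0 := Ring.two_ne_zero (by rwa [ringChar.eq F p])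

theorem upp_pow (a : F) : ∀ n : ℕ, (upp a : SL2) ^ n = upp (n * a)
  | 0 => by simp [upp_zero]
  | n + 1 => by rw [pow_succ, upp_pow a n, upp_mul, Nat.cast_succ, add_mul, one_mul]

theorem sub_sq_of_trace {x : SL2} {c : F} (hc : c * c = 1) (ht : Matrix.trace (x : M2) = 2 * c) :
    ((x : M2) - c • (1 : M2)) ^ 2 = 0 := by
  have hdx := det_one x
  rw [Matrix.trace_fin_two] at ht
  rw [pow_two]
  apply ext2 <;> simp [Matrix.mul_apply, Fin.sum_univ_two]
  · linear_combination (x : M2) 0 0 * ht - hdx + hc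
  · linear_combination (x : M2) 0 1 * ht
  · linear_combination (x : M2) 1 0 * ht
  · linear_combination (x : M2) 1 1 * ht - hdx + hc

/-- Trace `±2` means `± unipotent`. -/
theorem pow_isSc_of_trace (hp2 : p ≠ 2) {x : SL2} (ht : Matrix.trace (x : M2) ^ 2 = 4) :
    IsSc (x ^ p) := by
  set c := Matrix.trace (x : M2) / 2 with hc
  have h2 := two_ne_zero' (F := F) hp2
  have hc2 : c * c = 1 := by
    rw [hc]; field_simp; linear_combination ht
  have h := sub_sq_of_trace hc2 (x := x) (by rw [hc]; field_simp)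
  have h3 : ((x : M2) - c • (1 : M2)) ^ p = 0 := by
    obtain ⟨k, hk⟩ := Nat.exists_eq_add_of_le hp.out.two_le
    rw [hk, pow_add, h, zero_mul]
  rw [sub_pow_char_of_commute _ ((Commute.one_right _).smul_right c), sub_eq_zero, smul_pow,
    one_pow] at h3
  exact ⟨c ^ p, by rw [SpecialLinearGroup.coe_pow]; exact h3⟩

theorem trace_of_pow_char {x : SL2} (h : x ^ p = 1) : Matrix.trace (x : M2) = 2 := by
  have h1 : ((x : M2) - 1) ^ p = 0 := by
    rw [sub_pow_char_of_commute _ (Commute.one_right _), one_pow, ← SpecialLinearGroup.coe_pow, h,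
      SpecialLinearGroup.coe_one, sub_self]
  have h2 : Matrix.det ((x : M2) - 1) = 0 := by
    have h3 := congrArg Matrix.det h1
    rw [Matrix.det_pow, Matrix.det_zero] at h3
    exact pow_eq_zero_iff hp.out.ne_zero |>.1 h3
  have hdx := det_one x
  rw [Matrix.det_fin_two] at h2
  rw [Matrix.trace_fin_two]
  simp at h2
  linear_combination hdx - h2

theorem isSc_eq_one_of_pow (hp2 : p ≠ 2) {x : SL2} (hx : IsSc x) (h : x ^ p = 1) : x = 1 := by
  rcases hx.eq_or_eq with h1 | h1
  · exact Subtype.ext h1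
  · exfalso
    have h2 := congrArg Subtype.val h
    rw [SpecialLinearGroup.coe_pow, SpecialLinearGroup.coe_one, h1,
      (hp.out.odd_of_ne_two hp2).neg_one_pow] at h2
    have h3 := congrFun (congrFun h2 0) 0
    simp at h3
    exact two_ne_zero' (F := F) hp2 (by linear_combination -h3)

/-- An element of order `p` is conjugate in `GL₂` to `upp 1`. -/
theorem exists_conj_upp {x : SL2} (h : x ^ p = 1) (hx : x ≠ 1) :
    ∃ g : GL (Fin 2) F, (x : M2) * (g : M2) = (g : M2) * (upp 1 : SL2) := by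
  have ht := trace_of_pow_char h
  have hdx := det_one x
  rw [Matrix.trace_fin_two] at ht
  by_cases hc : (x : M2) 1 0 = 0
  · have ha : (x : M2) 0 0 = 1 := by
      have h1 : ((x : M2) 0 0 - 1) * ((x : M2) 0 0 - 1) = 0 := by
        linear_combination (x : M2) 0 0 * ht - hdx - (x : M2) 0 1 * hc
      exact sub_eq_zero.1 (mul_self_eq_zero.1 h1)
    have hd : (x : M2) 1 1 = 1 := by linear_combination ht - ha
    have hb : (x : M2) 0 1 ≠ 0 := fun hb => hx (Subtype.ext (ext2 (by simp [ha]) (by simp [hb])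
      (by simp [hc]) (by simp [hd])))
    refine ⟨Matrix.GeneralLinearGroup.mkOfDetNeZero !![(x : M2) 0 1, 0; 0, 1]
      (by simp [Matrix.det_fin_two, hb]), ?_⟩
    apply ext2 <;> simp [upp_val, Matrix.mul_apply, Fin.sum_univ_two, ha, hc, hd]
  · refine ⟨Matrix.GeneralLinearGroup.mkOfDetNeZero !![(x : M2) 0 0 - 1, 1; (x : M2) 1 0, 0]
      (by simp [Matrix.det_fin_two, hc]), ?_⟩
    apply ext2 <;> simp [upp_val, Matrix.mul_apply, Fin.sum_univ_two]
    · linear_combination (x : M2) 0 0 * ht - hdx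
    · linear_combination (x : M2) 1 0 * ht

end Cfsg.Agent.PStable
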