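import Mathlib.GroupTheory.Sylow
import Mathlib.GroupTheory.Index
import Mathlib.GroupTheory.QuotientGroup.Basic
import Mathlib.Data.ZMod.Basic
import Mathlib.Algebra.Algebra.ZMod
import Mathlib.Tactic.Linarith
import Cfsg.Agent.Lib.Classical.SL
import Cfsg.Agent.Lib.PStable.SL2Basic
import Cfsg.Agent.Lib.PStable.DicksonCount

/-!
Dickson: in odd characteristic `p`, a finite subgroup of `SL₂` with two noncommuting elements of
order `p` contains a conjugate of `SL₂(p)`.
-/

set_option autoImplicit false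
set_option linter.style.haveILetI false

namespace Cfsg.Agent.PStable

open Matrix

variable {F : Type*} [Field F]

local notation "SL2" => Matrix.SpecialLinearGroup (Fin 2) F
local notation "M2" => Matrix (Fin 2) (Fin 2) F

/-- The scalars in `H`. -/
def scPart (H : Subgroup SL2) : Subgroup SL2 where
  carrier := {x | x ∈ H ∧ IsSc x}
  one_mem' := ⟨H.one_mem, 1, by simp⟩
  mul_mem' ha hb := ⟨H.mul_mem ha.1 hb.1, isSc_mul ha.2 hb.2⟩
  inv_mem' {a} ha := by
    have h2 : (a : M2) * (a : M2) = 1 := by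
      rcases ha.2.eq_or_eq with h | h <;> rw [h] <;> simp
    have h : a⁻¹ = a := inv_eq_of_mul_eq_one_right
      (Subtype.ext ((Matrix.SpecialLinearGroup.coe_mul a a).trans h2))
    rw [h]; exact ha

/-- The centralizer of `x` in `H`. -/
def cent (H : Subgroup SL2) (x : SL2) : Subgroup SL2 := H ⊓ Subgroup.centralizer {x}

/-- The normalizer in `H` of that centralizer. -/
def nz (H : Subgroup SL2) (x : SL2) : Subgroup SL2 :=
  H ⊓ Subgroup.normalizer (cent H x : Set SL2)

/-- The non-scalar elements of `H` whose centralizer is conjugate to that of `x`. -/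
def cls (H : Subgroup SL2) (x : SL2) : Set SL2 :=
  {y | y ∈ H ∧ ¬ IsSc y ∧ ∃ h ∈ H, h⁻¹ * y * h ∈ cent H x}

theorem mem_cent {H : Subgroup SL2} {x y : SL2} : y ∈ cent H x ↔ y ∈ H ∧ y * x = x * y := by
  rw [cent, Subgroup.mem_inf, Subgroup.mem_centralizer_singleton_iff]

theorem scPart_le_cent (H : Subgroup SL2) (x : SL2) : scPart H ≤ cent H x :=
  fun _ hy => mem_cent.2 ⟨hy.1, hy.2.commute x⟩

theorem cent_eq_of_mem {H : Subgroup SL2} {x y : SL2} (hx : ¬ IsSc x) (hy : ¬ IsSc y)
    (h : y ∈ cent H x) : cent H y = cent H x := by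
  obtain ⟨-, h⟩ := mem_cent.1 h
  ext w
  simp only [mem_cent]
  refine and_congr_right fun _ => ⟨fun hw => ?_, fun hw => ?_⟩
  · exact commute_trans hy hw.symm h
  · exact commute_trans hx hw.symm h.symm

theorem cent_le_nz (H : Subgroup SL2) (x : SL2) : cent H x ≤ nz H x :=
  le_inf inf_le_left Subgroup.le_normalizer

theorem mem_cent_conj {H : Subgroup SL2} {x y h : SL2} (hh : h ∈ H) :
    h * y * h⁻¹ ∈ cent H (h * x * h⁻¹) ↔ y ∈ cent H x := by
  rw [mem_cent, mem_cent]
  refine and_congr ⟨fun hy => ?_, fun hy => H.mul_mem (H.mul_mem hh hy) (H.inv_mem hh)⟩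
    ⟨fun hy => ?_, fun hy => ?_⟩
  · have := H.mul_mem (H.mul_mem (H.inv_mem hh) hy) hh
    rwa [show h⁻¹ * (h * y * h⁻¹) * h = y by group] at this
  · rw [show h * y * h⁻¹ * (h * x * h⁻¹) = h * (y * x) * h⁻¹ by group,
      show h * x * h⁻¹ * (h * y * h⁻¹) = h * (x * y) * h⁻¹ by group] at hy
    exact mul_left_cancel (mul_right_cancel hy)
  · rw [show h * y * h⁻¹ * (h * x * h⁻¹) = h * (y * x) * h⁻¹ by group, hy]; group

theorem mem_nz_of_conj_mem {H : Subgroup SL2} {x y k : SL2} (hx : ¬ IsSc x) (hk : k ∈ H)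
    (hy : y ∈ cent H x) (hys : ¬ IsSc y) (h : k * y * k⁻¹ ∈ cent H x) : k ∈ nz H x := by
  refine Subgroup.mem_inf.2 ⟨hk, ?_⟩
  have h1 : cent H (k * y * k⁻¹) = cent H x := cent_eq_of_mem hx (by rwa [isSc_conj_iff]) h
  have h2 : cent H y = cent H x := cent_eq_of_mem hx hys hy
  rw [Subgroup.mem_normalizer_iff]
  intro w
  conv_lhs => rw [← h2]
  rw [← h1, mem_cent_conj hk]

theorem cls_card [Finite F] {H : Subgroup SL2} {x : SL2} (hx : ¬ IsSc x) :
    (cls H x).ncard * Nat.card (nz H x) =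
      Nat.card H * ((cent H x : Set SL2) \ scPart H).ncard := by
  classical
  rw [← Nat.card_coe_set_eq, ← Nat.card_coe_set_eq, ← Nat.card_prod, ← Nat.card_prod]
  have hw : ∀ w : cls H x, ∃ h ∈ H, h⁻¹ * (w : SL2) * h ∈ cent H x := fun w => w.2.2.2
  choose r hrH hr using hw
  have hr' : ∀ w w' : cls H x, (w : SL2) = w' → r w = r w' := fun w w' h => by rw [Subtype.ext h]
  have hns : ∀ (g y : SL2), ¬ IsSc y → ¬ IsSc (g⁻¹ * y * g) := fun g y hy hsc => hy (by
    have := (isSc_conj_iff (g := g⁻¹) (x := y)).1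
    rw [inv_inv] at this
    exact this hsc)
  have hto : ∀ a : cls H x × nz H x,
      (a.2 : SL2)⁻¹ * ((r a.1)⁻¹ * (a.1 : SL2) * r a.1) * a.2 ∈
        ((cent H x : Set SL2) \ scPart H) := fun a => by
    refine ⟨?_, fun h => hns _ _ (hns _ _ a.1.2.2.1) h.2⟩
    have := (Subgroup.mem_normalizer_iff.1
      (Subgroup.inv_mem _ (Subgroup.mem_inf.1 a.2.2).2) ((r a.1)⁻¹ * (a.1 : SL2) * r a.1)).1 (hr a.1)
    rwa [inv_inv] at this
  have hcl : ∀ b : H × ↥((cent H x : Set SL2) \ scPart H),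
      (b.1 : SL2) * b.2 * (b.1 : SL2)⁻¹ ∈ cls H x := fun b => by
    refine ⟨H.mul_mem (H.mul_mem b.1.2 (mem_cent.1 b.2.2.1).1) (H.inv_mem b.1.2),
      fun h => b.2.2.2 ⟨(mem_cent.1 b.2.2.1).1, isSc_conj_iff.1 h⟩, b.1, b.1.2, ?_⟩
    rw [show (b.1 : SL2)⁻¹ * ((b.1 : SL2) * b.2 * (b.1 : SL2)⁻¹) * b.1 = b.2 by group]
    exact b.2.2.1
  have hnz : ∀ b : H × ↥((cent H x : Set SL2) \ scPart H),
      (r ⟨_, hcl b⟩)⁻¹ * (b.1 : SL2) ∈ nz H x := fun b => by
    refine mem_nz_of_conj_mem hx (H.mul_mem (H.inv_mem (hrH _)) b.1.2) b.2.2.1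
      (fun h => b.2.2.2 ⟨(mem_cent.1 b.2.2.1).1, h⟩) ?_
    convert hr ⟨_, hcl b⟩ using 1
    group
  refine Nat.card_congr
    { toFun := fun a => ⟨⟨r a.1 * a.2, H.mul_mem (hrH a.1) (Subgroup.mem_inf.1 a.2.2).1⟩, ⟨_, hto a⟩⟩
      invFun := fun b => ⟨⟨_, hcl b⟩, ⟨_, hnz b⟩⟩
      left_inv := ?_
      right_inv := ?_ }
  · intro a
    have e : ∀ q, q = r a.1 → (r a.1 * (a.2 : SL2)) * ((a.2 : SL2)⁻¹ * (q⁻¹ * (a.1 : SL2) * q) * a.2) *
        (r a.1 * (a.2 : SL2))⁻¹ = a.1 := by rintro q rfl; group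
    refine Prod.ext (Subtype.ext (e _ rfl)) (Subtype.ext ?_)
    show (r ⟨_, _⟩)⁻¹ * (r a.1 * (a.2 : SL2)) = _
    rw [hr' _ a.1 (e _ rfl)]
    group
  · intro b
    refine Prod.ext (Subtype.ext ?_) (Subtype.ext ?_)
    · simp only; group
    · simp only; group

theorem cls_disjoint {H : Subgroup SL2} {x y : SL2} (hx : ¬ IsSc x) (hy : ¬ IsSc y) (hyH : y ∈ H)
    (h : y ∉ cls H x) : Disjoint (cls H x) (cls H y) := by
  rw [Set.disjoint_left]
  rintro w ⟨-, hws, k, hk, hkw⟩ ⟨-, -, l, hl, hlw⟩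
  apply h
  have hn : ∀ g : SL2, ¬ IsSc (g⁻¹ * w * g) := fun g hsc => hws (by
    have := (isSc_conj_iff (g := g⁻¹) (x := w)).1
    rw [inv_inv] at this
    exact this hsc)
  have h1 := cent_eq_of_mem hx (hn k) hkw
  have h2 := cent_eq_of_mem hy (hn l) hlw
  have hyy : y ∈ cent H (l⁻¹ * w * l) := h2 ▸ mem_cent.2 ⟨hyH, rfl⟩
  refine ⟨hyH, hy, l⁻¹ * k, H.mul_mem (H.inv_mem hl) hk, ?_⟩
  rw [← h1]
  have h3 := (mem_cent_conj (h := (l⁻¹ * k)⁻¹) (H.inv_mem (H.mul_mem (H.inv_mem hl) hk))).2 hyy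
  convert h3 using 2 <;> group

theorem cls_sum_le [Finite F] {H : Subgroup SL2} (L : List SL2)
    (hL : L.Pairwise fun a b => Disjoint (cls H a) (cls H b)) :
    (L.map fun a => (cls H a).ncard).sum + Nat.card (scPart H) ≤ Nat.card H := by
  have key : ∀ (L : List SL2), L.Pairwise (fun a b => Disjoint (cls H a) (cls H b)) →
      (L.map fun a => (cls H a).ncard).sum = (⋃ a ∈ L, cls H a).ncard := by
    intro L
    induction L with
    | nil => simp
    | cons a L ih =>
      intro h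
      obtain ⟨h1, h2⟩ := List.pairwise_cons.1 h
      rw [List.map_cons, List.sum_cons, ih h2]
      have e : (⋃ b ∈ a :: L, cls H b) = cls H a ∪ ⋃ b ∈ L, cls H b := by
        ext w; simp
      rw [e, Set.ncard_union_eq (Set.disjoint_iUnion₂_right.2 h1) (Set.toFinite _) (Set.toFinite _)]
  rw [key L hL]
  have hd : Disjoint (⋃ a ∈ L, cls H a) (scPart H : Set SL2) := by
    rw [Set.disjoint_left]
    intro w hw hsc
    simp only [Set.mem_iUnion] at hw
    obtain ⟨a, -, -, hws, -⟩ := hw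
    exact hws hsc.2
  have hsub : (⋃ a ∈ L, cls H a) ∪ (scPart H : Set SL2) ⊆ (H : Set SL2) := by
    refine Set.union_subset ?_ fun w hw => hw.1
    intro w hw
    simp only [Set.mem_iUnion] at hw
    obtain ⟨a, -, hw, -⟩ := hw
    exact hw
  have := Set.ncard_le_ncard hsub (Set.toFinite _)
  rwa [Set.ncard_union_eq hd (Set.toFinite _) (Set.toFinite _)] at this

theorem cls_sum_eq [Finite F] {H : Subgroup SL2} (L : List SL2)
    (hL : L.Pairwise fun a b => Disjoint (cls H a) (cls H b))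
    (hcov : ∀ y ∈ H, ¬ IsSc y → ∃ a ∈ L, y ∈ cls H a) :
    (L.map fun a => (cls H a).ncard).sum + Nat.card (scPart H) = Nat.card H := by
  refine le_antisymm (cls_sum_le L hL) ?_
  have key : ∀ (L : List SL2), (⋃ a ∈ L, cls H a).ncard ≤ (L.map fun a => (cls H a).ncard).sum := by
    intro L
    induction L with
    | nil => simp
    | cons a L ih =>
      have e : (⋃ b ∈ a :: L, cls H b) = cls H a ∪ ⋃ b ∈ L, cls H b := by
        ext w; simp
      rw [e, List.map_cons, List.sum_cons]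
      exact (Set.ncard_union_le _ _).trans (Nat.add_le_add_left ih _)
  have hsub : (H : Set SL2) ⊆ (⋃ a ∈ L, cls H a) ∪ (scPart H : Set SL2) := by
    intro w hw
    by_cases hs : IsSc w
    · exact Or.inr ⟨hw, hs⟩
    · obtain ⟨a, ha, hwa⟩ := hcov w hw hs
      exact Or.inl (Set.mem_iUnion₂.2 ⟨a, ha, hwa⟩)
  exact (Set.ncard_le_ncard hsub (Set.toFinite _)).trans ((Set.ncard_union_le _ _).trans
    (Nat.add_le_add_right (key L) _))

/-! ### Coordinates -/

/-- The translations in `H`. -/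
def addPart (H : Subgroup SL2) : AddSubgroup F where
  carrier := {a | upp a ∈ H}
  zero_mem' := by simp [upp_zero]
  add_mem' {a b} ha hb := by
    show upp (a + b) ∈ H
    rw [← upp_mul]; exact H.mul_mem ha hb
  neg_mem' {a} ha := by
    show upp (-a) ∈ H
    rw [← upp_inv]; exact H.inv_mem ha

/-- The upper triangular part of `H`. -/
def borel (H : Subgroup SL2) : Subgroup SL2 where
  carrier := {x | x ∈ H ∧ (x : M2) 1 0 = 0}
  one_mem' := ⟨H.one_mem, by simp⟩
  mul_mem' {a b} ha hb := ⟨H.mul_mem ha.1 hb.1, by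
    simp [Matrix.mul_apply, Fin.sum_univ_two, ha.2, hb.2]⟩
  inv_mem' {a} ha := ⟨H.inv_mem ha.1, by
    simp [Matrix.SpecialLinearGroup.coe_inv, Matrix.adjugate_fin_two, ha.2]⟩

/-- The finite points of the orbit of the first coordinate line. -/
def points (H : Subgroup SL2) : Set F :=
  {r | ∃ h ∈ H, (h : M2) 1 0 ≠ 0 ∧ (h : M2) 0 0 / (h : M2) 1 0 = r}

theorem mem_borel_iff {H : Subgroup SL2} {x : SL2} : x ∈ borel H ↔ x ∈ H ∧ (x : M2) 1 0 = 0 :=
  Iff.rfl

theorem borel_eq_upp {H : Subgroup SL2} {x : SL2} (hx : x ∈ borel H) (h : (x : M2) 0 0 = 1) :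
    ∃ a ∈ addPart H, x = upp a := by
  have hd := det_one x
  rw [hx.2, h, one_mul, mul_zero, sub_zero] at hd
  have e : x = upp ((x : M2) 0 1) :=
    Subtype.ext (ext2 (by simp [upp_val, h]) (by simp [upp_val]) (by simp [upp_val, hx.2])
      (by simp [upp_val, hd]))
  exact ⟨_, show upp ((x : M2) 0 1) ∈ H from e ▸ hx.1, e⟩

theorem card_cosets [Finite F] (H : Subgroup SL2) :
    Nat.card H = ((points H).ncard + 1) * Nat.card (borel H) := by
  classical
  set B := (borel H).subgroupOf H with hB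
  have hcardB : Nat.card B = Nat.card (borel H) :=
    Nat.card_congr (Subgroup.subgroupOfEquivOfLe (show borel H ≤ H from fun x hx => hx.1)).toEquiv
  let pt : H → Option F := fun h =>
    if ((h : SL2) : M2) 1 0 = 0 then none
    else some (((h : SL2) : M2) 0 0 / ((h : SL2) : M2) 1 0)
  have hiff : ∀ a b : H, a⁻¹ * b ∈ B ↔ pt a = pt b := by
    intro a b
    rw [hB, Subgroup.mem_subgroupOf, mem_borel_iff, and_iff_right ((a⁻¹ * b : H).2)]
    simp only [pt, Subgroup.coe_mul, Subgroup.coe_inv, Matrix.SpecialLinearGroup.coe_mul,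
      Matrix.SpecialLinearGroup.coe_inv, Matrix.adjugate_fin_two, Matrix.mul_apply, Fin.sum_univ_two]
    have hda := det_one (a : SL2)
    have hdb := det_one (b : SL2)
    simp only [Matrix.of_apply, Matrix.cons_val', Matrix.cons_val_zero, Matrix.cons_val_one,
      Matrix.cons_val_fin_one, Matrix.empty_val']
    by_cases ha : ((a : SL2) : M2) 1 0 = 0 <;> by_cases hb : ((b : SL2) : M2) 1 0 = 0
    · simp [ha, hb]
    · simp only [ha, hb, if_true, if_false, neg_zero, zero_mul, zero_add, reduceCtorEq, iff_false]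
      refine mul_ne_zero (fun h0 => ?_) hb
      rw [h0, ha] at hda; simp at hda
    · simp only [ha, hb, if_true, if_false, mul_zero, add_zero, reduceCtorEq, iff_false]
      refine mul_ne_zero (neg_ne_zero.2 ha) (fun h0 => ?_)
      rw [h0, hb] at hdb; simp at hdb
    · simp only [ha, hb, if_false, Option.some.injEq, div_eq_div_iff ha hb]
      constructor <;> intro h <;> linear_combination h
  let f : H ⧸ B → Option F := fun q => Quotient.liftOn' q pt fun a b hab =>
    (hiff a b).1 (QuotientGroup.leftRel_apply.1 hab)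
  have hfinj : Function.Injective f := by
    intro x y
    induction x using Quotient.inductionOn'
    induction y using Quotient.inductionOn'
    intro h
    exact Quotient.sound' (QuotientGroup.leftRel_apply.2 ((hiff _ _).2 h))
  have hrange : Set.range f = insert none (some '' points H) := by
    ext o
    constructor
    · rintro ⟨q, rfl⟩
      induction q using Quotient.inductionOn' with
      | h a =>
        show pt a ∈ _
        simp only [pt]
        split_ifs with ha
        · exact Set.mem_insert _ _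
        · exact Set.mem_insert_of_mem _ ⟨_, ⟨a, a.2, ha, rfl⟩, rfl⟩
    · rintro (rfl | ⟨r, ⟨h, hh, h0, rfl⟩, rfl⟩)
      · exact ⟨Quotient.mk'' 1, show pt 1 = none by simp [pt]⟩
      · exact ⟨Quotient.mk'' ⟨h, hh⟩, show pt ⟨h, hh⟩ = _ by simp [pt, h0]⟩
  have hidx : B.index = (points H).ncard + 1 := by
    rw [Subgroup.index, ← Set.ncard_range_of_injective hfinj, hrange,
      Set.ncard_insert_of_notMem (by simp) (Set.toFinite _),
      Set.ncard_image_of_injective _ (Option.some_injective F)]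
  rw [← B.card_mul_index, hcardB, hidx, mul_comm]

theorem points_add {H : Subgroup SL2} {r a : F} (hr : r ∈ points H) (ha : a ∈ addPart H) :
    a + r ∈ points H := by
  obtain ⟨h, hh, h0, rfl⟩ := hr
  refine ⟨upp a * h, H.mul_mem ha hh, ?_, ?_⟩
  · simpa [upp_val, Matrix.mul_apply, Fin.sum_univ_two] using h0
  · simp [upp_val, Matrix.mul_apply, Fin.sum_univ_two]
    field_simp
    ring

theorem card_dvd_points [Finite F] (H : Subgroup SL2) :
    Nat.card (addPart H) ∣ (points H).ncard := by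
  set A := addPart H with hA
  set T : Set (F ⧸ A) := (QuotientAddGroup.mk : F → F ⧸ A) '' points H
  have h : points H = (QuotientAddGroup.mk : F → F ⧸ A) ⁻¹' T := by
    refine Set.Subset.antisymm (fun r hr => ⟨r, hr, rfl⟩) ?_
    rintro r ⟨r', hr', hrr⟩
    have := points_add hr' (QuotientAddGroup.eq.1 hrr)
    rwa [show -r' + r + r' = r by ring] at this
  refine Dvd.intro (Nat.card T) ?_
  rw [h, ← Nat.card_coe_set_eq, Nat.card_congr (QuotientAddGroup.preimageMkEquivAddSubgroupProdSet A T),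
    Nat.card_prod]

theorem finish [Finite F] {p : ℕ} [Fact p.Prime] [CharP F p] {H : Subgroup SL2}
    (hone : (1 : F) ∈ addPart H) (hzero : (0 : F) ∈ points H)
    (hcard : (points H).ncard = Nat.card (addPart H)) :
    low 1 ∈ H := by
  have hpts : points H = (addPart H : Set F) := by
    refine (Set.eq_of_subset_of_ncard_le (fun a ha => ?_) ?_ (Set.toFinite _)).symm
    · simpa using points_add hzero ha
    · rw [hcard, ← Nat.card_coe_set_eq]
      exact le_rfl
  obtain ⟨h, hh, h10, h00⟩ := hzero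
  rw [div_eq_zero_iff, or_iff_left h10] at h00
  -- make the anti-diagonal element
  have hinv : (-((h : M2) 1 1) / (h : M2) 1 0) ∈ addPart H := by
    rw [← SetLike.mem_coe, ← hpts]
    refine ⟨h⁻¹, H.inv_mem hh, ?_, ?_⟩
    · simp [Matrix.SpecialLinearGroup.coe_inv, Matrix.adjugate_fin_two, h10]
    · simp [Matrix.SpecialLinearGroup.coe_inv, Matrix.adjugate_fin_two]
      field_simp
  set w : SL2 := h * upp (-((h : M2) 1 1) / (h : M2) 1 0) with hw
  have hwH : w ∈ H := H.mul_mem hh hinv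
  have w00 : (w : M2) 0 0 = 0 := by simp [hw, upp_val, Matrix.mul_apply, Fin.sum_univ_two, h00]
  have w11 : (w : M2) 1 1 = 0 := by
    simp [hw, upp_val, Matrix.mul_apply, Fin.sum_univ_two]
    field_simp
    ring
  have hdw := det_one w
  rw [w00, w11, zero_mul, zero_sub] at hdw
  set b := (w : M2) 0 1 with hb
  set e := (w : M2) 1 0 with he
  have hwval : (w : M2) = !![0, b; e, 0] :=
    ext2 (by simp [w00]) (by simp [hb]) (by simp [he]) (by simp [w11])
  have hb0 : b ≠ 0 := fun h0 => by rw [h0, zero_mul, neg_zero] at hdw; exact zero_ne_one hdw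
  have he0 : e ≠ 0 := fun h0 => by rw [h0, mul_zero, neg_zero] at hdw; exact zero_ne_one hdw
  have hc : b / e ∈ addPart H := by
    rw [← SetLike.mem_coe, ← hpts]
    refine ⟨w * upp 1 * w, H.mul_mem (H.mul_mem hwH hone) hwH, ?_, ?_⟩
    · simp [hwval, upp_val, Matrix.mul_apply, Fin.sum_univ_two, he0]
    · simp [hwval, upp_val, Matrix.mul_apply, Fin.sum_univ_two]
      field_simp
  have hmem : w * upp (b / e) * w⁻¹ ∈ H := H.mul_mem (H.mul_mem hwH hc) (H.inv_mem hwH)
  have e1 : w * upp (b / e) * w⁻¹ = low 1 := by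
    rw [mul_inv_eq_iff_eq_mul]
    apply Subtype.ext
    simp only [Matrix.SpecialLinearGroup.coe_mul, hwval, upp_val, low_val]
    apply ext2 <;> simp [Matrix.mul_apply, Fin.sum_univ_two]
    field_simp
  rwa [e1] at hmem

end Cfsg.Agent.PStable
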