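import Mathlib.GroupTheory.Sylow
import Mathlib.GroupTheory.PGroup
import Mathlib.GroupTheory.QuotientGroup.Finite
import Mathlib.Algebra.CharP.Basic
import Cfsg.Agent.Lib.Classical.SL
import Cfsg.Agent.Lib.PStable.Dickson

/-!
Dickson's theorem: a finite subgroup of `SL₂` in odd characteristic `p` with two noncommuting
elements of order `p` contains a conjugate of `SL₂(p)`.
-/

set_option autoImplicit false
set_option linter.style.haveILetI false
set_option maxHeartbeats 800000

namespace Cfsg.Agent.PStable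

open Matrix
open scoped Pointwise

variable {F : Type*} [Field F]

local notation "SL2" => Matrix.SpecialLinearGroup (Fin 2) F
local notation "M2" => Matrix (Fin 2) (Fin 2) F

/-- Conjugation by an element of `GL₂`. -/
def conjGL (g : GL (Fin 2) F) : SL2 →* SL2 where
  toFun x := ⟨((g⁻¹ : GL (Fin 2) F) : M2) * (x : M2) * (g : M2), by
    rw [Matrix.det_mul, Matrix.det_mul, x.2, mul_one, ← Matrix.det_mul, ← Units.val_mul,
      inv_mul_cancel, Units.val_one, Matrix.det_one]⟩
  map_one' := Subtype.ext (by simp)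
  map_mul' x y := Subtype.ext (by
    show _ = _ * _
    simp [Matrix.SpecialLinearGroup.coe_mul, mul_assoc, Units.mul_inv_cancel_left])

theorem conjGL_val (g : GL (Fin 2) F) (x : SL2) :
    ((conjGL g x : SL2) : M2) = ((g⁻¹ : GL (Fin 2) F) : M2) * (x : M2) * (g : M2) := rfl

theorem conjGL_comp (g h : GL (Fin 2) F) (x : SL2) :
    conjGL (g * h) x = conjGL h (conjGL g x) := by
  apply Subtype.ext
  simp only [conjGL_val, _root_.mul_inv_rev, Units.val_mul, mul_assoc]

theorem conjGL_one (x : SL2) : conjGL 1 x = x := Subtype.ext (by simp [conjGL_val])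

theorem conjGL_injective (g : GL (Fin 2) F) : Function.Injective (conjGL g) :=
  Function.LeftInverse.injective (g := conjGL g⁻¹) fun x => by
    rw [← conjGL_comp, mul_inv_cancel, conjGL_one]

variable {p : ℕ} [hp : Fact p.Prime] [CharP F p]

theorem upp_pow_char (a : F) : (upp a : SL2) ^ p = 1 := by
  rw [upp_pow, CharP.cast_eq_zero, zero_mul, upp_zero]

theorem not_isSc_upp {a : F} (ha : a ≠ 0) : ¬ IsSc (upp a : SL2) := fun h => by
  simpa [upp_val, ha] using (isSc_iff.1 h).1

theorem mem_cent_upp_iff {H : Subgroup SL2} {x : SL2} :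
    x ∈ cent H (upp 1) ↔ x ∈ H ∧ (x : M2) 1 0 = 0 ∧ (x : M2) 0 0 = (x : M2) 1 1 := by
  rw [mem_cent, and_congr_right_iff]
  intro _
  constructor
  · intro h
    have h' : (x : M2) * (upp 1 : SL2) = ((upp 1 : SL2) : M2) * x := congrArg Subtype.val h
    have e00 := congrFun (congrFun h' 0) 0
    have e01 := congrFun (congrFun h' 0) 1
    simp [upp_val, Matrix.mul_apply, Fin.sum_univ_two] at e00 e01
    exact ⟨e00, by linear_combination e01⟩
  · rintro ⟨h1, h2⟩
    apply Subtype.ext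
    simp only [Matrix.SpecialLinearGroup.coe_mul, upp_val]
    apply ext2 <;> simp [Matrix.mul_apply, Fin.sum_univ_two, h1, h2, add_comm]

theorem borel_conj_upp {H : Subgroup SL2} {x : SL2} (hx : x ∈ borel H) (a : F) :
    x * upp a * x⁻¹ = upp ((x : M2) 0 0 ^ 2 * a) := by
  rw [mul_inv_eq_iff_eq_mul]
  apply Subtype.ext
  simp only [Matrix.SpecialLinearGroup.coe_mul, upp_val]
  have hd := det_one x
  rw [hx.2, mul_zero, sub_zero] at hd
  apply ext2 <;> simp [Matrix.mul_apply, Fin.sum_univ_two, hx.2]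
  linear_combination -((x : M2) 0 0 * a) * hd

theorem card_scPart_le [Finite F] (H : Subgroup SL2) : Nat.card (scPart H) ≤ 2 := by
  classical
  refine le_trans (Nat.card_le_card_of_injective
    (fun x : scPart H => decide (((x : SL2) : M2) = 1)) ?_) (by simp)
  intro x y hxy
  have hiff := decide_eq_decide.1 hxy
  apply Subtype.ext
  apply Subtype.ext
  rcases x.2.2.eq_or_eq with hx | hx
  · rw [hx, hiff.1 hx]
  · rcases y.2.2.eq_or_eq with hy | hy
    · rw [hy, hiff.2 hy]
    · rw [hx, hy]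

theorem exists_class_data [Finite F] (hp2 : p ≠ 2) {H : Subgroup SL2} {x : SL2} (hxH : x ∈ H)
    (hx : ¬ IsSc x) (hτ : Matrix.trace (x : M2) ^ 2 ≠ 4) {g z : ℕ}
    (hz : Nat.card (scPart H) = z) (hH : Nat.card H = g * z) :
    ∃ M s t, (s = 1 ∨ s = 2) ∧ 1 ≤ t ∧ M * (s * (t + 1)) = g ∧
      (cls H x).ncard = z * (M * t) ∧ Nat.card (cent H x) = z * (t + 1) ∧
      Nat.card (nz H x) = s * Nat.card (cent H x) := by
  classical
  have hz0 : 0 < z := hz ▸ Nat.card_pos
  obtain ⟨h', hh'⟩ := Subgroup.card_dvd_of_le (scPart_le_cent H x)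
  rw [hz] at hh'
  have hlt : z < Nat.card (cent H x) := by
    rw [← hz]
    refine Set.ncard_lt_ncard (SetLike.coe_ssubset_coe.2
      (lt_of_le_of_ne (scPart_le_cent H x) fun h => hx ?_)) (Set.toFinite _)
    have : x ∈ scPart H := h ▸ mem_cent.2 ⟨hxH, rfl⟩
    exact this.2
  obtain ⟨t, rfl⟩ : ∃ t, h' = t + 1 := ⟨h' - 1, by
    rcases Nat.eq_zero_or_pos h' with h0 | h0
    · rw [h0, mul_zero] at hh'; omega
    · omega⟩
  have ht : 1 ≤ t := by
    rcases Nat.eq_zero_or_pos t with h0 | h0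
    · rw [h0] at hh'; omega
    · exact h0
  obtain ⟨s, hs⟩ := Subgroup.card_dvd_of_le (cent_le_nz H x)
  have hs2 : s ≤ 2 := by
    by_cases hall : ∀ n ∈ nz H x, n ∈ cent H x
    · have h1 := Subgroup.card_le_of_le (show nz H x ≤ cent H x from hall)
      nlinarith [Nat.card_pos (α := cent H x)]
    push Not at hall
    obtain ⟨n₁, hn₁, hn₁'⟩ := hall
    have hconj : ∀ n ∈ nz H x, n * x * n⁻¹ = x ∨ n * x * n⁻¹ = x⁻¹ := by
      intro n hn
      refine commute_eq_or_inv (two_ne_zero' hp2) hx ?_ (trace_conj n x) hτ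
      exact ((mem_cent.1 ((Subgroup.mem_normalizer_iff.1 (Subgroup.mem_inf.1 hn).2 x).1
        (mem_cent.2 ⟨hxH, rfl⟩))).2).symm
    have hmem : ∀ n ∈ nz H x, n * x * n⁻¹ = x → n ∈ cent H x := fun n hn h =>
      mem_cent.2 ⟨(Subgroup.mem_inf.1 hn).1, mul_inv_eq_iff_eq_mul.1 h⟩
    have hle : Nat.card (nz H x) ≤ Nat.card (Bool × cent H x) := by
      refine Nat.card_le_card_of_injective (fun n : nz H x =>
        if h : (n : SL2) * x * (n : SL2)⁻¹ = x then (true, ⟨n, hmem _ n.2 h⟩)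
        else (false, ⟨n₁⁻¹ * n, hmem _ ((nz H x).mul_mem ((nz H x).inv_mem hn₁) n.2) ?_⟩)) ?_
      · have e1 := (hconj n n.2).resolve_left h
        have e2 := (hconj n₁ hn₁).resolve_left fun e => hn₁' (hmem _ hn₁ e)
        rw [show n₁⁻¹ * (n : SL2) * x * (n₁⁻¹ * (n : SL2))⁻¹ =
          n₁⁻¹ * ((n : SL2) * x * (n : SL2)⁻¹) * n₁ by group, e1, ← e2]
        group
      · intro a b hab
        simp only at hab
        split_ifs at hab with ha hb hb
        · exact Subtype.ext (congrArg Subtype.val (Prod.ext_iff.1 hab).2 :)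
        · simp at hab
        · simp at hab
        · exact Subtype.ext (mul_left_cancel (congrArg Subtype.val (Prod.ext_iff.1 hab).2 :))
    rw [Nat.card_prod, Nat.card_eq_fintype_card (α := Bool), Fintype.card_bool, hs,
      mul_comm 2] at hle
    exact Nat.le_of_mul_le_mul_left hle Nat.card_pos
  have hs1 : 1 ≤ s := by
    rcases Nat.eq_zero_or_pos s with h0 | h0
    · rw [h0, mul_zero] at hs; exact absurd hs Nat.card_pos.ne'
    · exact h0
  obtain ⟨M, hM⟩ := Subgroup.card_dvd_of_le (show nz H x ≤ H from inf_le_left)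
  have hN0 : 0 < Nat.card (nz H x) := Nat.card_pos
  refine ⟨M, s, t, by omega, ht, ?_, ?_, hh', by rw [hs, mul_comm]⟩
  · refine Nat.eq_of_mul_eq_mul_right hz0 ?_
    rw [← hH, hM, hs, hh']
    ring
  · refine Nat.eq_of_mul_eq_mul_right hN0 ?_
    rw [cls_card hx, Set.ncard_diff (scPart_le_cent H x) (Set.toFinite _),
      ← Nat.card_coe_set_eq, ← Nat.card_coe_set_eq]
    change Nat.card H * (Nat.card (cent H x) - Nat.card (scPart H)) = _
    rw [hz, hh', hM, show z * (t + 1) - z = z * t by rw [mul_add, mul_one, Nat.add_sub_cancel]]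
    ring

theorem exists_small [Finite F] {H : Subgroup SL2} (hone : (1 : F) ∈ addPart H)
    {z : ℕ} (hz : Nat.card (scPart H) = z) (hz2 : z = 1 ∨ z = 2) (hH : Nat.card H = 60 * z)
    (hp3 : p = 3)
    {t x : SL2} (htH : t ∈ H) (ht : ¬ IsSc t)
    (htC : Nat.card (cent H t) = z * 2) (htN : Nat.card (nz H t) = z * 4)
    (huC : Nat.card (cent H (upp 1)) = z * 3) (hxC : Nat.card (cent H x) = z * 5)
    (hcov : ∀ y ∈ H, ¬ IsSc y → y ∈ cls H (upp 1) ∨ y ∈ cls H t ∨ y ∈ cls H x)
    (hthree : ∀ y ∈ H, y ^ p = 1 → ¬ IsSc y → y ∈ cls H (upp 1)) :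
    ∃ K : Subgroup SL2, K ≤ H ∧ Nat.card K < Nat.card H ∧
      ∃ u ∈ K, ∃ v ∈ K, u ^ p = 1 ∧ v ^ p = 1 ∧ u * v ≠ v * u := by
  classical
  have hp2 : p ≠ 2 := by omega
  have hu0 : ¬ IsSc (upp 1 : SL2) := not_isSc_upp one_ne_zero
  have hz0 : 0 < z := by omega
  set Q := nz H t with hQ
  have hQ2 : IsPGroup 2 Q := by
    rcases hz2 with rfl | rfl
    · exact IsPGroup.of_card (n := 2) (by rw [htN]; norm_num)
    · exact IsPGroup.of_card (n := 3) (by rw [htN]; norm_num)
  have hQH : Q ≤ H := inf_le_left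
  have hscQ : scPart H ≤ Q := (scPart_le_cent H t).trans (cent_le_nz H t)
  -- no 2-element sits in a centralizer of odd index over the scalars
  have hodd : ∀ a : SL2, ¬ IsSc a → ∀ m : ℕ, Nat.card (cent H a) = z * m → m.Coprime 2 →
      ∀ y ∈ cent H a, ∀ i : ℕ, y ^ 2 ^ i = 1 → IsSc y := by
    intro a ha m hm hm2 y hy i hyi
    set C := cent H a
    set S := (scPart H).subgroupOf C
    haveI : S.Normal := ⟨fun w hw g => by
      rw [Subgroup.mem_subgroupOf] at hw ⊢
      rw [Subgroup.coe_mul, Subgroup.coe_mul, Subgroup.coe_inv, hw.2.conj]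
      exact hw⟩
    have hidx : S.index = m := by
      have h1 := S.card_mul_index
      rw [Nat.card_congr (Subgroup.subgroupOfEquivOfLe (scPart_le_cent H a)).toEquiv, hz, hm] at h1
      exact Nat.eq_of_mul_eq_mul_left hz0 h1
    have h2 : y ^ m ∈ scPart H := by
      have := S.pow_index_mem ⟨y, hy⟩
      rw [hidx, Subgroup.mem_subgroupOf, SubmonoidClass.coe_pow] at this
      exact this
    obtain ⟨j, hj⟩ := exists_pow_eq_self_of_coprime (x := y) (n := m)
      (Nat.Coprime.coprime_dvd_right (orderOf_dvd_of_pow_eq_one hyi) (Nat.Coprime.pow_right i hm2))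
    rw [← hj]
    exact ((scPart H).pow_mem h2 j).2
  have hconjmem : ∀ {y a h : SL2}, h ∈ H → y ∈ cent H (h⁻¹ * a * h) → h * y * h⁻¹ ∈ cent H a := by
    intro y a h hh hy
    have := (mem_cent_conj (h := h) hh).2 hy
    rwa [show h * (h⁻¹ * a * h) * h⁻¹ = a by group] at this
  have hQcls : ∀ y ∈ Q, ¬ IsSc y → ∃ h ∈ H, h⁻¹ * y * h ∈ cent H t := by
    intro y hy hys
    obtain ⟨i, hi⟩ := hQ2 ⟨y, hy⟩
    have hi' : y ^ 2 ^ i = 1 := congrArg Subtype.val hi
    have hne : ∀ a : SL2, ¬ IsSc a → ∀ m : ℕ, Nat.card (cent H a) = z * m → m.Coprime 2 →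
        y ∉ cls H a := by
      rintro a ha m hm hm2 ⟨-, -, h, hh, hc⟩
      refine hys ?_
      have h1 : (h⁻¹ * y * h) ^ 2 ^ i = 1 := by
        have e := conj_pow (a := h⁻¹) (b := y) (i := 2 ^ i)
        rw [inv_inv] at e
        rw [e, hi', mul_one, inv_mul_cancel]
      have h2 := hodd a ha m hm hm2 _ hc i h1
      have := (isSc_conj_iff (g := h)).2 h2
      rwa [show h * (h⁻¹ * y * h) * h⁻¹ = y by group] at this
    have hxns : ¬ IsSc x := by
      intro hx
      have : cent H x = H := by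
        ext w; rw [mem_cent]; exact ⟨fun h => h.1, fun h => ⟨h, (hx.commute w).symm⟩⟩
      rw [this, hH] at hxC; omega
    rcases hcov y (hQH hy) hys with h | h | h
    · exact absurd h (hne _ hu0 3 huC (by norm_num))
    · exact h.2.2
    · exact absurd h (hne _ hxns 5 hxC (by norm_num))
  -- an element of `Q` outside `cent t`, and the element of `N(Q)` moving it there
  obtain ⟨y, hyQ, hyC⟩ : ∃ y ∈ Q, y ∉ cent H t := SetLike.exists_of_lt
    (lt_of_le_of_ne (cent_le_nz H t) fun h => by rw [← h, htC] at htN; omega)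
  have hys : ¬ IsSc y := fun h => hyC (scPart_le_cent H t ⟨hQH hyQ, h⟩)
  obtain ⟨h, hhH, hhy⟩ := hQcls y hyQ hys
  have hys' : ¬ IsSc (h⁻¹ * y * h) := fun hsc => hys (by
    have := (isSc_conj_iff (g := h)).2 hsc
    rwa [show h * (h⁻¹ * y * h) * h⁻¹ = y by group] at this)
  have hcy := cent_eq_of_mem ht hys' hhy
  -- every element of `Q` normalizes every centralizer met in `Q`
  have hQn : ∀ w ∈ Q, ¬ IsSc w → Nat.card (cent H w) = z * 2 → Q ≤ nz H w := by
    intro w hw hws hwc n hn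
    refine mem_nz_of_conj_mem hws (hQH hn) (mem_cent.2 ⟨hQH hw, rfl⟩) hws ?_
    have hle : cent H w ≤ Q := by
      intro v hv
      obtain ⟨k, hkH, hk⟩ := hQcls w hw hws
      by_contra hvQ
      have hlt : Nat.card ↥(cent H w ⊓ Q) < Nat.card (cent H w) :=
        Set.ncard_lt_ncard (SetLike.coe_ssubset_coe.2
          (lt_of_le_of_ne inf_le_left fun e => hvQ ((Subgroup.mem_inf.1 (e ▸ hv)).2)))
          (Set.toFinite _)
      have hlt2 : Nat.card (scPart H) < Nat.card ↥(cent H w ⊓ Q) :=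
        Set.ncard_lt_ncard (SetLike.coe_ssubset_coe.2
          (lt_of_le_of_ne (le_inf (scPart_le_cent H w) hscQ) fun e => hws
            ((e.symm ▸ (⟨mem_cent.2 ⟨hQH hw, rfl⟩, hw⟩ : w ∈ cent H w ⊓ Q) : w ∈ scPart H)).2))
          (Set.toFinite _)
      have hd1 := Subgroup.card_dvd_of_le (le_inf (scPart_le_cent H w) hscQ)
      have hd2 := Subgroup.card_dvd_of_le (inf_le_left : cent H w ⊓ Q ≤ cent H w)
      rw [hz] at hd1 hlt2
      rw [hwc] at hd2 hlt
      obtain ⟨a, ha⟩ := hd1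
      rw [ha] at hlt hlt2 hd2
      have ha1 : 1 < a := lt_of_mul_lt_mul_left' (a := z) (by rw [mul_one]; exact hlt2)
      have ha2 : a < 2 := lt_of_mul_lt_mul_left' (a := z) hlt
      omega
    -- `cent w` has index two in `Q`, hence is normal there
    have hidx : ((cent H w).subgroupOf Q).index = 2 := by
      have h1 := ((cent H w).subgroupOf Q).card_mul_index
      rw [Nat.card_congr (Subgroup.subgroupOfEquivOfLe hle).toEquiv, hwc, htN] at h1
      exact Nat.eq_of_mul_eq_mul_left (show 0 < z * 2 by omega) (by rw [h1]; ring)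
    have hnorm := Subgroup.normal_of_index_eq_two hidx
    exact hnorm.conj_mem ⟨w, hw⟩ (show w ∈ cent H w from mem_cent.2 ⟨hQH hw, rfl⟩) ⟨n, hn⟩
  have hconjcent : ∀ (a k : SL2), k ∈ H → cent H (k * a * k⁻¹) =
      (cent H a).map (MulAut.conj k).toMonoidHom := by
    intro a k hk
    ext w
    constructor
    · intro hw
      refine ⟨k⁻¹ * w * k, ?_, by simp [mul_assoc]⟩
      have := (mem_cent_conj (x := k * a * k⁻¹) (y := w) (h := k⁻¹) (H.inv_mem hk)).2 hw
      simpa [mul_assoc] using this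
    · rintro ⟨v, hv, rfl⟩
      exact (mem_cent_conj hk).2 hv
  have hyw : cent H y = (cent H t).map (MulAut.conj h).toMonoidHom := by
    rw [← hcy, ← hconjcent _ h hhH]
    congr 1; group
  have hyc2 : Nat.card (cent H y) = z * 2 := by
    rw [hyw, Subgroup.card_map_of_injective (f := (MulAut.conj h).toMonoidHom)
      (MulAut.conj h).injective, htC]
  have hnzy : nz H y = (nz H t).map (MulAut.conj h).toMonoidHom := by
    rw [nz, nz, hyw, Subgroup.map_inf _ _ _ (MulAut.conj h).injective,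
      Subgroup.map_equiv_normalizer_eq]
    congr 1
    exact (Subgroup.mem_normalizer_iff_map_conj_eq.1 (Subgroup.le_normalizer hhH)).symm
  have hQy : Q = nz H y := Subgroup.eq_of_le_of_card_ge (hQn y hyQ hys hyc2) (le_of_eq (by
    rw [hnzy, Subgroup.card_map_of_injective (f := (MulAut.conj h).toMonoidHom)
      (MulAut.conj h).injective]))
  have hhN : h ∈ Subgroup.normalizer (Q : Set SL2) :=
    Subgroup.mem_normalizer_iff_map_conj_eq.2 (hnzy.symm.trans hQy.symm)
  set N := H ⊓ Subgroup.normalizer (Q : Set SL2) with hN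
  have hQN : Q ≤ N := le_inf hQH Subgroup.le_normalizer
  have hlt : Q < N := lt_of_le_of_ne hQN fun e => by
    have hhQ : h ∈ Q := e.symm ▸ (⟨hhH, hhN⟩ : h ∈ N)
    refine hyC ?_
    have h1 : (cent H t).map (MulAut.conj h).toMonoidHom = cent H t :=
      Subgroup.mem_normalizer_iff_map_conj_eq.1 (Subgroup.mem_inf.1 hhQ).2
    rw [← h1, ← hyw]
    exact mem_cent.2 ⟨hQH hyQ, rfl⟩
  obtain ⟨m, hm⟩ := Subgroup.card_dvd_of_le hQN
  have hm15 : m ∣ 15 := by
    have h1 := Subgroup.card_dvd_of_le (show N ≤ H from inf_le_left)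
    rw [hm, htN, hH, show 60 * z = z * 4 * 15 by ring] at h1
    exact Nat.dvd_of_mul_dvd_mul_left (by omega) h1
  have hm1 : m ≠ 1 := fun h1 => hlt.ne (Subgroup.eq_of_le_of_card_ge hQN
    (by rw [hm, h1, mul_one]))
  obtain ⟨r, hr, hrm⟩ := Nat.exists_prime_and_dvd hm1
  haveI : Fact r.Prime := ⟨hr⟩
  have hr35 : r = 3 ∨ r = 5 := by
    have : r ∈ Nat.divisors 15 := Nat.mem_divisors.2 ⟨hrm.trans hm15, by norm_num⟩
    have h15 : Nat.divisors 15 = {1, 3, 5, 15} := by decide
    rw [h15] at this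
    simp only [Finset.mem_insert, Finset.mem_singleton] at this
    rcases this with rfl | rfl | rfl | rfl
    · exact absurd hr (by decide)
    · exact Or.inl rfl
    · exact Or.inr rfl
    · exact absurd hr (by decide)
  obtain ⟨w, hw⟩ := exists_prime_orderOf_dvd_card' (G := N) r (hm ▸ dvd_mul_of_dvd_right hrm _)
  have hwH : (w : SL2) ∈ H := (Subgroup.mem_inf.1 w.2).1
  have hwN : (w : SL2) ∈ Subgroup.normalizer (Q : Set SL2) := (Subgroup.mem_inf.1 w.2).2
  rw [← Subgroup.orderOf_coe] at hw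
  have hwQ : (w : SL2) ∉ Q := fun hwQ => by
    obtain ⟨i, hi⟩ := IsPGroup.iff_orderOf.1 hQ2 ⟨_, hwQ⟩
    rw [Subgroup.orderOf_mk, hw] at hi
    rcases Nat.eq_zero_or_pos i with h0 | h0
    · rw [h0, pow_zero] at hi; exact hr.ne_one hi
    · have := hi ▸ dvd_pow_self 2 h0.ne'
      rcases hr35 with rfl | rfl <;> norm_num at this
  -- the order cannot be five
  have hr3 : r = 3 := by
    refine hr35.resolve_right fun hr5 => hwQ ?_
    set c : ℕ → Subgroup SL2 := fun i => cent H ((w : SL2) ^ i * t * ((w : SL2) ^ i)⁻¹) with hc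
    have hcQ : ∀ i, c i ≤ Q := by
      intro i
      simp only [hc]
      rw [hconjcent t _ (H.pow_mem hwH i)]
      refine le_trans (Subgroup.map_mono (cent_le_nz H t)) ?_
      exact le_of_eq (Subgroup.mem_normalizer_iff_map_conj_eq.1 (Subgroup.pow_mem _ hwN i))
    have hccard : ∀ i, ((c i : Set SL2) \ scPart H).ncard = z := by
      intro i
      rw [Set.ncard_diff (scPart_le_cent H _) (Set.toFinite _), ← Nat.card_coe_set_eq,
        ← Nat.card_coe_set_eq]
      change Nat.card (c i) - Nat.card (scPart H) = z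
      simp only [hc]
      rw [hconjcent t _ (H.pow_mem hwH i), Subgroup.card_map_of_injective
        (MulAut.conj _).injective, htC, hz]
      omega
    obtain ⟨i, j, hij, hj4, heq⟩ : ∃ i j, i < j ∧ j < 4 ∧ c i = c j := by
      by_contra hne
      push Not at hne
      have hd : ∀ i j, i < j → j < 4 →
          Disjoint ((c i : Set SL2) \ scPart H) ((c j : Set SL2) \ scPart H) := by
        intro i j hij hj
        rw [Set.disjoint_left]
        rintro v ⟨hvi, hvs⟩ ⟨hvj, -⟩
        have hvns : ¬ IsSc v := fun hs => hvs ⟨(mem_cent.1 hvi).1, hs⟩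
        exact hne i j hij hj
          ((cent_eq_of_mem (isSc_conj_iff.not.2 ht) hvns hvi).symm.trans
            (cent_eq_of_mem (isSc_conj_iff.not.2 ht) hvns hvj))
      have hsub : ((c 0 : Set SL2) \ scPart H) ∪ ((c 1 : Set SL2) \ scPart H) ∪
          ((c 2 : Set SL2) \ scPart H) ∪ ((c 3 : Set SL2) \ scPart H) ⊆ (Q : Set SL2) \ scPart H := by
        rintro v (((hv | hv) | hv) | hv) <;> exact ⟨hcQ _ hv.1, hv.2⟩
      have hle := Set.ncard_le_ncard hsub (Set.toFinite _)
      rw [Set.ncard_union_eq (Set.disjoint_union_left.2 ⟨Set.disjoint_union_left.2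
          ⟨hd 0 3 (by omega) (by omega), hd 1 3 (by omega) (by omega)⟩,
          hd 2 3 (by omega) (by omega)⟩) (Set.toFinite _) (Set.toFinite _),
        Set.ncard_union_eq (Set.disjoint_union_left.2
          ⟨hd 0 2 (by omega) (by omega), hd 1 2 (by omega) (by omega)⟩) (Set.toFinite _)
          (Set.toFinite _),
        Set.ncard_union_eq (hd 0 1 (by omega) (by omega)) (Set.toFinite _) (Set.toFinite _),
        hccard, hccard, hccard, hccard, Set.ncard_diff hscQ (Set.toFinite _),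
        ← Nat.card_coe_set_eq, ← Nat.card_coe_set_eq] at hle
      change z + z + z + z ≤ Nat.card Q - Nat.card (scPart H) at hle
      rw [htN, hz] at hle
      omega
    have hmem : (w : SL2) ^ (j - i) ∈ Q := by
      refine mem_nz_of_conj_mem ht (H.pow_mem hwH _) (mem_cent.2 ⟨htH, rfl⟩) ht ?_
      have h1 : (w : SL2) ^ j * t * ((w : SL2) ^ j)⁻¹ ∈ c i := by
        rw [heq]; exact mem_cent.2 ⟨H.mul_mem (H.mul_mem (H.pow_mem hwH _) htH)
          (H.inv_mem (H.pow_mem hwH _)), rfl⟩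
      rw [show (w : SL2) ^ j = (w : SL2) ^ i * (w : SL2) ^ (j - i) by
        rw [← pow_add, Nat.add_sub_cancel' hij.le]] at h1
      simp only [hc] at h1
      exact (mem_cent_conj (H.pow_mem hwH i)).1 (by
        rwa [show (w : SL2) ^ i * ((w : SL2) ^ (j - i) * t * ((w : SL2) ^ (j - i))⁻¹) *
          ((w : SL2) ^ i)⁻¹ = (w : SL2) ^ i * (w : SL2) ^ (j - i) * t *
          ((w : SL2) ^ i * (w : SL2) ^ (j - i))⁻¹ by group])
    obtain ⟨e, he⟩ := exists_pow_eq_self_of_coprime (x := (w : SL2)) (n := j - i) (by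
      rw [hw, hr5]
      exact ((Nat.Prime.coprime_iff_not_dvd Nat.prime_five).2
        (Nat.not_dvd_of_pos_of_lt (by omega) (by omega))).symm)
    rw [← he]
    exact Q.pow_mem hmem e
  subst hr3
  have hwp : (w : SL2) ^ p = 1 := by rw [hp3, ← hw, pow_orderOf_eq_one]
  have hws : ¬ IsSc (w : SL2) := fun hs => hwQ (hscQ ⟨hwH, hs⟩)
  obtain ⟨-, -, k, hkH, hk⟩ := hthree _ hwH hwp hws
  have hcw : Nat.card (cent H w) = z * 3 := by
    have hks : ¬ IsSc (k⁻¹ * (w : SL2) * k) := fun hsc => hws (by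
      have := (isSc_conj_iff (g := k)).2 hsc
      rwa [show k * (k⁻¹ * (w : SL2) * k) * k⁻¹ = w by group] at this)
    rw [← huC, ← cent_eq_of_mem hu0 hks hk]
    conv_lhs => rw [show (w : SL2) = k * (k⁻¹ * (w : SL2) * k) * k⁻¹ by group, hconjcent _ k hkH]
    exact Subgroup.card_map_of_injective (MulAut.conj k).injective
  obtain ⟨v, hvQ, hv⟩ : ∃ v ∈ Q, v * (w : SL2) ≠ w * v := by
    by_contra hno
    push Not at hno
    have h1 := Subgroup.card_le_of_le (show Q ≤ cent H w from fun v hv => mem_cent.2 ⟨hQH hv, hno v hv⟩)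
    rw [htN, hcw] at h1
    omega
  set w' := v * (w : SL2) * v⁻¹ with hw'
  have hne : (w : SL2) * w' ≠ w' * w := by
    intro hcomm
    refine hv ?_
    set e := w' * (w : SL2)⁻¹ with he
    have heQ : e ∈ Q := by
      rw [he, hw', show v * (w : SL2) * v⁻¹ * (w : SL2)⁻¹ =
        v * ((w : SL2) * v⁻¹ * (w : SL2)⁻¹) by group]
      exact Q.mul_mem hvQ ((Subgroup.mem_normalizer_iff.1 hwN _).1 (Q.inv_mem hvQ))
    have hep : e ^ 3 = 1 := by
      rw [he, (Commute.inv_right (Commute.symm hcomm)).mul_pow, inv_pow, hw', conj_pow, ← hw,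
        pow_orderOf_eq_one]
      group
    have he1 : e = 1 := by
      obtain ⟨i, hi⟩ := IsPGroup.iff_orderOf.1 hQ2 ⟨e, heQ⟩
      rw [Subgroup.orderOf_mk] at hi
      refine orderOf_eq_one_iff.1 (Nat.eq_one_of_dvd_coprimes (a := 2 ^ i) (b := 3)
        (Nat.Coprime.pow_left i (by norm_num)) ?_ (orderOf_dvd_of_pow_eq_one hep))
      rw [hi]
    rw [he, mul_inv_eq_one, hw', mul_inv_eq_iff_eq_mul] at he1
    exact he1
  have hwle : Subgroup.zpowers (w : SL2) ≤ Subgroup.normalizer (Q : Set SL2) :=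
    Subgroup.zpowers_le.2 hwN
  refine ⟨Q ⊔ Subgroup.zpowers (w : SL2), sup_le hQH (Subgroup.zpowers_le.2 hwH), ?_, w, Subgroup.mem_sup_right (Subgroup.mem_zpowers _),
    w', ?_, hwp, by rw [hw', conj_pow, hwp, mul_one, mul_inv_cancel], hne⟩
  · have h1 : Nat.card ↥(Q ⊔ Subgroup.zpowers (w : SL2)) ≤ Nat.card Q * 3 := by
      rw [← hw, ← Nat.card_zpowers (w : SL2), ← Nat.card_prod]
      refine Nat.card_le_card_of_surjective (fun a : Q × Subgroup.zpowers (w : SL2) =>
        (⟨(a.1 : SL2) * a.2, mul_mem (Subgroup.mem_sup_left a.1.2) (Subgroup.mem_sup_right a.2.2)⟩ :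
          ↥(Q ⊔ Subgroup.zpowers (w : SL2)))) ?_
      rintro ⟨v, hv⟩
      have hv' : v ∈ ((Q : Set SL2) * (Subgroup.zpowers (w : SL2) : Set SL2)) := by
        rw [← Subgroup.coe_mul_of_right_le_normalizer_left _ _ hwle]; exact hv
      obtain ⟨a, ha, b, hb, rfl⟩ := Set.mem_mul.1 hv'
      exact ⟨(⟨a, ha⟩, ⟨b, hb⟩), rfl⟩
    rw [htN] at h1
    omega
  · exact mul_mem (mul_mem (Subgroup.mem_sup_left hvQ) (Subgroup.mem_sup_right (Subgroup.mem_zpowers _)))
      (inv_mem (Subgroup.mem_sup_left hvQ))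

/-- Two noncommuting elements of order `p`. -/
def HasTwo (p : ℕ) (H : Subgroup SL2) : Prop :=
  ∃ u ∈ H, ∃ v ∈ H, u ^ p = 1 ∧ v ^ p = 1 ∧ u * v ≠ v * u

/-- The translation subgroup of `H`. -/
def transPart (H : Subgroup SL2) : Subgroup SL2 where
  carrier := {x | ∃ a ∈ addPart H, x = upp a}
  one_mem' := ⟨0, (addPart H).zero_mem, upp_zero.symm⟩
  mul_mem' := by
    rintro _ _ ⟨a, ha, rfl⟩ ⟨b, hb, rfl⟩
    exact ⟨a + b, (addPart H).add_mem ha hb, upp_mul a b⟩
  inv_mem' := by
    rintro _ ⟨a, ha, rfl⟩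
    exact ⟨-a, (addPart H).neg_mem ha, upp_inv a⟩

theorem card_transPart (H : Subgroup SL2) : Nat.card (transPart H) = Nat.card (addPart H) := by
  refine (Nat.card_eq_of_bijective (fun a : addPart H => (⟨upp a, a, a.2, rfl⟩ : transPart H))
    ⟨fun a b h => Subtype.ext (upp_injective (congrArg Subtype.val h :)), ?_⟩).symm
  rintro ⟨_, a, ha, rfl⟩
  exact ⟨⟨a, ha⟩, rfl⟩

theorem mem_addPart_of_two_mul (hp2 : p ≠ 2) {A : AddSubgroup F} {a : F} (h : 2 * a ∈ A) :
    a ∈ A := by
  obtain ⟨m, hm⟩ := hp.out.odd_of_ne_two hp2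
  have h1 : (((m + 1 : ℕ) : F)) * (2 * a) = a := by
    have : ((2 * m + 1 : ℕ) : F) = 0 := by rw [← hm, CharP.cast_eq_zero]
    push_cast at this ⊢
    linear_combination a * this
  rw [← h1, ← nsmul_eq_mul]
  exact A.nsmul_mem h _

theorem nz_upp_eq_borel {H : Subgroup SL2} (hone : (1 : F) ∈ addPart H) :
    nz H (upp 1) = borel H := by
  have huH : (upp 1 : SL2) ∈ H := hone
  ext n
  constructor
  · intro hn
    obtain ⟨hnH, hnN⟩ := Subgroup.mem_inf.1 hn
    have h1 := (mem_cent_upp_iff.1 ((Subgroup.mem_normalizer_iff.1 hnN (upp 1)).1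
      (mem_cent.2 ⟨huH, rfl⟩))).2.1
    refine ⟨hnH, ?_⟩
    simp [Matrix.SpecialLinearGroup.coe_inv, Matrix.adjugate_fin_two, upp_val, Matrix.mul_apply,
      Fin.sum_univ_two] at h1
    exact mul_self_eq_zero.1 (by linear_combination -h1)
  · intro hn
    refine mem_nz_of_conj_mem (not_isSc_upp one_ne_zero) hn.1 (mem_cent.2 ⟨huH, rfl⟩)
      (not_isSc_upp one_ne_zero) ?_
    refine mem_cent.2 ⟨H.mul_mem (H.mul_mem hn.1 huH) (H.inv_mem hn.1), ?_⟩
    rw [borel_conj_upp hn, upp_mul, upp_mul, add_comm]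

theorem card_cent_upp [Finite F] (hp2 : p ≠ 2) {H : Subgroup SL2} :
    Nat.card (cent H (upp 1)) = Nat.card (scPart H) * Nat.card (addPart H) := by
  rw [← Nat.card_prod]
  refine (Nat.card_eq_of_bijective (fun a : scPart H × addPart H =>
    (⟨(a.1 : SL2) * upp (a.2 : F), mem_cent.2 ⟨H.mul_mem a.1.2.1 a.2.2, ?_⟩⟩ : cent H (upp 1)))
    ⟨?_, ?_⟩).symm
  · rw [mul_assoc, upp_mul, ← mul_assoc, ← a.1.2.2.commute (upp 1), mul_assoc, upp_mul, add_comm]
  · rintro ⟨s, a⟩ ⟨s', a'⟩ h
    have h1 : (s : SL2) * upp (a : F) = (s' : SL2) * upp (a' : F) := congrArg Subtype.val h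
    have h2 : (s' : SL2)⁻¹ * s = upp (a' : F) * (upp (a : F))⁻¹ := by
      rw [eq_mul_inv_iff_mul_eq, mul_assoc, h1, inv_mul_cancel_left]
    have h3 : IsSc ((s' : SL2)⁻¹ * (s : SL2)) :=
      ((scPart H).mul_mem ((scPart H).inv_mem s'.2) s.2).2
    rw [h2, upp_inv, upp_mul] at h3
    have h4 : (a' : F) + -a = 0 := by
      by_contra hne; exact not_isSc_upp hne h3
    have h5 : a' = a := Subtype.ext (add_neg_eq_zero.1 h4)
    subst h5
    exact Prod.ext (Subtype.ext (mul_right_cancel h1)) rfl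
  · rintro ⟨x, hx⟩
    obtain ⟨hxH, hc, hdiag⟩ := mem_cent_upp_iff.1 hx
    have hd := det_one x
    rw [hc, mul_zero, sub_zero, ← hdiag] at hd
    set c := (x : M2) 0 0
    set b := (x : M2) 0 1 with hb
    have hb2 : 2 * (c * b) ∈ addPart H := by
      have : x * x = upp (2 * (c * b)) := by
        apply Subtype.ext
        rw [Matrix.SpecialLinearGroup.coe_mul, upp_val]
        apply ext2 <;> simp [Matrix.mul_apply, Fin.sum_univ_two, hc, ← hdiag]
        · exact hd
        · ring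
        · exact hd
      show upp (2 * (c * b)) ∈ H
      rw [← this]
      exact H.mul_mem hxH hxH
    have hcb := mem_addPart_of_two_mul (p := p) hp2 hb2
    refine ⟨(⟨x * upp (-(c * b)), H.mul_mem hxH ((addPart H).neg_mem hcb), isSc_iff.2 ?_⟩,
      ⟨c * b, hcb⟩), Subtype.ext ?_⟩
    · refine ⟨?_, ?_, ?_⟩ <;>
        simp [upp_val, Matrix.mul_apply, Fin.sum_univ_two, hc, ← hdiag, ← hb]
      · linear_combination -b * hd
      · rfl
    · show x * upp (-(c * b)) * upp (c * b) = x
      rw [mul_assoc, upp_mul, neg_add_cancel, upp_zero, mul_one]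

theorem dvd_of_borel [Finite F] {H : Subgroup SL2} (hone : (1 : F) ∈ addPart H) {d : ℕ}
    (hd : Nat.card (borel H) = Nat.card (cent H (upp 1)) * d) :
    d ∣ Nat.card (addPart H) - 1 := by
  classical
  have hu : ∀ x : borel H, ((x : SL2) : M2) 0 0 ≠ 0 := fun x h => by
    have := det_one (x : SL2)
    rw [h, x.2.2, zero_mul, mul_zero, sub_zero] at this
    exact zero_ne_one this
  let χ : borel H →* Fˣ :=
    { toFun := fun x => Units.mk0 (((x : SL2) : M2) 0 0 ^ 2) (pow_ne_zero 2 (hu x))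
      map_one' := Units.ext (by simp)
      map_mul' := fun x y => Units.ext (by
        simp [Matrix.mul_apply, Fin.sum_univ_two, y.2.2, mul_pow]) }
  have hker : χ.ker = (cent H (upp 1)).subgroupOf (borel H) := by
    ext x
    rw [MonoidHom.mem_ker, Subgroup.mem_subgroupOf, mem_cent_upp_iff, Units.ext_iff]
    simp only [χ, MonoidHom.coe_mk, OneHom.coe_mk, Units.val_mk0, Units.val_one]
    have h10 := x.2.2
    have hd := det_one (x : SL2)
    rw [h10, mul_zero, sub_zero] at hd
    refine ⟨fun h => ⟨x.2.1, h10, ?_⟩, fun h => ?_⟩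
    · refine mul_left_cancel₀ (hu x) ?_
      rw [hd, ← pow_two, h]
    · rw [← h.2.2] at hd
      rw [pow_two, hd]
  have hle : cent H (upp 1) ≤ borel H := fun x hx =>
    ⟨(mem_cent_upp_iff.1 hx).1, (mem_cent_upp_iff.1 hx).2.1⟩
  have hD : Nat.card χ.range = d := by
    rw [← Subgroup.index_ker, hker]
    have h1 := ((cent H (upp 1)).subgroupOf (borel H)).card_mul_index
    rw [Nat.card_congr (Subgroup.subgroupOfEquivOfLe hle).toEquiv, hd] at h1
    exact Nat.eq_of_mul_eq_mul_left Nat.card_pos h1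
  set T : Set Fˣ := {c | (c : F) ∈ addPart H} with hT
  have hTcard : T.ncard = Nat.card (addPart H) - 1 := by
    have himg : (Units.val '' T) = (addPart H : Set F) \ {0} := by
      ext c
      constructor
      · rintro ⟨e, he, rfl⟩; exact ⟨he, by simp⟩
      · rintro ⟨hc, hc0⟩; exact ⟨Units.mk0 c (by simpa using hc0), hc, rfl⟩
    rw [← Set.ncard_image_of_injective T Units.val_injective, himg,
      Set.ncard_sdiff_singleton_of_mem (show (0 : F) ∈ (addPart H : Set F) from (addPart H).zero_mem),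
      ← Nat.card_coe_set_eq]
    rfl
  have hstab : T = (QuotientGroup.mk : Fˣ → Fˣ ⧸ χ.range) ⁻¹' (QuotientGroup.mk '' T) := by
    refine Set.Subset.antisymm (fun c hc => ⟨c, hc, rfl⟩) ?_
    rintro c ⟨c', hc', hcc⟩
    obtain ⟨x, hx⟩ := QuotientGroup.eq.1 hcc
    rw [eq_inv_mul_iff_mul_eq] at hx
    show upp (c : F) ∈ H
    rw [← hx, Units.val_mul, mul_comm]
    simp only [χ, MonoidHom.coe_mk, OneHom.coe_mk, Units.val_mk0]
    rw [← borel_conj_upp x.2]
    exact H.mul_mem (H.mul_mem x.2.1 hc') (H.inv_mem x.2.1)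
  refine ⟨Nat.card ↥((QuotientGroup.mk : Fˣ → Fˣ ⧸ χ.range) '' T), ?_⟩
  rw [← hTcard, ← Nat.card_coe_set_eq, ← hD, ← Nat.card_prod]
  conv_lhs => rw [hstab]
  exact Nat.card_congr (QuotientGroup.preimageMkEquivSubgroupProdSet _ _)

theorem card_cent_torus [Finite F] {H : Subgroup SL2} {t : SL2}
    (ht : t ∈ borel H) (hne : (t : M2) 0 0 ≠ (t : M2) 1 1) :
    Nat.card (borel H) = Nat.card (addPart H) * Nat.card (cent H t) := by
  classical
  have hts : ¬ IsSc t := fun h => hne (isSc_iff.1 h).2.2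
  have hle : cent H t ≤ borel H := fun c hc => by
    obtain ⟨α, β, hαβ⟩ := exists_repr hts (mem_cent.1 hc).2.symm
    exact ⟨(mem_cent.1 hc).1, by simp [hαβ, ht.2]⟩
  have htran : ∀ a ∈ addPart H, upp a ∈ borel H := fun a ha => ⟨ha, by simp [upp_val]⟩
  have hcomm : ∀ e : F, upp e * t = t * upp e → e = 0 := fun e he => by
    have h01 := congrArg (fun m : SL2 => (m : M2) 0 1) he
    simp [upp_val, Matrix.mul_apply, Fin.sum_univ_two] at h01
    refine (mul_eq_zero.1 (?_ : e * ((t : M2) 0 0 - (t : M2) 1 1) = 0)).resolve_right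
      (sub_ne_zero.2 hne)
    linear_combination -h01
  have h00 : ∀ x ∈ borel H, (x : M2) 0 0 * (x : M2) 1 1 = 1 := fun x hx => by
    have := det_one x
    rwa [hx.2, mul_zero, sub_zero] at this
  have hone' : ∀ x ∈ borel H, ((x * t * x⁻¹ * t⁻¹ : SL2) : M2) 0 0 = 1 := fun x hx => by
    simp [Matrix.SpecialLinearGroup.coe_inv, Matrix.adjugate_fin_two, Matrix.mul_apply,
      Fin.sum_univ_two, hx.2, ht.2]
    linear_combination (t : M2) 0 0 * (t : M2) 1 1 * h00 x hx + h00 t ht
  have hmem : ∀ x ∈ borel H, x * t * x⁻¹ * t⁻¹ ∈ borel H := fun x hx =>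
    (borel H).mul_mem ((borel H).mul_mem ((borel H).mul_mem hx ht) ((borel H).inv_mem hx))
      ((borel H).inv_mem ht)
  have hf : ∀ b : addPart H, ∃ a : addPart H,
      upp (b : F) * t * (upp (b : F))⁻¹ * t⁻¹ = upp (a : F) := fun b => by
    obtain ⟨a, ha, e⟩ := borel_eq_upp (hmem _ (htran _ b.2)) (hone' _ (htran _ b.2))
    exact ⟨⟨a, ha⟩, e⟩
  choose f hf using hf
  have hfinj : Function.Injective f := fun b b' hbb => by
    have h1 := hf b
    rw [hbb, ← hf b', mul_left_inj] at h1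
    refine Subtype.ext (add_neg_eq_zero.1 (hcomm ((b : F) + -(b' : F)) ?_))
    rw [mul_inv_eq_iff_eq_mul] at h1
    rw [add_comm, ← upp_mul, ← upp_inv, mul_assoc, h1, ← mul_assoc, ← mul_assoc, ← mul_assoc,
      inv_mul_cancel, one_mul, mul_assoc]
  have hfsurj : Function.Surjective f := Finite.injective_iff_surjective.1 hfinj
  rw [← Nat.card_prod]
  refine (Nat.card_eq_of_bijective (fun a : addPart H × cent H t =>
    (⟨upp (a.1 : F) * a.2, (borel H).mul_mem (htran _ a.1.2) (hle a.2.2)⟩ : borel H)) ⟨?_, ?_⟩).symm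
  · rintro ⟨a, c⟩ ⟨a', c'⟩ h
    have h1 : upp (a : F) * (c : SL2) = upp (a' : F) * c' := congrArg Subtype.val h
    have h2 : (upp (a' : F))⁻¹ * upp (a : F) = (c' : SL2) * (c : SL2)⁻¹ := by
      rw [eq_mul_inv_iff_mul_eq, mul_assoc, h1, inv_mul_cancel_left]
    have h3 : (c' : SL2) * (c : SL2)⁻¹ ∈ cent H t := (cent H t).mul_mem c'.2 ((cent H t).inv_mem c.2)
    rw [← h2, upp_inv, upp_mul] at h3
    have h4 := hcomm _ (mem_cent.1 h3).2
    have h5 : a = a' := Subtype.ext (neg_add_eq_zero.1 h4).symm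
    subst h5
    exact Prod.ext rfl (Subtype.ext (mul_left_cancel h1))
  · rintro ⟨x, hx⟩
    obtain ⟨a, ha, e⟩ := borel_eq_upp (hmem x hx) (hone' x hx)
    obtain ⟨b, hb⟩ := hfsurj ⟨a, ha⟩
    have h1 := hf b
    rw [hb, ← e, mul_left_inj, mul_inv_eq_iff_eq_mul] at h1
    refine ⟨(b, ⟨(upp (b : F))⁻¹ * x, mem_cent.2 ⟨H.mul_mem (H.inv_mem b.2) hx.1, ?_⟩⟩),
      Subtype.ext (mul_inv_cancel_left _ _)⟩
    have h2 : upp (b : F) * t * (upp (b : F))⁻¹ * x = x * t := by
      rw [mul_inv_eq_iff_eq_mul.2 h1, inv_mul_cancel_right]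
    rw [mul_assoc, ← h2]
    group

/-- The normalised case of Dickson's theorem. -/
theorem normalised [Finite F] (hp2 : p ≠ 2) {H : Subgroup SL2} (hone : (1 : F) ∈ addPart H)
    (hzero : (0 : F) ∈ points H) :
    low 1 ∈ H ∨ ∃ K : Subgroup SL2, K ≤ H ∧ Nat.card K < Nat.card H ∧ HasTwo p K := by
  classical
  set u : SL2 := upp 1
  have hu : ¬ IsSc u := not_isSc_upp one_ne_zero
  have huH : u ∈ H := hone
  set q := Nat.card (addPart H) with hq
  set z := Nat.card (scPart H) with hz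
  have hz0 : 0 < z := Nat.card_pos
  have hz2 : z = 1 ∨ z = 2 := by have := card_scPart_le H; omega
  -- `q` is a power of `p`
  have hUp : IsPGroup p (transPart H) := fun x => ⟨1, by
    obtain ⟨a, -, ha⟩ := x.2
    apply Subtype.ext
    rw [pow_one, SubmonoidClass.coe_pow, ha, upp_pow_char]; rfl⟩
  obtain ⟨n, hn⟩ := IsPGroup.iff_card.1 hUp
  rw [card_transPart, ← hq] at hn
  have hn0 : n ≠ 0 := fun h0 => by
    rw [h0, pow_zero, hq] at hn
    have := (Nat.card_eq_one_iff_unique.1 hn).1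
    exact one_ne_zero (congrArg Subtype.val
      (Subsingleton.elim (⟨1, hone⟩ : addPart H) ⟨0, (addPart H).zero_mem⟩))
  have hp3 : 3 ≤ p := by have := hp.out.two_le; omega
  have hq3 : 3 ≤ q := hn ▸ hp3.trans (Nat.le_self_pow hn0 p)
  have hqodd : Odd q := hn ▸ (hp.out.odd_of_ne_two hp2).pow
  have hpq : p ∣ q := hn ▸ dvd_pow_self p hn0
  -- orders
  have hcu : Nat.card (cent H u) = z * q := card_cent_upp hp2
  have hle : cent H u ≤ borel H := fun x hx =>
    ⟨(mem_cent_upp_iff.1 hx).1, (mem_cent_upp_iff.1 hx).2.1⟩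
  obtain ⟨d, hd⟩ := Subgroup.card_dvd_of_le hle
  have hdvd := dvd_of_borel hone hd
  rw [hcu] at hd
  have hd0 : 0 < d := Nat.pos_of_ne_zero fun h0 => by
    rw [h0, mul_zero] at hd; exact Nat.card_pos.ne' hd
  obtain ⟨k, hk⟩ := card_dvd_points H
  rw [← hq] at hk
  have hpts : 0 < (points H).ncard := (Set.ncard_pos (Set.toFinite _)).2 ⟨0, hzero⟩
  have hk1 : 1 ≤ k := Nat.pos_of_ne_zero fun h0 => by rw [h0, mul_zero] at hk; omega
  set N := (points H).ncard + 1 with hN
  have hNk : N = 1 + k * q := by rw [hN, hk]; ring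
  have hN4 : 4 ≤ N := by rw [hNk]; nlinarith
  set g := N * (d * q) with hg
  have hH : Nat.card H = g * z := by rw [card_cosets, hd, hg, hN]; ring
  have hpn : ¬ p ∣ N * (d * z) := by
    intro h
    rcases (Nat.Prime.dvd_mul hp.out).1 h with h1 | h1
    · rw [hNk, Nat.dvd_add_left (dvd_mul_of_dvd_right hpq k)] at h1
      exact hp.out.not_dvd_one h1
    · rcases (Nat.Prime.dvd_mul hp.out).1 h1 with h2 | h2
      · have h3 : p ∣ q - 1 := h2.trans hdvd
        have h4 := Nat.dvd_sub hpq h3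
        rw [show q - (q - 1) = 1 by omega] at h4
        exact hp.out.not_dvd_one h4
      · have := Nat.le_of_dvd hz0 h2; omega
  -- elements of order `p` are conjugate into the translations
  have hsyl : ∀ y ∈ H, y ^ p = 1 → ∃ h ∈ H, h⁻¹ * y * h ∈ transPart H := by
    intro y hy hyp
    set U' := (transPart H).subgroupOf H with hU'
    have hUle : transPart H ≤ H := by rintro _ ⟨a, ha, rfl⟩; exact ha
    have hP : IsPGroup p (Subgroup.zpowers (⟨y, hy⟩ : H)) := by
      rcases (Nat.dvd_prime hp.out).1 (orderOf_dvd_of_pow_eq_one (x := (⟨y, hy⟩ : H)) (n := p)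
        (Subtype.ext (by simpa using hyp))) with hi | hi
      · exact IsPGroup.of_card (n := 0) (by rw [Nat.card_zpowers, hi, pow_zero])
      · exact IsPGroup.of_card (n := 1) (by rw [Nat.card_zpowers, hi, pow_one])
    have hidx : Nat.card (H ⧸ U') = N * (d * z) := by
      have h1 := U'.card_eq_card_quotient_mul_card_subgroup
      rw [Nat.card_congr (Subgroup.subgroupOfEquivOfLe hUle).toEquiv, card_transPart, ← hq, hH,
        hg] at h1
      exact (Nat.eq_of_mul_eq_mul_right (show 0 < q by omega) (by linarith)).symm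
    obtain ⟨c, hc⟩ := hP.nonempty_fixed_point_of_prime_not_dvd_card (α := H ⧸ U') (hidx ▸ hpn)
    induction c using QuotientGroup.induction_on with
    | H h =>
      have := hc ⟨_, Subgroup.mem_zpowers _⟩
      change ((⟨y, hy⟩ * h : H) : H ⧸ U') = (h : H ⧸ U') at this
      rw [eq_comm, QuotientGroup.eq, Subgroup.mem_subgroupOf] at this
      exact ⟨h, h.2, by simpa [mul_assoc] using this⟩
  have htrans_cent : transPart H ≤ cent H u := by
    rintro _ ⟨a, ha, rfl⟩
    exact mem_cent.2 ⟨ha, by rw [upp_mul, upp_mul, add_comm]⟩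
  have hcls : ∀ y ∈ H, ¬ IsSc y → Matrix.trace (y : M2) ^ 2 = 4 → y ∈ cls H u := by
    intro y hy hys htr
    have hs : y ^ p ∈ scPart H := ⟨H.pow_mem hy p, pow_isSc_of_trace hp2 htr⟩
    have hs2 : y ^ p * y ^ p = 1 := by
      apply Subtype.ext
      rw [Matrix.SpecialLinearGroup.coe_mul]
      rcases hs.2.eq_or_eq with h | h <;> rw [h] <;> simp
    obtain ⟨h, hh, hmem⟩ := hsyl (y * y ^ p) (H.mul_mem hy hs.1) (by
      rw [(Commute.self_pow y p).mul_pow]
      obtain ⟨m, hm⟩ := hp.out.odd_of_ne_two hp2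
      calc y ^ p * (y ^ p) ^ p = (y ^ p * y ^ p) ^ (m + 1) := by
            rw [← pow_two, ← pow_mul (y ^ p), ← pow_succ']; congr 1; omega
        _ = 1 := by rw [hs2, one_pow])
    refine ⟨hy, hys, h, hh, ?_⟩
    have hsc : y ^ p ∈ cent H u := scPart_le_cent H u hs
    have := (cent H u).mul_mem (htrans_cent hmem) hsc
    rwa [show h⁻¹ * (y * y ^ p) * h * y ^ p = h⁻¹ * y * h by
      rw [mul_assoc (h⁻¹ * (y * y ^ p)), ← hs.2.commute h]
      simp only [mul_assoc, ← mul_assoc (y ^ p) (y ^ p), hs2, one_mul]] at this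
  have hclsu : (cls H u).ncard = z * (N * (q - 1)) := by
    have h1 := cls_card (H := H) hu
    rw [nz_upp_eq_borel hone, hd, hH, Set.ncard_diff (scPart_le_cent H u) (Set.toFinite _),
      ← Nat.card_coe_set_eq, ← Nat.card_coe_set_eq] at h1
    change _ = g * z * (Nat.card (cent H u) - Nat.card (scPart H)) at h1
    rw [hcu, ← hz] at h1
    refine Nat.eq_of_mul_eq_mul_right (show 0 < z * q * d by positivity) (h1.trans ?_)
    obtain ⟨r, hr⟩ := Nat.exists_eq_add_of_le (show 1 ≤ q by omega)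
    rw [hg, hr, show 1 + r - 1 = r by omega, show z * (1 + r) - z = z * r by
      rw [mul_add, mul_one, Nat.add_sub_cancel_left]]
    ring
  have hcut : ∀ {S : ℕ}, z * S + z = g * z → S + 1 = g := fun {S} h =>
    Nat.eq_of_mul_eq_mul_left hz0 (by linarith)
  have hcutle : ∀ {S : ℕ}, z * S + z ≤ g * z → S + 1 ≤ g := fun {S} h =>
    Nat.le_of_mul_le_mul_left (by linarith) hz0
  have hfin : N = q + 1 → low 1 ∈ H := fun h => finish (p := p) hone hzero (by omega)
  -- the one-class data of an element outside the class of `u`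
  have hdata : ∀ y ∈ H, ¬ IsSc y → y ∉ cls H u → ∃ M s t, (s = 1 ∨ s = 2) ∧ 1 ≤ t ∧
      M * (s * (t + 1)) = g ∧ (cls H y).ncard = z * (M * t) ∧
      Nat.card (cent H y) = z * (t + 1) ∧ Nat.card (nz H y) = s * Nat.card (cent H y) :=
    fun y hy hys hyu => exists_class_data hp2 hy hys (fun h => hyu (hcls y hy hys h)) hz.symm hH
  rcases Nat.lt_or_ge d 2 with hd1 | hd2
  · left
    obtain rfl : d = 1 := by omega
    rw [one_mul] at hg
    obtain ⟨x, hxH, hxs, hxu⟩ : ∃ x ∈ H, ¬ IsSc x ∧ x ∉ cls H u := by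
      by_contra hno
      push Not at hno
      have h1 := cls_sum_eq (H := H) [u] (List.pairwise_singleton _ _)
        fun y hy hys => ⟨u, List.mem_singleton.2 rfl, hno y hy hys⟩
      simp only [List.map_cons, List.map_nil, List.sum_cons, List.sum_nil, add_zero] at h1
      rw [hclsu, ← hz, hH] at h1
      have h2 := hcut h1
      have : N * (q - 1) + N = N * q := by
        rw [← Nat.mul_succ, show (q - 1).succ = q by omega]
      omega
    obtain ⟨M, s, t, hs, ht, hM, hxc, -, -⟩ := hdata x hxH hxs hxu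
    have hd12 : Disjoint (cls H u) (cls H x) := cls_disjoint hu hxs hxH hxu
    have hle := cls_sum_le (H := H) [u, x] (by simp [hd12])
    simp only [List.map_cons, List.map_nil, List.sum_cons, List.sum_nil, add_zero] at hle
    rw [hclsu, hxc, ← hz, hH, ← mul_add] at hle
    obtain ⟨rfl, rfl, hq3'⟩ := count_small_one hq3 ht hs hg hM (hcutle hle)
    by_cases hall : ∀ y ∈ H, ¬ IsSc y → y ∈ cls H u ∨ y ∈ cls H x
    · have h1 := cls_sum_eq (H := H) [u, x] (by simp [hd12]) fun y hy hys => by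
        rcases hall y hy hys with h | h
        · exact ⟨u, by simp, h⟩
        · exact ⟨x, by simp, h⟩
      simp only [List.map_cons, List.map_nil, List.sum_cons, List.sum_nil, add_zero] at h1
      rw [hclsu, hxc, ← hz, hH, ← mul_add] at h1
      have h2 := hcut h1
      rw [hq3'] at h2 hg
      exact hfin (by omega)
    · exfalso
      push Not at hall
      obtain ⟨y, hyH, hys, hyu, hyx⟩ := hall
      obtain ⟨M', s', t', hs', ht', hM', hyc, -, -⟩ := hdata y hyH hys hyu
      have hd13 : Disjoint (cls H u) (cls H y) := cls_disjoint hu hys hyH hyu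
      have hd23 : Disjoint (cls H x) (cls H y) := cls_disjoint hxs hys hyH hyx
      have hle3 := cls_sum_le (H := H) [u, x, y] (by simp [hd12, hd13, hd23])
      simp only [List.map_cons, List.map_nil, List.sum_cons, List.sum_nil, add_zero] at hle3
      rw [hclsu, hxc, hyc, ← hz, hH, ← mul_add, ← mul_add] at hle3
      have h3 := hcutle hle3
      obtain ⟨rfl, rfl, -⟩ := count_small_one hq3 ht' hs' hg hM' (by omega)
      rw [hq3'] at h3 hg
      omega
  -- a torus element of the triangular subgroup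
  obtain ⟨t₀, ht₀, ht₀c⟩ : ∃ t₀ ∈ borel H, t₀ ∉ cent H u := SetLike.exists_of_lt
    (lt_of_le_of_ne hle fun h => by
      have := congrArg (fun K : Subgroup SL2 => Nat.card K) h
      simp only [hcu, hd] at this
      nlinarith [show 0 < z * q by positivity])
  have hne : (t₀ : M2) 0 0 ≠ (t₀ : M2) 1 1 := fun h =>
    ht₀c (mem_cent_upp_iff.2 ⟨ht₀.1, ht₀.2, h⟩)
  have ht₀s : ¬ IsSc t₀ := fun h => hne (isSc_iff.1 h).2.2
  have ht₀u : t₀ ∉ cls H u := by
    rintro ⟨-, -, h, -, hc⟩
    obtain ⟨hcH, hc10, hcd⟩ := mem_cent_upp_iff.1 hc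
    have htr := trace_conj h⁻¹ t₀
    rw [inv_inv] at htr
    have hdc := det_one (h⁻¹ * t₀ * h)
    rw [hc10, mul_zero, sub_zero, ← hcd] at hdc
    rw [Matrix.trace_fin_two, Matrix.trace_fin_two, ← hcd] at htr
    have hdt := det_one t₀
    rw [ht₀.2, mul_zero, sub_zero] at hdt
    refine hne (sub_eq_zero.1 (mul_self_eq_zero.1 ?_))
    linear_combination -((t₀ : M2) 0 0 + (t₀ : M2) 1 1 +
      2 * ((h⁻¹ * t₀ * h : SL2) : M2) 0 0) * htr + 4 * hdc - 4 * hdt
  have htc : Nat.card (cent H t₀) = z * d := by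
    have h1 := card_cent_torus ht₀ hne
    rw [hd, ← hq] at h1
    exact Nat.eq_of_mul_eq_mul_left (show 0 < q by omega) (by linarith)
  obtain ⟨M1, s1, t1, hs1, ht1, hM1, hc1, hct1, hnt1⟩ := hdata t₀ ht₀.1 ht₀s ht₀u
  rw [htc] at hct1
  obtain rfl : d = t1 + 1 := Nat.eq_of_mul_eq_mul_left hz0 hct1
  have hd12 : Disjoint (cls H u) (cls H t₀) := cls_disjoint hu ht₀s ht₀.1 ht₀u
  by_cases hall : ∀ y ∈ H, ¬ IsSc y → y ∈ cls H u ∨ y ∈ cls H t₀
  · exfalso
    have h1 := cls_sum_eq (H := H) [u, t₀] (by simp [hd12]) fun y hy hys => by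
      rcases hall y hy hys with h | h
      · exact ⟨u, by simp, h⟩
      · exact ⟨t₀, by simp, h⟩
    simp only [List.map_cons, List.map_nil, List.sum_cons, List.sum_nil, add_zero] at h1
    rw [hclsu, hc1, ← hz, hH, ← mul_add] at h1
    have h2 := hcut h1
    have hM1' : M1 * s1 = N * q := Nat.eq_of_mul_eq_mul_right (show 0 < t1 + 1 by omega) (by
      rw [mul_assoc, hM1, hg]; ring)
    obtain ⟨r, hr⟩ := Nat.exists_eq_add_of_le (show 1 ≤ q by omega)
    rw [hg, hr, show 1 + r - 1 = r by omega] at h2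
    rw [hr] at hM1'
    rcases hs1 with rfl | rfl <;> nlinarith
  push Not at hall
  obtain ⟨x, hxH, hxs, hxu, hxt⟩ := hall
  obtain ⟨M, s, t, hs, ht, hM, hxc, hxcent, -⟩ := hdata x hxH hxs hxu
  have hd13 : Disjoint (cls H u) (cls H x) := cls_disjoint hu hxs hxH hxu
  have hd23 : Disjoint (cls H t₀) (cls H x) := cls_disjoint ht₀s hxs hxH hxt
  have hle3 := cls_sum_le (H := H) [u, t₀, x] (by simp [hd12, hd13, hd23])
  simp only [List.map_cons, List.map_nil, List.sum_cons, List.sum_nil, add_zero] at hle3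
  rw [hclsu, hc1, hxc, ← hz, hH, ← mul_add, ← mul_add] at hle3
  have hle3' : N * (q - 1) + M1 * t1 + M * t + 1 ≤ g := by have := hcutle hle3; omega
  have hd' : t1 + 1 - 1 = t1 := by omega
  rcases hs1 with rfl | rfl
  · exfalso
    rw [one_mul] at hM1
    have := count_split_one hq3 hd2 ht hg hM1 hs hM
    rw [hd'] at this
    omega
  rcases hs with rfl | rfl
  · exfalso
    rw [one_mul] at hM
    have := count_half (M := M) (t := t) hq3 hd2 (by omega) hg hM1 (by rw [← hM]; nlinarith)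
    rw [hd'] at this
    omega
  by_cases hall : ∀ y ∈ H, ¬ IsSc y → y ∈ cls H u ∨ y ∈ cls H t₀ ∨ y ∈ cls H x
  · have h1 := cls_sum_eq (H := H) [u, t₀, x] (by simp [hd12, hd13, hd23]) fun y hy hys => by
      rcases hall y hy hys with h | h | h
      · exact ⟨u, by simp, h⟩
      · exact ⟨t₀, by simp, h⟩
      · exact ⟨x, by simp, h⟩
    simp only [List.map_cons, List.map_nil, List.sum_cons, List.sum_nil, add_zero] at h1
    rw [hclsu, hc1, hxc, ← hz, hH, ← mul_add, ← mul_add] at h1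
    have h2 := hcut h1
    rcases count_final hq3 hd2 hdvd hqodd hNk hk1 hg hM1 hM (by rw [hd']; omega) with h | ⟨h3, hd2', h60, ht4⟩
    · exact Or.inl (hfin h)
    · right
      obtain rfl : t1 = 1 := by omega
      subst ht4
      have hp3' : p = 3 :=
        (Nat.prime_dvd_prime_iff_eq hp.out Nat.prime_three).1 (h3 ▸ hpq)
      obtain ⟨K, hKH, hK, h⟩ := exists_small (p := p) hone hz.symm hz2 (by rw [hH, h60]) hp3'
        ht₀.1 ht₀s htc (by rw [hnt1, htc]; ring) (by rw [hcu, h3]) hxcent hall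
        (fun y hy hyp hys => hcls y hy hys (by rw [trace_of_pow_char hyp]; norm_num))
      exact ⟨K, hKH, hK, h⟩
  · exfalso
    push Not at hall
    obtain ⟨y, hyH, hys, hyu, hyt, hyx⟩ := hall
    obtain ⟨M', s', t', hs', ht', hM', hyc, -, -⟩ := hdata y hyH hys hyu
    have hd14 : Disjoint (cls H u) (cls H y) := cls_disjoint hu hys hyH hyu
    have hd24 : Disjoint (cls H t₀) (cls H y) := cls_disjoint ht₀s hys hyH hyt
    have hd34 : Disjoint (cls H x) (cls H y) := cls_disjoint hxs hys hyH hyx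
    have hle4 := cls_sum_le (H := H) [u, t₀, x, y] (by simp [hd12, hd13, hd23, hd14, hd24, hd34])
    simp only [List.map_cons, List.map_nil, List.sum_cons, List.sum_nil, add_zero] at hle4
    rw [hclsu, hc1, hxc, hyc, ← hz, hH, ← mul_add, ← mul_add, ← mul_add] at hle4
    have h4 := hcutle hle4
    have := count_half (M := 1) (t := M * t + M' * t') hq3 hd2 (by omega) hg hM1 (by
      rw [one_mul]
      have a1 : M * (2 * (t + 1)) ≤ M * (4 * t) := Nat.mul_le_mul_left _ (by omega)
      have a2 : M' * (s' * (t' + 1)) ≤ M' * (4 * t') :=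
        Nat.mul_le_mul_left _ (by rcases hs' with rfl | rfl <;> omega)
      rw [hM] at a1
      rw [hM'] at a2
      linarith)
    rw [hd', one_mul] at this
    omega

/-- Dickson's theorem, with the two root elements. -/
theorem exists_conj_root [Finite F] (hp2 : p ≠ 2) :
    ∀ (n : ℕ) (H : Subgroup SL2), Nat.card H = n → HasTwo p H →
      ∃ g : GL (Fin 2) F, upp 1 ∈ H.map (conjGL g) ∧ low 1 ∈ H.map (conjGL g) := by
  intro n
  induction n using Nat.strong_induction_on with
  | _ n ih =>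
    intro H hn ⟨u, huH, v, hvH, hup, hvp, huv⟩
    have hu1 : u ≠ 1 := fun h => huv (by simp [h])
    obtain ⟨g₁, hg₁⟩ := exists_conj_upp hup hu1
    have hu' : conjGL g₁ u = upp 1 := by
      apply Subtype.ext
      rw [conjGL_val, mul_assoc, hg₁, ← mul_assoc, ← Units.val_mul, inv_mul_cancel, Units.val_one,
        one_mul]
    set w := conjGL g₁ v with hw
    have hwp : w ^ p = 1 := by rw [hw, ← map_pow, hvp, map_one]
    have huw : upp 1 * w ≠ w * upp 1 := fun h => huv (conjGL_injective g₁ (by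
      rw [map_mul, map_mul, hu']; exact h))
    have hw10 : (w : M2) 1 0 ≠ 0 := fun h10 => huw (by
      have ht := trace_of_pow_char hwp
      have hdw := det_one w
      rw [h10, mul_zero, sub_zero] at hdw
      rw [Matrix.trace_fin_two] at ht
      have h00 : (w : M2) 0 0 = (w : M2) 1 1 := sub_eq_zero.1 (mul_self_eq_zero.1 (by
        linear_combination ((w : M2) 0 0 + (w : M2) 1 1 + 2) * ht - 4 * hdw))
      apply Subtype.ext
      simp only [Matrix.SpecialLinearGroup.coe_mul, upp_val]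
      apply ext2 <;> simp [Matrix.mul_apply, Fin.sum_univ_two, h10, h00, add_comm])
    set r := (w : M2) 0 0 / (w : M2) 1 0 with hr
    set g₂ : GL (Fin 2) F := Matrix.SpecialLinearGroup.toGL (upp r)
    have hg₂ : ∀ x : SL2, conjGL g₂ x = (upp r)⁻¹ * x * upp r := fun x => rfl
    set g := g₁ * g₂ with hg
    have hmap : ∀ x, conjGL g x = (upp r)⁻¹ * conjGL g₁ x * upp r := fun x => by
      rw [hg, conjGL_comp, hg₂]
    set H' := H.map (conjGL g) with hH'
    have hone : (1 : F) ∈ addPart H' := by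
      refine ⟨u, huH, ?_⟩
      rw [hmap, hu', upp_inv, upp_mul, upp_mul, neg_add_eq_sub, sub_add_cancel]
    have hzero : (0 : F) ∈ points H' := by
      refine ⟨conjGL g v, Subgroup.mem_map_of_mem _ hvH, ?_, ?_⟩
      · rw [hmap, ← hw]
        simpa [upp_inv, upp_val, Matrix.mul_apply, Matrix.vecMul, dotProduct, Fin.sum_univ_two] using hw10
      · rw [hmap, ← hw, div_eq_zero_iff]
        left
        simp [upp_inv, upp_val, Matrix.mul_apply, Matrix.vecMul, dotProduct, Fin.sum_univ_two, hr]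
        field_simp
        ring
    rcases normalised hp2 hone hzero with h | ⟨K, hKH, hK, hK2⟩
    · exact ⟨g, hone, h⟩
    · have hcard : Nat.card H' = Nat.card H := Subgroup.card_map_of_injective (conjGL_injective g)
      obtain ⟨g₃, h1, h2⟩ := ih (Nat.card K) (by omega) K rfl hK2
      have hsub : K.map (conjGL g₃) ≤ H.map (conjGL (g * g₃)) := by
        rintro _ ⟨k, hk, rfl⟩
        obtain ⟨x, hx, rfl⟩ := hKH hk
        exact ⟨x, hx, conjGL_comp g g₃ x⟩
      exact ⟨g * g₃, hsub h1, hsub h2⟩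

/-- Dickson: a conjugate of `SL₂(p)` lies in `H`. -/
theorem dickson [Finite F] (hp2 : p ≠ 2) {H : Subgroup SL2} (h : HasTwo p H) :
    ∃ g : GL (Fin 2) F, ∀ M : Matrix.SpecialLinearGroup (Fin 2) (ZMod p),
      conjGL g (Matrix.SpecialLinearGroup.map (ZMod.castHom dvd_rfl F) M) ∈ H := by
  obtain ⟨g, h1, h2⟩ := exists_conj_root hp2 _ H rfl h
  refine ⟨g⁻¹, fun M => ?_⟩
  have hcast : ∀ n : ℕ, upp (n : F) ∈ H.map (conjGL g) ∧ low (n : F) ∈ H.map (conjGL g) := by
    intro n
    induction n with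
    | zero =>
      have e1 : (low 0 : SL2) = 1 := Subtype.ext (by simp [low_val, Matrix.one_fin_two])
      simp [upp_zero, e1]
    | succ n ih =>
      rw [Nat.cast_succ, ← upp_mul, ← low_mul]
      exact ⟨mul_mem ih.1 h1, mul_mem ih.2 h2⟩
  have hmem : Matrix.SpecialLinearGroup.map (ZMod.castHom dvd_rfl F) M ∈ H.map (conjGL g) := by
    have hM : M ∈ Subgroup.closure (ClassicalSL.elemTransvections (Fin 2) (ZMod p)) := by
      rw [ClassicalSL.closure_elemTransvections]; trivial
    refine Subgroup.closure_induction (p := fun M _ =>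
      Matrix.SpecialLinearGroup.map (ZMod.castHom dvd_rfl F) M ∈ H.map (conjGL g)) ?_
      (by simp) (fun a b _ _ ha hb => by rw [map_mul]; exact mul_mem ha hb)
      (fun a _ ha => by rw [map_inv]; exact inv_mem ha) hM
    rintro _ ⟨i, j, hij, c, rfl⟩
    obtain ⟨n, rfl⟩ : ∃ n : ℕ, (n : ZMod p) = c := ⟨c.val, ZMod.natCast_zmod_val c⟩
    fin_cases i <;> fin_cases j
    · exact absurd rfl hij
    · convert (hcast n).1 using 1
      apply Subtype.ext
      ext a b
      fin_cases a <;> fin_cases b <;>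
        simp [Matrix.SpecialLinearGroup.transvection_coe, upp_val, Matrix.single]
    · convert (hcast n).2 using 1
      apply Subtype.ext
      ext a b
      fin_cases a <;> fin_cases b <;>
        simp [Matrix.SpecialLinearGroup.transvection_coe, low_val, Matrix.single]
    · exact absurd rfl hij
  obtain ⟨x, hx, e⟩ := hmem
  rw [← e, ← conjGL_comp, mul_inv_cancel, conjGL_one]
  exact hx

/-- The embedded copy of `SL₂(p)`. -/
theorem exists_sl2_le [Finite F] (hp2 : p ≠ 2) {H : Subgroup SL2} (h : HasTwo p H) :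
    ∃ K : Subgroup SL2, K ≤ H ∧
      Nonempty (K ≃* Matrix.SpecialLinearGroup (Fin 2) (ZMod p)) := by
  obtain ⟨g, hg⟩ := dickson hp2 h
  set f := (conjGL g).comp (Matrix.SpecialLinearGroup.map (n := Fin 2) (ZMod.castHom dvd_rfl F))
  have hf : Function.Injective f := fun a b hab => by
    have h1 := conjGL_injective g hab
    ext i j
    have h2 := congrArg (fun m : SL2 => (m : M2) i j) h1
    exact (ZMod.castHom dvd_rfl F).injective (by simpa using h2)
  exact ⟨f.range, by rintro _ ⟨M, rfl⟩; exact hg M, ⟨(MonoidHom.ofInjective hf).symm⟩⟩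

/-- `p`-elements of `SL₂` in characteristic `p` have order at most `p`. -/
theorem pow_char_eq_one {x : SL2} {k : ℕ} (h : x ^ p ^ k = 1) : x ^ p = 1 := by
  have h1 : ((x : M2) - 1) ^ p ^ k = 0 := by
    rw [sub_pow_char_pow_of_commute _ k (Commute.one_right _), one_pow,
      ← Matrix.SpecialLinearGroup.coe_pow, h, Matrix.SpecialLinearGroup.coe_one, sub_self]
  have h2 : Matrix.det ((x : M2) - 1) = 0 := by
    have h3 := congrArg Matrix.det h1
    rw [Matrix.det_pow, Matrix.det_zero] at h3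
    exact (pow_eq_zero_iff (pow_ne_zero k hp.out.ne_zero)).1 h3
  have hdx := det_one x
  rw [Matrix.det_fin_two] at h2
  simp at h2
  have ht : Matrix.trace (x : M2) = 2 * (1 : F) := by
    rw [Matrix.trace_fin_two]; linear_combination hdx - h2
  have h4 := sub_sq_of_trace (x := x) (mul_one (1 : F)) ht
  rw [one_smul] at h4
  obtain ⟨j, hj⟩ := Nat.exists_eq_add_of_le hp.out.two_le
  have h5 : ((x : M2) - 1) ^ p = 0 := by rw [hj, pow_add, h4, zero_mul]
  rw [sub_pow_char_of_commute _ (Commute.one_right _), one_pow, sub_eq_zero] at h5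
  exact Subtype.ext (by rw [Matrix.SpecialLinearGroup.coe_pow]; exact h5)

theorem hasTwo_of_sylow [Finite F] {H : Subgroup SL2} (h : 1 < Nat.card (Sylow p H)) :
    HasTwo p H := by
  classical
  by_contra hno
  have hcomm : ∀ u ∈ H, ∀ v ∈ H, u ^ p = 1 → v ^ p = 1 → u * v = v * u := by
    intro u hu v hv h1 h2
    by_contra h3
    exact hno ⟨u, hu, v, hv, h1, h2, h3⟩
  let S : Subgroup H :=
    { carrier := {x | (x : SL2) ^ p = 1}
      one_mem' := by simp
      mul_mem' := fun {a b} ha hb => by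
        show ((a * b : H) : SL2) ^ p = 1
        rw [Subgroup.coe_mul, Commute.mul_pow (hcomm _ a.2 _ b.2 ha hb), ha, hb, one_mul]
      inv_mem' := fun {a} ha => by
        show ((a⁻¹ : H) : SL2) ^ p = 1
        rw [Subgroup.coe_inv, inv_pow, ha, inv_one] }
  have hS : IsPGroup p S := fun x => ⟨1, Subtype.ext (Subtype.ext (by
    rw [pow_one]; simp only [SubmonoidClass.coe_pow]; exact x.2))⟩
  have hle : ∀ P : Sylow p H, (P : Subgroup H) = S := fun P => by
    have hPS : (P : Subgroup H) ≤ S := fun x hx => by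
      obtain ⟨k, hk⟩ := P.2 ⟨x, hx⟩
      exact pow_char_eq_one (k := k) (by simpa using congrArg (fun y : P => ((y : H) : SL2)) hk)
    exact (P.3 hS hPS).symm
  have : Subsingleton (Sylow p H) := ⟨fun P Q => Sylow.ext ((hle P).trans (hle Q).symm)⟩
  exact absurd (Finite.card_le_one_iff_subsingleton.2 this) (by omega)

end Cfsg.Agent.PStable
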