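import Mathlib.Algebra.CharP.Algebra
import Mathlib.LinearAlgebra.FiniteDimensional.Basic
import Mathlib.LinearAlgebra.Matrix.ToLin
import Mathlib.RingTheory.Ideal.Quotient.Basic
import Mathlib.RingTheory.Ideal.Quotient.Operations
import Mathlib.FieldTheory.Finite.Basic
import Mathlib.RingTheory.Artinian.Module
import Mathlib.RingTheory.Noetherian.Basic
import Mathlib.GroupTheory.OrderOfElement
import Cfsg.Agent.Lib.PStable.SL2Basic

/-!
Two quadratically acting generators: the representation has a section which is the natural module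
of a `SL₂` over an extension field.
-/

set_option autoImplicit false
set_option linter.style.haveILetI false

namespace Cfsg.Agent.PStable

open Polynomial Matrix

universe u

variable {F : Type u} [Field F]

/-- An irreducible endomorphism turns its space into a field. -/
theorem exists_field_of_irred {U : Type*} [AddCommGroup U] [Module F U] [FiniteDimensional F U]
    (φ : Module.End F U) (u0 : U) (hu0 : u0 ≠ 0)
    (hirr : ∀ S : Submodule F U, (∀ x ∈ S, φ x ∈ S) → S ≠ ⊥ → S = ⊤) :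
    ∃ (E : Type u) (_ : Field E) (_ : Algebra F E) (_ : Module.Finite F E) (μ : E)
      (ι : E ≃ₗ[F] U), (∀ e, ι (μ * e) = φ (ι e)) ∧
        ∀ c : F, μ = algebraMap F E c → Function.Surjective (algebraMap F E) := by
  set I : Ideal F[X] := RingHom.ker (aeval φ : F[X] →ₐ[F] Module.End F U) with hI
  have hinj : ∀ f : F[X], aeval φ f u0 = 0 → f ∈ I := by
    intro f hf
    rw [hI, RingHom.mem_ker]
    have hinv : ∀ x ∈ LinearMap.ker (aeval φ f), φ x ∈ LinearMap.ker (aeval φ f) := by
      intro x hx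
      rw [LinearMap.mem_ker] at hx ⊢
      have hc : aeval φ f * φ = φ * aeval φ f := by
        have h1 := congrArg (aeval φ : F[X] →ₐ[F] Module.End F U) (mul_comm f X)
        rwa [map_mul, map_mul, aeval_X] at h1
      have h2 := congrArg (fun g : Module.End F U => g x) hc
      simp only [Module.End.mul_apply, hx, map_zero] at h2
      exact h2
    have hker := hirr _ hinv (fun h => hu0 (by
      have : u0 ∈ LinearMap.ker (aeval φ f) := hf
      rwa [h, Submodule.mem_bot] at this))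
    ext x
    have hx : x ∈ LinearMap.ker (aeval φ f) := by rw [hker]; trivial
    exact hx
  let Φ : F[X] →ₗ[F] U :=
    (LinearMap.applyₗ u0).comp (aeval φ : F[X] →ₐ[F] Module.End F U).toLinearMap
  have hΦ : ∀ f, Φ f = aeval φ f u0 := fun f => rfl
  have hrange : ∀ f : F[X], f ∉ I → ∀ v : U, ∃ g : F[X], Φ (g * f) = v := by
    intro f hf
    have h := hirr (LinearMap.range (Φ.comp (LinearMap.mulRight F f))) (by
      rintro _ ⟨g, rfl⟩
      refine ⟨X * g, ?_⟩
      show Φ (X * g * f) = φ (Φ (g * f))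
      rw [hΦ, hΦ, mul_assoc, map_mul, aeval_X, Module.End.mul_apply]) (fun h => by
      have h1 : Φ (1 * f) ∈ LinearMap.range (Φ.comp (LinearMap.mulRight F f)) := ⟨1, rfl⟩
      rw [h, Submodule.mem_bot, one_mul, hΦ] at h1
      exact hf (hinj f h1))
    intro v
    have hv : v ∈ LinearMap.range (Φ.comp (LinearMap.mulRight F f)) := h ▸ Submodule.mem_top
    exact hv
  have h1 : (1 : F[X]) ∉ I := fun h => hu0 (by
    rw [hI, RingHom.mem_ker, map_one] at h
    simpa using congrArg (fun g : Module.End F U => g u0) h)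
  have hmax : I.IsMaximal := by
    refine Ideal.isMaximal_iff.2 ⟨h1, fun J f hIJ hf hfJ => ?_⟩
    obtain ⟨g, hg⟩ := hrange f hf u0
    have : g * f - 1 ∈ I := hinj _ (by
      rw [map_sub, LinearMap.sub_apply, ← hΦ, hg, map_one, Module.End.one_apply, sub_self])
    have h2 := J.sub_mem (J.mul_mem_left g hfJ) (hIJ this)
    rwa [sub_sub_cancel] at h2
  letI : Field (F[X] ⧸ I) := Ideal.Quotient.field I
  have hle : (I.restrictScalars F) ≤ LinearMap.ker Φ := fun f hf => by
    rw [LinearMap.mem_ker, hΦ]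
    rw [Submodule.restrictScalars_mem, hI, RingHom.mem_ker] at hf
    rw [hf]; rfl
  let Ψ : (F[X] ⧸ I) →ₗ[F] U := (I.restrictScalars F).liftQ Φ hle ∘ₗ
    (Submodule.Quotient.restrictScalarsEquiv F I).symm.toLinearMap
  have hΨ : ∀ f : F[X], Ψ (Ideal.Quotient.mk I f) = Φ f := fun f => rfl
  have hbij : Function.Bijective Ψ := by
    refine ⟨(injective_iff_map_eq_zero Ψ).2 fun e => ?_, fun v => ?_⟩
    · obtain ⟨f, rfl⟩ := Ideal.Quotient.mk_surjective e
      intro h
      rw [hΨ, hΦ] at h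
      exact Ideal.Quotient.eq_zero_iff_mem.2 (hinj f h)
    · obtain ⟨g, hg⟩ := hrange 1 h1 v
      exact ⟨Ideal.Quotient.mk I (g * 1), by rw [hΨ, hg]⟩
  haveI : Module.Finite F (F[X] ⧸ I) :=
    Module.Finite.equiv (LinearEquiv.ofBijective Ψ hbij).symm
  refine ⟨F[X] ⧸ I, inferInstance, inferInstance, inferInstance, Ideal.Quotient.mk I X,
    LinearEquiv.ofBijective Ψ hbij, fun e => ?_, fun c hc => ?_⟩
  · obtain ⟨f, rfl⟩ := Ideal.Quotient.mk_surjective e
    rw [LinearEquiv.ofBijective_apply, LinearEquiv.ofBijective_apply, ← map_mul, hΨ, hΨ, hΦ, hΦ,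
      map_mul, aeval_X, Module.End.mul_apply]
  · intro e
    obtain ⟨f, rfl⟩ := Ideal.Quotient.mk_surjective e
    refine ⟨aeval c f, ?_⟩
    induction f using Polynomial.induction_on' with
    | add f g hf hg => rw [map_add, map_add, hf, hg, map_add]
    | monomial n r =>
      rw [aeval_monomial, map_mul, map_pow, ← hc, ← C_mul_X_pow_eq_monomial, map_mul, map_pow]
      rfl

variable {p : ℕ} [hp : Fact p.Prime] [CharP F p] {W : Type*} [AddCommGroup W] [Module F W]

omit hp in
theorem one_add_pow_of_sq_zero {x : Module.End F W} (h : (x - 1) ^ 2 = 0) :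
    ∀ i : ℕ, x ^ i = 1 + (i : F) • (x - 1)
  | 0 => by simp
  | i + 1 => by
    rw [pow_succ, one_add_pow_of_sq_zero h i, Nat.cast_succ, add_smul, one_smul]
    rw [pow_two] at h
    calc (1 + (i : F) • (x - 1)) * x
        = x + (i : F) • (x - 1) + (i : F) • ((x - 1) * (x - 1)) := by
          rw [add_mul, one_mul, smul_mul_assoc, mul_sub (x - 1) x 1, mul_one, smul_sub (i : F)]
          simp only [sub_mul, one_mul, smul_sub]
          abel
      _ = 1 + ((i : F) • (x - 1) + (x - 1)) := by rw [h, smul_zero, add_zero]; abel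

/-- A subspace invariant under the operators of a group is invariant under generators only. -/
theorem invariant_of_gen [FiniteDimensional F W] {K : Type*} [Group K] (ρ : K →* Module.End F W)
    {a b : K} (hgen : Subgroup.closure {a, b} = ⊤) (S : Submodule F W)
    (ha : ∀ x ∈ S, ρ a x ∈ S) (hb : ∀ x ∈ S, ρ b x ∈ S) (k : K) : ∀ x ∈ S, ρ k x ∈ S := by
  let N : Subgroup K :=
    { carrier := {k | S.map (ρ k) = S}
      one_mem' := by
        show S.map (ρ 1) = S
        rw [map_one]; exact Submodule.map_id S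
      mul_mem' := fun {x y} hx hy => by
        show S.map (ρ (x * y)) = S
        rw [map_mul, Module.End.mul_eq_comp, Submodule.map_comp, hy, hx]
      inv_mem' := fun {x} hx => by
        show S.map (ρ x⁻¹) = S
        conv_lhs => rw [← hx]
        rw [← Submodule.map_comp, ← Module.End.mul_eq_comp, ← map_mul, inv_mul_cancel, map_one]
        exact Submodule.map_id S }
  have hN : ∀ x : K, (∀ w ∈ S, ρ x w ∈ S) → x ∈ N := fun x hx => by
    have hi : Function.Injective (ρ x) := Function.LeftInverse.injective (g := ρ x⁻¹) fun w => by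
      rw [← Module.End.mul_apply, ← map_mul, inv_mul_cancel, map_one, Module.End.one_apply]
    show S.map (ρ x) = S
    refine Submodule.eq_of_le_of_finrank_eq (Submodule.map_le_iff_le_comap.2 hx) ?_
    exact (Submodule.equivMapOfInjective _ hi S).finrank_eq.symm
  have hk : k ∈ N := by
    have : k ∈ Subgroup.closure {a, b} := hgen ▸ Subgroup.mem_top k
    refine (Subgroup.closure_le N).2 ?_ this
    rintro x (rfl | rfl)
    exacts [hN _ ha, hN _ hb]
  intro x hx
  have hk' : S.map (ρ k) = S := hk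
  rw [← hk']
  exact Submodule.mem_map_of_mem hx

theorem eq_one_of_gen {K : Type*} [Group K] (ρ : K →* Module.End F W)
    {a b : K} (hgen : Subgroup.closure {a, b} = ⊤) (ha : ρ a = 1) (hb : ρ b = 1) (k : K) :
    ρ k = 1 := by
  have hk : k ∈ Subgroup.closure {a, b} := hgen ▸ Subgroup.mem_top k
  exact (Subgroup.closure_le (MonoidHom.ker ρ)).2 (by rintro x (rfl | rfl) <;> assumption) hk

/-- An irreducible representation with two quadratic generators. -/
theorem irreducible_pair [FiniteDimensional F W] {K : Type*} [Group K] (ρ : K →* Module.End F W)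
    {a b : K} (hgen : Subgroup.closure {a, b} = ⊤) (ha : (ρ a - 1) ^ 2 = 0)
    (hb : (ρ b - 1) ^ 2 = 0) {k₀ : K} (hk₀ : ρ k₀ ≠ 1)
    (hirr : ∀ S : Submodule F W, (∀ k, ∀ x ∈ S, ρ k x ∈ S) → S ≠ ⊥ → S = ⊤) :
    ∃ (E : Type u) (_ : Field E) (_ : Algebra F E) (_ : Module.Finite F E) (μ : E)
      (φ : K →* Matrix.SpecialLinearGroup (Fin 2) E) (e : W ≃ₗ[F] (Fin 2 → E)),
      μ ≠ 0 ∧ φ a = upp μ ∧ φ b = low 1 ∧
      (∀ k x, e (ρ k x) = (φ k : Matrix (Fin 2) (Fin 2) E) *ᵥ e x) ∧
      ∀ c : F, μ = algebraMap F E c → Function.Surjective (algebraMap F E) := by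
  set n := ρ a - 1 with hn
  set m := ρ b - 1 with hm
  have hna : ∀ x, ρ a x = x + n x := fun x => by rw [hn]; simp
  have hmb : ∀ x, ρ b x = x + m x := fun x => by rw [hm]; simp
  have hn2 : ∀ x, n (n x) = 0 := fun x => by
    simpa [pow_two] using congrArg (fun f : Module.End F W => f x) ha
  have hm2 : ∀ x, m (m x) = 0 := fun x => by
    simpa [pow_two] using congrArg (fun f : Module.End F W => f x) hb
  have hinv : ∀ S : Submodule F W, (∀ x ∈ S, n x ∈ S) → (∀ x ∈ S, m x ∈ S) → S ≠ ⊥ → S = ⊤ :=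
    fun S h1 h2 => hirr S fun k => invariant_of_gen ρ hgen S
      (fun x hx => by rw [hna]; exact S.add_mem hx (h1 x hx))
      (fun x hx => by rw [hmb]; exact S.add_mem hx (h2 x hx)) k
  have htriv : ¬ (n = 0 ∧ m = 0) := fun h => hk₀
    (eq_one_of_gen ρ hgen (sub_eq_zero.1 h.1) (sub_eq_zero.1 h.2) k₀)
  have hker : LinearMap.ker n ⊓ LinearMap.ker m = ⊥ := by
    by_contra h
    have ht := hinv _
      (fun x hx => by
        rw [Submodule.mem_inf, LinearMap.mem_ker, LinearMap.mem_ker] at hx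
        rw [hx.1]; exact Submodule.zero_mem _)
      (fun x hx => by
        rw [Submodule.mem_inf, LinearMap.mem_ker, LinearMap.mem_ker] at hx
        rw [hx.2]; exact Submodule.zero_mem _) h
    rw [inf_eq_top_iff, LinearMap.ker_eq_top, LinearMap.ker_eq_top] at ht
    exact htriv ht
  have hboth : ∀ x, n x = 0 → m x = 0 → x = 0 := fun x h1 h2 => by
    have : x ∈ LinearMap.ker n ⊓ LinearMap.ker m := ⟨h1, h2⟩
    rwa [hker, Submodule.mem_bot] at this
  have hn0 : n ≠ 0 := fun h => htriv ⟨h, LinearMap.ext fun x =>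
    hboth _ (by rw [h]; rfl) (hm2 x)⟩
  set U := LinearMap.range n with hU
  have hUn : ∀ x ∈ U, n x = 0 := by rintro _ ⟨y, rfl⟩; exact hn2 y
  have hφmem : ∀ x ∈ U, (n * m) x ∈ U := fun x _ => ⟨m x, rfl⟩
  set φ : Module.End F U := (n * m).restrict hφmem with hφ
  obtain ⟨y, hy⟩ : ∃ y, n y ≠ 0 := by
    by_contra h
    push Not at h
    exact hn0 (LinearMap.ext h)
  have hirrU : ∀ S : Submodule F U, (∀ x ∈ S, φ x ∈ S) → S ≠ ⊥ → S = ⊤ := by
    intro S hS hSne
    set S' := S.map U.subtype with hS'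
    have htop : S' ⊔ S'.map m = ⊤ := by
      refine hinv _ ?_ ?_ ?_
      · intro x hx
        obtain ⟨s, hs, t, ht, rfl⟩ := Submodule.mem_sup.1 hx
        obtain ⟨s', hs', rfl⟩ := ht
        obtain ⟨v, hv, rfl⟩ := hs'
        obtain ⟨w, hw, rfl⟩ := hs
        rw [Submodule.coe_subtype, map_add, hUn _ (Submodule.coe_mem w), zero_add]
        exact Submodule.mem_sup_left ⟨φ v, hS v hv, rfl⟩
      · intro x hx
        obtain ⟨s, hs, t, ht, rfl⟩ := Submodule.mem_sup.1 hx
        obtain ⟨s', hs', rfl⟩ := ht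
        rw [map_add, hm2, add_zero]
        exact Submodule.mem_sup_right ⟨s, hs, rfl⟩
      · intro h
        refine hSne (Submodule.map_injective_of_injective U.injective_subtype ?_)
        rw [Submodule.map_bot]
        exact (sup_eq_bot_iff.1 h).1
    rw [eq_top_iff]
    rintro ⟨x, hx⟩ -
    have hx' : x ∈ S' ⊔ S'.map m := by rw [htop]; trivial
    obtain ⟨s, ⟨w, hw, rfl⟩, t, ⟨s', -, rfl⟩, e⟩ := Submodule.mem_sup.1 hx'
    have h1 : m s' = 0 := by
      refine hboth _ ?_ (hm2 _)
      have h2 := hUn x hx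
      rw [← e, map_add, Submodule.coe_subtype, hUn _ (Submodule.coe_mem w), zero_add] at h2
      exact h2
    rw [h1, add_zero, Submodule.coe_subtype] at e
    rwa [show (⟨x, hx⟩ : U) = w from Subtype.ext e.symm]
  obtain ⟨E, hEf, hEa, hEfin, μ, ι, hι, hμ⟩ := exists_field_of_irred φ ⟨n y, ⟨y, rfl⟩⟩
    (fun h => hy (congrArg Subtype.val h)) hirrU
  have hφinj : ∀ u : U, φ u = 0 → u = 0 := by
    intro u hu
    have h1 : n (m u) = 0 := congrArg Subtype.val hu
    exact Subtype.ext (hboth _ (hUn _ u.2) (hboth _ h1 (hm2 _)))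
  let Ψ : (Fin 2 → E) →ₗ[F] W :=
    { toFun := fun v => (ι (v 0) : W) + m (ι (v 1))
      map_add' := fun v w => by
        simp only [Pi.add_apply, map_add, Submodule.coe_add]; abel
      map_smul' := fun c v => by
        simp only [Pi.smul_apply, map_smul, SetLike.val_smul, RingHom.id_apply, smul_add] }
  have hΨn : ∀ v, n (Ψ v) = ι (μ * v 1) := fun v => by
    show n ((ι (v 0) : W) + m (ι (v 1))) = _
    rw [map_add, hUn _ (ι (v 0)).2, zero_add, hι]
    rfl
  have hΨm : ∀ v, m (Ψ v) = m (ι (v 0)) := fun v => by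
    show m ((ι (v 0) : W) + m (ι (v 1))) = _
    rw [map_add, hm2, add_zero]
  have hμ0 : μ ≠ 0 := fun h => by
    have h1 := hι 1
    rw [h, zero_mul, map_zero] at h1
    exact one_ne_zero (ι.map_eq_zero_iff.1 (hφinj _ h1.symm))
  have hbij : Function.Bijective Ψ := by
    refine ⟨(injective_iff_map_eq_zero Ψ).2 fun v hv => ?_, ?_⟩
    · have h1 := hΨn v
      rw [hv, map_zero] at h1
      have h2 : v 1 = 0 := (mul_eq_zero.1 (ι.map_eq_zero_iff.1 (Subtype.ext h1.symm))).resolve_left hμ0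
      have h3 : (ι (v 0) : W) + m (ι (v 1)) = 0 := hv
      rw [h2, map_zero, Submodule.coe_zero, map_zero, add_zero] at h3
      have h4 : v 0 = 0 := ι.map_eq_zero_iff.1 (Subtype.ext h3)
      funext i
      fin_cases i <;> assumption
    · refine LinearMap.range_eq_top.1 (hinv _ ?_ ?_ ?_)
      · rintro _ ⟨v, rfl⟩
        exact ⟨![μ * v 1, 0], by show _ + m _ = _; simp [hΨn]⟩
      · rintro _ ⟨v, rfl⟩
        exact ⟨![0, v 0], by show _ + m _ = _; simp [hΨm]⟩
      · intro h
        have h1 : Ψ ![ι.symm ⟨n y, ⟨y, rfl⟩⟩, 0] ∈ LinearMap.range Ψ := ⟨_, rfl⟩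
        rw [h, Submodule.mem_bot] at h1
        refine hy ?_
        simpa [Ψ] using h1
  set e := (LinearEquiv.ofBijective Ψ hbij).symm with he
  have heΨ : ∀ v, e (Ψ v) = v := fun v => (LinearEquiv.ofBijective Ψ hbij).symm_apply_apply v
  have hΨe : ∀ x, Ψ (e x) = x := fun x => (LinearEquiv.ofBijective Ψ hbij).apply_symm_apply x
  let N : Subgroup K :=
    { carrier := {k | ∃ M : Matrix.SpecialLinearGroup (Fin 2) E,
        ∀ v, ρ k (Ψ v) = Ψ ((M : Matrix (Fin 2) (Fin 2) E) *ᵥ v)}
      one_mem' := ⟨1, fun v => by simp⟩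
      mul_mem' := by
        rintro x y ⟨M, hM⟩ ⟨M', hM'⟩
        exact ⟨M * M', fun v => by
          rw [map_mul, Module.End.mul_apply, hM', hM, Matrix.SpecialLinearGroup.coe_mul,
            Matrix.mulVec_mulVec]⟩
      inv_mem' := by
        rintro x ⟨M, hM⟩
        refine ⟨M⁻¹, fun v => ?_⟩
        have h1 : Ψ v = ρ x (Ψ (((M⁻¹ : Matrix.SpecialLinearGroup (Fin 2) E) :
            Matrix (Fin 2) (Fin 2) E) *ᵥ v)) := by
          rw [hM, Matrix.mulVec_mulVec, ← Matrix.SpecialLinearGroup.coe_mul, mul_inv_cancel,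
            Matrix.SpecialLinearGroup.coe_one, Matrix.one_mulVec]
        conv_lhs => rw [h1]
        rw [← Module.End.mul_apply, ← map_mul, inv_mul_cancel, map_one, Module.End.one_apply] }
  have haN : ∀ v, ρ a (Ψ v) = Ψ (((upp μ : Matrix.SpecialLinearGroup (Fin 2) E) :
      Matrix (Fin 2) (Fin 2) E) *ᵥ v) := fun v => by
    rw [hna, hΨn]
    show _ = (ι _ : W) + m (ι _)
    simp [upp_val, Matrix.mulVec, dotProduct, Fin.sum_univ_two]
    show (ι (v 0) : W) + m (ι (v 1)) + _ = _
    abel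
  have hbN : ∀ v, ρ b (Ψ v) = Ψ (((low 1 : Matrix.SpecialLinearGroup (Fin 2) E) :
      Matrix (Fin 2) (Fin 2) E) *ᵥ v) := fun v => by
    rw [hmb, hΨm]
    show _ = (ι _ : W) + m (ι _)
    simp [low_val, Matrix.mulVec, dotProduct, Fin.sum_univ_two]
    show (ι (v 0) : W) + m (ι (v 1)) + _ = _
    abel
  have hall : ∀ k, k ∈ N := fun k => by
    have hk : k ∈ Subgroup.closure {a, b} := hgen ▸ Subgroup.mem_top k
    exact (Subgroup.closure_le N).2 (by rintro x (rfl | rfl); exacts [⟨_, haN⟩, ⟨_, hbN⟩]) hk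
  choose f hf using hall
  have huniq : ∀ k (M : Matrix.SpecialLinearGroup (Fin 2) E),
      (∀ v, ρ k (Ψ v) = Ψ ((M : Matrix (Fin 2) (Fin 2) E) *ᵥ v)) → f k = M := fun k M hM => by
    refine Subtype.ext (Matrix.ext fun i j => ?_)
    have := congrFun (hbij.1 ((hf k (Pi.single j 1)).symm.trans (hM (Pi.single j 1)))) i
    simpa using this
  let φK : K →* Matrix.SpecialLinearGroup (Fin 2) E := MonoidHom.mk' f fun x y =>
    huniq _ _ fun v => by
      rw [map_mul, Module.End.mul_apply, hf, hf, Matrix.SpecialLinearGroup.coe_mul,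
        Matrix.mulVec_mulVec]
  refine ⟨E, hEf, hEa, hEfin, μ, φK, e, hμ0, huniq a _ haN, huniq b _ hbN, fun k x => ?_, hμ⟩
  conv_lhs => rw [← hΨe x, hf k, heΨ]
  rfl

/-- Two quadratic generators and an element of order prime to `p` acting nontrivially: a section
which is the natural module of a subgroup of `SL₂` over an extension field. -/
theorem exists_pair_section [FiniteDimensional F W] {K : Type*} [Group K]
    (ρ : K →* Module.End F W) {a b : K} (hgen : Subgroup.closure {a, b} = ⊤)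
    (ha : (ρ a - 1) ^ 2 = 0) (hb : (ρ b - 1) ^ 2 = 0)
    {k₀ : K} (hk₀ : ρ k₀ ≠ 1) (hord : (orderOf k₀).Coprime p) :
    ∃ (E : Type u) (_ : Field E) (_ : Algebra F E) (_ : Module.Finite F E) (μ : E)
      (φ : K →* Matrix.SpecialLinearGroup (Fin 2) E) (W₁ : Submodule F W)
      (π : W₁ →ₗ[F] (Fin 2 → E)) (hW : ∀ k, ∀ x ∈ W₁, ρ k x ∈ W₁),
      μ ≠ 0 ∧ φ a = upp μ ∧ φ b = low 1 ∧ φ k₀ ≠ 1 ∧ Function.Surjective π ∧
      (∀ k (x : W₁), π ⟨ρ k x, hW k x x.2⟩ = (φ k : Matrix (Fin 2) (Fin 2) E) *ᵥ π x) ∧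
      ∀ c : F, μ = algebraMap F E c → Function.Surjective (algebraMap F E) := by
  set Inv : Submodule F W → Prop := fun S => ∀ k, ∀ x ∈ S, ρ k x ∈ S with hInv
  obtain ⟨W₁, ⟨hW₁i, w, hw, hwk⟩, hmin⟩ := exists_minimal_of_wellFoundedLT
    (fun S : Submodule F W => Inv S ∧ ∃ x ∈ S, ρ k₀ x ≠ x) ⟨⊤, fun _ _ _ => trivial, by
      by_contra h
      push Not at h
      exact hk₀ (LinearMap.ext fun x => h x trivial)⟩
  obtain ⟨W', ⟨hW'i, hW'lt⟩, hmax⟩ := exists_maximal_of_wellFoundedGT
    (fun S : Submodule F W => Inv S ∧ S < W₁) ⟨⊥, fun k x hx => by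
      rw [Submodule.mem_bot] at hx ⊢; rw [hx, map_zero],
      bot_lt_iff_ne_bot.2 fun h => hwk (by
        rw [h, Submodule.mem_bot] at hw; rw [hw, map_zero])⟩
  have hfix : ∀ x ∈ W', ρ k₀ x = x := by
    intro x hx
    by_contra h
    exact absurd (hmin ⟨hW'i, x, hx, h⟩ hW'lt.le) (not_le_of_gt hW'lt)
  let ρ₁ : K →* Module.End F W₁ :=
    { toFun := fun k => (ρ k).restrict (hW₁i k)
      map_one' := LinearMap.ext fun x => Subtype.ext (by simp)
      map_mul' := fun x y => LinearMap.ext fun v => Subtype.ext (by simp) }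
  set T : Submodule F W₁ := W'.comap W₁.subtype with hT
  have hTi : ∀ k, T ≤ T.comap (ρ₁ k) := fun k x hx => hW'i k x hx
  let σ : K →* Module.End F (W₁ ⧸ T) :=
    { toFun := fun k => T.mapQ T (ρ₁ k) (hTi k)
      map_one' := by
        refine Submodule.linearMap_qext _ (LinearMap.ext fun x => ?_)
        show Submodule.Quotient.mk (ρ₁ 1 x) = Submodule.Quotient.mk x
        rw [map_one]
        rfl
      map_mul' := fun x y => by
        refine Submodule.linearMap_qext _ (LinearMap.ext fun v => ?_)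
        simp [map_mul] }
  have hσ : ∀ k (x : W₁), σ k (Submodule.Quotient.mk x) = Submodule.Quotient.mk (ρ₁ k x) :=
    fun k x => rfl
  have hquad : ∀ c, (ρ c - 1) ^ 2 = 0 → (σ c - 1) ^ 2 = 0 := by
    intro c hc
    refine Submodule.linearMap_qext _ (LinearMap.ext fun x => ?_)
    have h1 := congrArg (fun f : Module.End F W => f x) hc
    simp only [pow_two, Module.End.mul_apply, LinearMap.sub_apply, Module.End.one_apply,
      LinearMap.zero_apply, map_sub] at h1
    simp only [pow_two, LinearMap.comp_apply, Submodule.mkQ_apply, Module.End.mul_apply,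
      LinearMap.sub_apply, Module.End.one_apply, hσ, ← Submodule.Quotient.mk_sub, map_sub,
      LinearMap.zero_apply]
    rw [show (ρ₁ c (ρ₁ c x) - ρ₁ c x - (ρ₁ c x - x)) = 0 from Subtype.ext (by simpa [ρ₁] using h1),
      Submodule.Quotient.mk_zero]
  have hσk : σ k₀ ≠ 1 := by
    intro h
    refine hwk ?_
    have hin : ∀ x : W₁, ρ k₀ x - x ∈ W' := fun x => by
      have h1 := congrArg (fun f : Module.End F (W₁ ⧸ T) => f (Submodule.Quotient.mk x)) h
      simp only [hσ, Module.End.one_apply, Submodule.Quotient.eq] at h1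
      exact h1
    have hsq : (ρ₁ k₀ - 1) ^ 2 = 0 := LinearMap.ext fun x => Subtype.ext (by
      have := hfix _ (hin x)
      rw [map_sub] at this
      simp [pow_two, ρ₁]
      linear_combination (norm := module) this)
    have hp1 : (ρ₁ k₀) ^ p = 1 := by
      rw [one_add_pow_of_sq_zero hsq, CharP.cast_eq_zero, zero_smul, add_zero]
    have h1 : ρ₁ k₀ = 1 := by
      rw [← map_pow] at hp1
      obtain ⟨j, hj⟩ := exists_pow_eq_self_of_coprime (x := k₀) (n := p) hord.symm
      rw [← hj, map_pow, hp1, one_pow]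
    exact congrArg Subtype.val (LinearMap.congr_fun h1 ⟨w, hw⟩ :)
  have hirr : ∀ S : Submodule F (W₁ ⧸ T), (∀ k, ∀ x ∈ S, σ k x ∈ S) → S ≠ ⊥ → S = ⊤ := by
    intro S hS hne
    set S' := (S.comap T.mkQ).map W₁.subtype with hS'
    have hle : W' ≤ S' := fun x hx => ⟨⟨x, hW'lt.le hx⟩, by
      show Submodule.Quotient.mk _ ∈ S
      rw [(Submodule.Quotient.mk_eq_zero T).2 hx]; exact S.zero_mem, rfl⟩
    have hSi : Inv S' := by
      rintro k _ ⟨x, hx, rfl⟩
      exact ⟨ρ₁ k x, hS k _ hx, rfl⟩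
    by_contra htop
    have hlt : S' < W₁ := by
      refine lt_of_le_of_ne (Submodule.map_subtype_le _ _) fun h => htop (eq_top_iff.2 fun x _ => ?_)
      obtain ⟨y, rfl⟩ := Submodule.Quotient.mk_surjective T x
      have : (y : W) ∈ S' := h.symm ▸ y.2
      obtain ⟨z, hz, e⟩ := this
      rwa [show z = y from Subtype.ext e] at hz
    have heq : S' = W' := le_antisymm (hmax ⟨hSi, hlt⟩ hle) hle
    refine hne (eq_bot_iff.2 fun x hx => ?_)
    obtain ⟨y, rfl⟩ := Submodule.Quotient.mk_surjective T x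
    rw [Submodule.mem_bot, Submodule.Quotient.mk_eq_zero]
    show (y : W) ∈ W'
    rw [← heq]
    exact ⟨y, hx, rfl⟩
  obtain ⟨E, hEf, hEa, hEfin, μ, φ, e, hμ0, hφa, hφb, heq, hμ⟩ :=
    irreducible_pair σ hgen (hquad a ha) (hquad b hb) hσk hirr
  refine ⟨E, hEf, hEa, hEfin, μ, φ, W₁, e.toLinearMap.comp T.mkQ, hW₁i, hμ0, hφa, hφb,
    fun h => hσk ?_, e.surjective.comp (Submodule.mkQ_surjective T), fun k x => ?_, hμ⟩
  · exact LinearMap.ext fun x => e.injective (by rw [heq, h]; simp)
  · exact heq k (Submodule.Quotient.mk x)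

end Cfsg.Agent.PStable
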