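import Mathlib.Algebra.Module.ZMod
import Mathlib.GroupTheory.Perm.Cycle.Type
import Cfsg.Agent.Lib.Involutions.BaerSuzuki
import Cfsg.Agent.Lib.PLocal.ZJ
import Cfsg.Agent.Lib.PLocal.ZJNPC
import Cfsg.Agent.Lib.PStable.DicksonMain
import Cfsg.Agent.Lib.PStable.QuadraticPair

/-!
Failure of `p`-stability produces the natural module of `SL₂(p)` as a section.
-/

set_option autoImplicit false
set_option linter.style.haveILetI false

open scoped commutatorElement

namespace Cfsg.Agent.PStable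

open Cfsg.Agent

variable {p : ℕ} [hp : Fact p.Prime]

local notation "SL2p" => Matrix.SpecialLinearGroup (Fin 2) (ZMod p)
local notation "Plane" => Multiplicative (Fin 2 → ZMod p)

/-- The automorphisms of an exponent `p` abelian group as linear maps. -/
def toLin (V : Type*) [CommGroup V] [Module (ZMod p) (Additive V)] :
    MulAut V →* Module.End (ZMod p) (Additive V) where
  toFun α := (MonoidHom.toAdditive α.toMonoidHom).toZModLinearMap p
  map_one' := rfl
  map_mul' _ _ := rfl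

theorem toLin_apply {V : Type*} [CommGroup V] [Module (ZMod p) (Additive V)] (α : MulAut V) (v : V) :
    toLin (p := p) V α (Additive.ofMul v) = Additive.ofMul (α v) := rfl

theorem toLin_injective {V : Type*} [CommGroup V] [Module (ZMod p) (Additive V)] :
    Function.Injective (toLin (p := p) V) := fun α β h => MulEquiv.ext fun v =>
  Additive.ofMul.injective (LinearMap.congr_fun h (Additive.ofMul v))

theorem toLin_sq {V : Type*} [CommGroup V] [Module (ZMod p) (Additive V)] {α : MulAut V}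
    (h : ∀ v, α (α v * v⁻¹) = α v * v⁻¹) : (toLin (p := p) V α - 1) ^ 2 = 0 := by
  refine LinearMap.ext fun v => ?_
  have h' := h (Additive.toMul v)
  rw [← div_eq_mul_inv] at h'
  rw [pow_two]
  show toLin (p := p) V α (toLin (p := p) V α v - v) - (toLin (p := p) V α v - v) = 0
  exact sub_eq_zero.2 h'

theorem exists_coprime_nontrivial {H : Type*} [Group H] [Finite H] {K : Subgroup H}
    (hK : ¬ IsPGroup p K) : ∃ k ∈ K, k ≠ 1 ∧ (orderOf k).Coprime p := by
  by_contra hno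
  push Not at hno
  refine hK (IsPGroup.iff_orderOf.2 fun k => ⟨_, Nat.eq_prime_pow_of_unique_prime_dvd
    (orderOf_pos k).ne' fun {q} hq hqd => ?_⟩)
  by_contra hne
  have hd : q ∣ Nat.card K := hqd.trans (orderOf_dvd_natCard k)
  haveI : Fact q.Prime := ⟨hq⟩
  obtain ⟨x, hx⟩ := exists_prime_orderOf_dvd_card' (G := K) q hd
  rw [← Subgroup.orderOf_coe] at hx
  refine hno x x.2 (fun h => ?_) (hx ▸ (Nat.coprime_primes hq hp.out).2 hne)
  rw [h, orderOf_one] at hx
  exact hq.ne_one hx.symm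

theorem pow_eq_one_of_quad {V : Type*} [CommGroup V] [Module (ZMod p) (Additive V)]
    {α : MulAut V} (h : ∀ v, α (α v * v⁻¹) = α v * v⁻¹) : α ^ p = 1 := by
  apply toLin_injective (p := p) (V := V)
  rw [map_pow, map_one, one_add_pow_of_sq_zero (toLin_sq h), CharP.cast_eq_zero, zero_smul,
    add_zero]

/-- A quadratic element outside `O_p` of a faithful group on an elementary abelian `p`-group
yields the natural module of `SL₂(p)` as a section. -/
theorem exists_natural_section (hp2 : p ≠ 2) {V : Type*} [CommGroup V] [Finite V]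
    (hexp : ∀ v : V, v ^ p = 1) {H : Type*} [Group H] [Finite H] (ρ : H →* MulAut V)
    (hinj : Function.Injective ρ) {a : H} (hq : ∀ v, ρ a (ρ a v * v⁻¹) = ρ a v * v⁻¹)
    (hna : a ∉ Cfsg.pCore p H) :
    ∃ (K : Subgroup H) (ψ : K →* SL2p) (W₁ : Subgroup V) (θ : W₁ →* Plane)
      (hW : ∀ k : K, ∀ v ∈ W₁, ρ k v ∈ W₁), Function.Surjective ψ ∧ Function.Surjective θ ∧
      ∀ (k : K) (w : W₁), Multiplicative.toAdd (θ ⟨ρ k w, hW k w w.2⟩) =
        (ψ k : Matrix (Fin 2) (Fin 2) (ZMod p)).mulVec (Multiplicative.toAdd (θ w)) := by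
  haveI : Module (ZMod p) (Additive V) := AddCommGroup.zmodModule fun v => hexp (Additive.toMul v)
  haveI : Module.Finite (ZMod p) (Additive V) := Module.Finite.of_finite
  have hap : a ^ p = 1 := hinj (by rw [map_pow, pow_eq_one_of_quad hq, map_one])
  have hX : IsPGroup p (Subgroup.zpowers a) := fun x => ⟨1, Subtype.ext (by
    obtain ⟨i, hi⟩ := Subgroup.mem_zpowers_iff.1 x.2
    rw [pow_one, SubmonoidClass.coe_pow, ← hi, ← zpow_natCast, zpow_comm, zpow_natCast, hap,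
      one_zpow, Subgroup.coe_one])⟩
  obtain ⟨g, hg⟩ : ∃ g : H, ¬ IsPGroup p
      ↥(Subgroup.zpowers a ⊔ (Subgroup.zpowers a).map (MulAut.conj g).toMonoidHom) := by
    by_contra hno
    push Not at hno
    obtain ⟨N, hN, hNp, hle⟩ := BaerSuzuki.baerSuzuki _ hX hno
    exact hna (PBasic.le_pCore hN hNp (hle (Subgroup.mem_zpowers a)))
  set b := g * a * g⁻¹ with hb
  set K₀ := Subgroup.zpowers a ⊔ (Subgroup.zpowers a).map (MulAut.conj g).toMonoidHom with hK₀
  have hK₀eq : K₀ = Subgroup.closure {a, b} := by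
    rw [hK₀, MonoidHom.map_zpowers, Subgroup.zpowers_eq_closure, Subgroup.zpowers_eq_closure,
      ← Subgroup.closure_union]
    rfl
  have haK : a ∈ K₀ := by rw [hK₀eq]; exact Subgroup.subset_closure (Set.mem_insert _ _)
  have hbK : b ∈ K₀ := by rw [hK₀eq]; exact Subgroup.subset_closure (Set.mem_insert_of_mem _ rfl)
  have hgen : Subgroup.closure {(⟨a, haK⟩ : K₀), ⟨b, hbK⟩} = ⊤ := by
    refine Subgroup.map_injective K₀.subtype_injective ?_
    rw [MonoidHom.map_closure, Set.image_insert_eq, Set.image_singleton, ← MonoidHom.range_eq_map,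
      Subgroup.range_subtype]
    exact hK₀eq.symm
  have hqb : ∀ v, ρ b (ρ b v * v⁻¹) = ρ b v * v⁻¹ := by
    intro v
    have e : ∀ w, ρ b w = ρ g (ρ a ((ρ g).symm w)) := fun w => by
      rw [hb, map_mul, map_mul, map_inv]; rfl
    have h1 := congrArg (ρ g) (hq ((ρ g).symm v))
    simp only [map_mul, map_inv, MulEquiv.apply_symm_apply] at h1
    simp only [e, map_mul, map_inv, MulEquiv.symm_apply_apply]
    exact h1
  obtain ⟨k₀, hk₀K, hk₀1, hk₀o⟩ := exists_coprime_nontrivial hg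
  set ρK := (ρ.comp K₀.subtype) with hρK0
  let ρL := MonoidHom.comp (toLin (p := p) V) ρK
  obtain ⟨E, hEf, hEa, hEfin, μ, φ, W, π, hW, hμ0, hφa, hφb, -, hπ, heq, -⟩ :=
    exists_pair_section (p := p) ρL hgen (toLin_sq (p := p) hq) (toLin_sq (p := p) hqb) (k₀ := ⟨k₀, hk₀K⟩)
      (fun h => hk₀1 (hinj ((toLin_injective (p := p) (V := V)
        (show toLin (p := p) V (ρ k₀) = toLin (p := p) V 1 by rw [map_one]; exact h)).trans (map_one ρ).symm)))
      (by rw [← Subgroup.orderOf_coe]; exact hk₀o)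
  haveI : CharP E p := charP_of_injective_algebraMap (algebraMap (ZMod p) E).injective p
  haveI : Finite E := Module.finite_of_finite (ZMod p)
  have htwo : HasTwo p φ.range := by
    refine ⟨upp μ, ⟨_, hφa⟩, low 1, ⟨_, hφb⟩, upp_pow_char μ, ?_, fun h => ?_⟩
    · have hb1 : (⟨b, hbK⟩ : K₀) ^ p = 1 := Subtype.ext (hinj (by
        rw [SubmonoidClass.coe_pow, map_pow, pow_eq_one_of_quad hqb, Subgroup.coe_one, map_one]))
      rw [← hφb, ← map_pow, hb1, map_one]
    · have h00 := congrArg (fun m : Matrix.SpecialLinearGroup (Fin 2) E =>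
        (m : Matrix (Fin 2) (Fin 2) E) 0 0) h
      simp [upp_val, low_val, Matrix.mul_apply, Fin.sum_univ_two] at h00
      exact hμ0 h00
  obtain ⟨x, hx⟩ := dickson hp2 htwo
  set f := (conjGL x).comp (Matrix.SpecialLinearGroup.map (n := Fin 2) (ZMod.castHom dvd_rfl E))
    with hf
  have hfinj : Function.Injective f := fun u v huv => by
    have h1 := conjGL_injective x huv
    ext i j
    have h2 := congrArg (fun m : Matrix.SpecialLinearGroup (Fin 2) E =>
      (m : Matrix (Fin 2) (Fin 2) E) i j) h1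
    exact (ZMod.castHom dvd_rfl E).injective (by simpa using h2)
  set eK := MonoidHom.ofInjective hfinj with heK
  let K₁ : Subgroup H := (f.range.comap φ).map K₀.subtype
  have hK₁ : ∀ k : K₁, ∃ hk : (k : H) ∈ K₀, φ ⟨k, hk⟩ ∈ f.range := by
    rintro ⟨_, y, hy, rfl⟩
    exact ⟨y.2, hy⟩
  choose hk0 hkr using hK₁
  let φ₁ : K₁ →* f.range := MonoidHom.mk' (fun k => ⟨φ ⟨k, hk0 k⟩, hkr k⟩) fun u v =>
    Subtype.ext (by
      show φ ⟨_, hk0 (u * v)⟩ = φ ⟨u, hk0 u⟩ * φ ⟨v, hk0 v⟩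
      rw [← map_mul]; rfl)
  let ψ : K₁ →* SL2p := eK.symm.toMonoidHom.comp φ₁
  have hψf : ∀ k, f (ψ k) = φ ⟨k, hk0 k⟩ := fun k =>
    congrArg Subtype.val (eK.apply_symm_apply (φ₁ k))
  have hψs : Function.Surjective ψ := fun M => by
    obtain ⟨y, hy⟩ := hx M
    have hyr : y ∈ f.range.comap φ := ⟨M, hy.symm⟩
    refine ⟨⟨y, Subgroup.mem_map_of_mem _ hyr⟩, hfinj ?_⟩
    rw [hψf]
    exact hy
  -- the rational plane
  set cast' : ZMod p →+* E := ZMod.castHom dvd_rfl E with hcast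
  let j : (Fin 2 → ZMod p) →+ (Fin 2 → E) :=
    { toFun := fun y => ((x⁻¹ : GL (Fin 2) E) : Matrix (Fin 2) (Fin 2) E).mulVec (cast' ∘ y)
      map_zero' := by
        rw [show (cast' ∘ (0 : Fin 2 → ZMod p)) = 0 from funext fun i => map_zero cast',
          Matrix.mulVec_zero]
      map_add' := fun y y' => by
        rw [← Matrix.mulVec_add]; congr 1; funext i; simp }
  have hjinj : Function.Injective j := fun y y' h => by
    have h1 := congrArg ((x : GL (Fin 2) E) : Matrix (Fin 2) (Fin 2) E).mulVec h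
    simp only [j, AddMonoidHom.coe_mk, ZeroHom.coe_mk, Matrix.mulVec_mulVec, ← Units.val_mul,
      mul_inv_cancel, Units.val_one, Matrix.one_mulVec] at h1
    funext i
    exact cast'.injective (congrFun h1 i)
  have hjeq : ∀ (M : SL2p) y, (f M : Matrix (Fin 2) (Fin 2) E).mulVec (j y) =
      j ((M : Matrix (Fin 2) (Fin 2) (ZMod p)).mulVec y) := fun M y => by
    simp only [j, AddMonoidHom.coe_mk, ZeroHom.coe_mk, hf, MonoidHom.comp_apply, conjGL_val]
    rw [Matrix.mulVec_mulVec, mul_assoc, mul_assoc, ← Units.val_mul, mul_inv_cancel, Units.val_one,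
      mul_one, ← Matrix.mulVec_mulVec]
    congr 1
    funext i
    exact (RingHom.map_mulVec cast' _ _ i).symm
  let W₁ : Subgroup V :=
    { carrier := {v | ∃ hv : Additive.ofMul v ∈ W, π ⟨_, hv⟩ ∈ j.range}
      one_mem' := ⟨W.zero_mem, by
        rw [show (⟨Additive.ofMul 1, W.zero_mem⟩ : W) = 0 from rfl, map_zero]; exact zero_mem _⟩
      mul_mem' := by
        rintro u v ⟨hu, hu'⟩ ⟨hv, hv'⟩
        refine ⟨W.add_mem hu hv, ?_⟩
        rw [show (⟨Additive.ofMul (u * v), W.add_mem hu hv⟩ : W) = ⟨_, hu⟩ + ⟨_, hv⟩ from rfl,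
          map_add]
        exact add_mem hu' hv'
      inv_mem' := by
        rintro u ⟨hu, hu'⟩
        refine ⟨W.neg_mem hu, ?_⟩
        rw [show (⟨Additive.ofMul u⁻¹, W.neg_mem hu⟩ : W) = -⟨_, hu⟩ from rfl, map_neg]
        exact neg_mem hu' }
  have hπeq : ∀ (k : K₁) (v : V) (hv : Additive.ofMul v ∈ W),
      ∃ hv' : Additive.ofMul (ρ k v) ∈ W,
        π ⟨_, hv'⟩ = (f (ψ k) : Matrix (Fin 2) (Fin 2) E).mulVec (π ⟨_, hv⟩) := fun k v hv => by
    refine ⟨hW ⟨k, hk0 k⟩ _ hv, ?_⟩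
    rw [hψf]
    exact heq ⟨k, hk0 k⟩ ⟨_, hv⟩
  have hW₁ : ∀ k : K₁, ∀ v ∈ W₁, ρ k v ∈ W₁ := by
    rintro k v ⟨hv, y, hy⟩
    obtain ⟨hv', e⟩ := hπeq k v hv
    exact ⟨hv', _, ((hjeq (ψ k) y).symm.trans (by rw [hy])).trans e.symm⟩
  have hθ : ∀ w : W₁, ∃ hv : Additive.ofMul (w : V) ∈ W, ∃ y, j y = π ⟨_, hv⟩ := fun w => w.2
  choose hwW θ₀ hθ₀ using hθ
  let θ : W₁ →* Plane := MonoidHom.mk' (fun w => Multiplicative.ofAdd (θ₀ w)) fun u v =>
    congrArg Multiplicative.ofAdd (hjinj (show j (θ₀ (u * v)) = j (θ₀ u + θ₀ v) by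
      rw [map_add, hθ₀, hθ₀, hθ₀, ← map_add]; rfl))
  refine ⟨K₁, ψ, W₁, θ, hW₁, hψs, fun y => ?_, fun k w => hjinj ?_⟩
  · obtain ⟨⟨w, hw⟩, hwy⟩ := hπ (j (Multiplicative.toAdd y))
    refine ⟨⟨Additive.toMul w, hw, _, hwy.symm⟩, ?_⟩
    refine Multiplicative.toAdd.injective (hjinj ?_)
    show j (θ₀ _) = _
    rw [hθ₀]
    exact hwy
  · show j (θ₀ _) = j (Matrix.mulVec _ (θ₀ w))
    obtain ⟨hv', e⟩ := hπeq k w (hwW w)
    rw [hθ₀, ← hjeq, hθ₀, ← e]

/-- A natural `SL₂(p)`-module section: a subgroup acting as `SL₂(p)` on a section of a `p`-subgroup. -/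
def HasNatural (p : ℕ) (G : Type*) [Group G] : Prop :=
  ∃ (K W : Subgroup G) (ψ : K →* Matrix.SpecialLinearGroup (Fin 2) (ZMod p))
    (θ : W →* Multiplicative (Fin 2 → ZMod p))
    (hKW : ∀ k ∈ K, ∀ w ∈ W, k * w * k⁻¹ ∈ W),
    IsPGroup p W ∧ Function.Surjective ψ ∧ Function.Surjective θ ∧
      ∀ (k : K) (w : W), Multiplicative.toAdd (θ ⟨k * w * (k : G)⁻¹, hKW k k.2 w w.2⟩) =
        (ψ k : Matrix (Fin 2) (Fin 2) (ZMod p)).mulVec (Multiplicative.toAdd (θ w))

variable {G : Type*} [Group G]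

/-- Below a `p`-subgroup there is a largest normal subgroup with elementary abelian factor. -/
theorem exists_elementary_factor [Finite G] {Y : Subgroup G} [Y.Normal] (hY : IsPGroup p Y)
    (hY1 : Y ≠ ⊥) :
    ∃ N : Subgroup G, N.Normal ∧ N < Y ∧ (∀ u ∈ Y, ∀ v ∈ Y, ⁅u, v⁆ ∈ N) ∧ ∀ u ∈ Y, u ^ p ∈ N := by
  obtain ⟨N, ⟨hNn, hNY⟩, hNmax⟩ := Set.exists_max_image
    {N : Subgroup G | N.Normal ∧ N < Y} (fun N => Nat.card N) (Set.toFinite _)
    ⟨⊥, inferInstance, bot_lt_iff_ne_bot.2 hY1⟩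
  haveI := hNn
  have hmax : ∀ M : Subgroup G, M.Normal → N ≤ M → M ≤ Y → M ≠ Y → M = N := fun M hM hNM hMY hne => by
    refine (Subgroup.eq_of_le_of_card_ge hNM ?_).symm
    exact hNmax M ⟨hM, lt_of_le_of_ne hMY hne⟩
  have hcomm : ⁅Y, Y⁆ ≤ N := by
    have hle : ⁅Y, Y⁆ ⊔ N ≤ Y := sup_le (Subgroup.commutator_le_left Y Y) hNY.le
    by_cases he : ⁅Y, Y⁆ ⊔ N = Y
    · exfalso
      refine hNY.not_ge (Fusion.le_of_le_commutator_sup hY.isNilpotent le_rfl hNY.le
        (by rw [Subgroup.normalizer_eq_top]; exact le_top) he.ge)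
    · exact le_sup_left.trans (hmax _ (Subgroup.sup_normal _ _) le_sup_right hle he).le
  refine ⟨N, hNn, hNY, fun u hu v hv => hcomm (Subgroup.commutator_mem_commutator hu hv), ?_⟩
  set f := QuotientGroup.mk' N with hf
  have hker : ∀ g, f g = 1 ↔ g ∈ N := fun g => QuotientGroup.eq_one_iff g
  let M : Subgroup G :=
    { carrier := {g | ∃ u ∈ Y, f g = f u ^ p}
      one_mem' := ⟨1, Y.one_mem, by simp⟩
      mul_mem' := by
        rintro g h ⟨u, hu, hgu⟩ ⟨v, hv, hhv⟩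
        refine ⟨u * v, Y.mul_mem hu hv, ?_⟩
        have hc : Commute (f u) (f v) := by
          rw [← commutatorElement_eq_one_iff_commute, ← map_commutatorElement, hker]
          exact hcomm (Subgroup.commutator_mem_commutator hu hv)
        rw [map_mul, map_mul, hgu, hhv, hc.mul_pow]
      inv_mem' := by
        rintro g ⟨u, hu, hgu⟩
        exact ⟨u⁻¹, Y.inv_mem hu, by rw [map_inv, map_inv, hgu, inv_pow]⟩ }
  have hMn : M.Normal := ⟨fun g hg h => by
    obtain ⟨u, hu, hgu⟩ := hg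
    exact ⟨h * u * h⁻¹, ‹Y.Normal›.conj_mem u hu h, by
      rw [map_mul, map_mul, map_mul, map_mul, map_inv, hgu, conj_pow]⟩⟩
  have hNM : N ≤ M := fun g hg => ⟨1, Y.one_mem, by rw [(hker g).2 hg, map_one, one_pow]⟩
  have hMY : M ≤ Y := by
    rintro g ⟨u, hu, hgu⟩
    rw [← map_pow] at hgu
    have h1 : g⁻¹ * u ^ p ∈ N := QuotientGroup.eq.1 hgu
    have h2 := Y.mul_mem (Y.pow_mem hu p) (Y.inv_mem (hNY.le h1))
    rwa [show u ^ p * (g⁻¹ * u ^ p)⁻¹ = g by group] at h2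
  by_cases hMe : M = Y
  · exfalso
    set B := Y.map f with hB
    have hBp : IsPGroup p B := hY.map f
    have hsurj : Function.Surjective (fun b : B => b ^ p) := by
      rintro ⟨_, y, hy, rfl⟩
      obtain ⟨u, hu, hyu⟩ : y ∈ M := hMe.symm ▸ hy
      exact ⟨⟨f u, Subgroup.mem_map_of_mem f hu⟩, Subtype.ext hyu.symm⟩
    have hBne : Nat.card B ≠ 1 := fun h => hNY.not_ge fun y hy => by
      rw [← hker]
      exact Subgroup.mem_bot.1 (Subgroup.card_eq_one.1 h ▸ Subgroup.mem_map_of_mem f hy)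
    obtain ⟨k, hk⟩ := IsPGroup.iff_card.1 hBp
    rcases Nat.eq_zero_or_pos k with hk0 | hk0
    · exact hBne (by rw [hk, hk0, pow_zero])
    obtain ⟨b, hb⟩ := exists_prime_orderOf_dvd_card' (G := B) p (hk ▸ dvd_pow_self p hk0.ne')
    have hb1 : b = 1 := (Finite.injective_iff_surjective.2 hsurj)
      (show b ^ p = 1 ^ p by rw [one_pow, ← hb, pow_orderOf_eq_one])
    rw [hb1, orderOf_one] at hb
    exact hp.out.ne_one hb.symm
  · intro u hu
    have h := hmax M hMn hNM hMY hMe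
    rw [← h]
    exact ⟨u, hu, map_pow f u p⟩

/-- Failure of the stability used in the `ZJ`-theorem gives a natural `SL₂(p)`-module. -/
theorem hasNatural_of_not_isQuad [Finite G] (hp2 : p ≠ 2) (hns : ¬ ZJ.IsQuad p G) :
    HasNatural p G := by
  simp only [ZJ.IsQuad, not_forall] at hns
  obtain ⟨B, hBn, a, hB, -, hq, hna⟩ := hns
  have hnaB : a ∉ ZJ.stab p B := hna
  obtain ⟨Y, ⟨hYn, hYB, hYa⟩, hYmin⟩ := Set.exists_min_image
    {Y : Subgroup G | ∃ _ : Y.Normal, Y ≤ B ∧ a ∉ ZJ.stab p Y} (fun Y => Nat.card Y)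
    (Set.toFinite _) ⟨B, hBn, le_rfl, hnaB⟩
  haveI := hYn
  have hY1 : Y ≠ ⊥ := by
    intro h
    refine hYa ?_
    rw [ZJ.stab, Subgroup.mem_comap]
    have h1 : QuotientGroup.mk' (Subgroup.centralizer (Y : Set G)) a = 1 := by
      refine (QuotientGroup.eq_one_iff _).2 fun y hy => ?_
      rw [h, SetLike.mem_coe, Subgroup.mem_bot] at hy
      rw [hy, one_mul, mul_one]
    rw [h1]; exact one_mem _
  have hYp : IsPGroup p Y := hB.to_le hYB
  obtain ⟨N, hNn, hNY, hYc, hYe⟩ := exists_elementary_factor hYp hY1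
  haveI := hNn
  have haN : a ∈ ZJ.stab p N := by
    by_contra h
    have := hYmin N ⟨hNn, hNY.le.trans hYB, h⟩
    exact absurd this (not_le.2 (Set.ncard_lt_ncard (SetLike.coe_ssubset_coe.2 hNY) (Set.toFinite _)))
  set f := QuotientGroup.mk' N with hf
  have hker : ∀ g, f g = 1 ↔ g ∈ N := fun g => QuotientGroup.eq_one_iff g
  set V := Y.map f with hV
  haveI : V.Normal := hYn.map f (QuotientGroup.mk'_surjective N)
  have hVc : ∀ u v : V, u * v = v * u := by
    rintro ⟨_, u, hu, rfl⟩ ⟨_, v, hv, rfl⟩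
    apply Subtype.ext
    change f u * f v = f v * f u
    rw [← commutatorElement_eq_one_iff_mul_comm, ← map_commutatorElement, hker]
    exact hYc u hu v hv
  letI : CommGroup V := { (inferInstance : Group V) with mul_comm := hVc }
  have hexp : ∀ v : V, v ^ p = 1 := by
    rintro ⟨_, u, hu, rfl⟩
    exact Subtype.ext (by rw [SubmonoidClass.coe_pow, ← map_pow, Subgroup.coe_one, hker]; exact hYe u hu)
  set ρ₀ : G →* MulAut V := (MulAut.conjNormal (H := V)).comp f with hρ₀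
  have hρv : ∀ (g : G) (v : V), (ρ₀ g v : G ⧸ N) = f g * v * (f g)⁻¹ := fun g v => by
    rw [hρ₀, MonoidHom.comp_apply, MulAut.conjNormal_apply]
  set q := ρ₀.rangeRestrict with hqdef
  have hquad : ∀ v, ρ₀.range.subtype (q a) (ρ₀.range.subtype (q a) v * v⁻¹) =
      ρ₀.range.subtype (q a) v * v⁻¹ := by
    intro v
    show ρ₀ a (ρ₀ a v * v⁻¹) = ρ₀ a v * v⁻¹
    obtain ⟨_, y, hy, rfl⟩ := v
    apply Subtype.ext
    simp only [hρv, Subgroup.coe_mul, Subgroup.coe_inv, ← map_inv, ← map_mul]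
    have h1 : ⁅a * y * a⁻¹ * y⁻¹, a⁆ = 1 := by
      rw [← Subgroup.mem_bot, ← hq]
      refine Subgroup.commutator_mem_commutator ?_ (Subgroup.mem_zpowers a)
      rw [show a * y * a⁻¹ * y⁻¹ = ⁅y, a⁆⁻¹ by rw [commutatorElement_def]; group]
      exact Subgroup.inv_mem _ (Subgroup.commutator_mem_commutator (hYB hy) (Subgroup.mem_zpowers a))
    rw [commutatorElement_eq_one_iff_mul_comm] at h1
    congr 1
    rw [← h1, mul_inv_cancel_right]
  have hqa : q a ∉ Cfsg.pCore p ρ₀.range := by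
    intro hmem
    refine hYa ?_
    set X := ZJ.stab p N ⊓ (Cfsg.pCore p ρ₀.range).comap q with hX
    haveI : X.Normal := by
      haveI := (Cfsg.pCore_normal p ρ₀.range).comap q
      exact Subgroup.normal_inf_normal _ _
    refine (show X ≤ ZJ.stab p Y from ?_) ⟨haN, hmem⟩
    set r := QuotientGroup.mk' (Subgroup.centralizer (Y : Set G)) with hr
    rw [ZJ.stab, ← Subgroup.map_le_iff_le_comap]
    refine PBasic.le_pCore (Subgroup.Normal.map inferInstance _ (QuotientGroup.mk'_surjective _))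
      (PBasic.isPGroup_iff_forall_coprime.2 fun y ho => ?_)
    obtain ⟨x, hx, hxy⟩ := y.2
    obtain ⟨u, v, huv, -, hv, ⟨k, hk⟩, hvo⟩ := PBasic.exists_pPart_mul (p := p) x
    have hvX : v ∈ X := Subgroup.zpowers_le.2 hx hv
    have hqv : q v = 1 := PBasic.eq_one_of_isPGroup_of_coprime (PBasic.pCore_isPGroup p _) hvX.2
      (Nat.Coprime.coprime_dvd_left (orderOf_map_dvd q v) hvo)
    have hvY : v ∈ ZJ.stab p Y := by
      refine ZJNPC.mem_stab_of_factor hYp hNY.le hvX.1 fun w hw => ?_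
      have h1 : ρ₀ v = 1 := congrArg Subtype.val hqv
      have h2 : (ρ₀ v ⟨f w, Subgroup.mem_map_of_mem f hw⟩ : G ⧸ N) = f w := by
        rw [h1]; rfl
      rw [hρv] at h2
      rw [← hker, map_commutatorElement, commutatorElement_eq_one_iff_mul_comm]
      exact mul_inv_eq_iff_eq_mul.1 h2
    have hrv : r v = 1 := PBasic.eq_one_of_isPGroup_of_coprime (PBasic.pCore_isPGroup p _) hvY
      (Nat.Coprime.coprime_dvd_left (orderOf_map_dvd r v) hvo)
    have hyu : (y : G ⧸ Subgroup.centralizer (Y : Set G)) = r u := by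
      rw [← hxy, ← huv, map_mul, hrv, mul_one]
    apply Subtype.ext
    rw [Subgroup.coe_one, hyu, ← orderOf_eq_one_iff]
    refine Nat.eq_one_of_dvd_coprimes (a := p ^ k) (b := orderOf (y : G ⧸ Subgroup.centralizer (Y : Set G)))
      ?_ (hk ▸ orderOf_map_dvd r u) (hyu ▸ dvd_rfl)
    rw [Subgroup.orderOf_coe]
    exact Nat.Coprime.pow_left k ho.symm
  obtain ⟨K, ψ, W₁, θ, hW, hψ, hθ, heq⟩ :=
    exists_natural_section hp2 hexp ρ₀.range.subtype ρ₀.range.subtype_injective hquad hqa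
  set W : Subgroup G := Y ⊓ (W₁.map V.subtype).comap f with hWdef
  have hfW : ∀ w : W, ∃ v : W₁, ((v : V) : G ⧸ N) = f w := by
    rintro ⟨w, -, v, hv, e⟩
    exact ⟨⟨v, hv⟩, e⟩
  choose wv hwv using hfW
  have hinjv : ∀ u v : W₁, ((u : V) : G ⧸ N) = ((v : V) : G ⧸ N) → u = v := fun u v h =>
    Subtype.ext (Subtype.ext h)
  let θG : W →* Plane := θ.comp (MonoidHom.mk' wv fun u v => hinjv _ _ (by
    rw [hwv, Subgroup.coe_mul, map_mul, Subgroup.coe_mul, Subgroup.coe_mul, hwv, hwv]))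
  let KG : Subgroup G := K.comap q
  let ψG : KG →* SL2p := ψ.comp (q.subgroupComap K)
  have hKW : ∀ k ∈ KG, ∀ w ∈ W, k * w * k⁻¹ ∈ W := by
    rintro k hk w ⟨hwY, v, hv, e⟩
    refine ⟨hYn.conj_mem w hwY k, ρ₀ k v, hW ⟨q k, hk⟩ v hv, ?_⟩
    show (ρ₀ k v : G ⧸ N) = _
    rw [hρv, map_mul, map_mul, map_inv, ← e]
    rfl
  refine ⟨KG, W, ψG, θG, hKW, hYp.to_le inf_le_left, fun M => ?_, fun y => ?_, fun k w => ?_⟩
  · obtain ⟨k, hk⟩ := hψ M
    obtain ⟨g, hg⟩ := ρ₀.rangeRestrict_surjective (k : ρ₀.range)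
    refine ⟨⟨g, show q g ∈ K by rw [hqdef, hg]; exact k.2⟩, ?_⟩
    rw [← hk]
    exact congrArg ψ (Subtype.ext hg)
  · obtain ⟨v, hv⟩ := hθ y
    obtain ⟨u, hu, e⟩ := (v : V).2
    refine ⟨⟨u, hu, v, v.2, e.symm⟩, ?_⟩
    rw [← hv]
    exact congrArg θ (hinjv _ _ ((hwv _).trans e))
  · show Multiplicative.toAdd (θ (wv _)) =
      (ψ (q.subgroupComap K k) : Matrix (Fin 2) (Fin 2) (ZMod p)).mulVec
        (Multiplicative.toAdd (θ (wv w)))
    rw [← heq (q.subgroupComap K k) (wv w)]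
    congr 2
    refine hinjv _ _ ?_
    rw [hwv]
    show f ((k : G) * w * (k : G)⁻¹) = (ρ₀ (k : G) (wv w : V) : G ⧸ N)
    rw [hρv, hwv, map_mul, map_mul, map_inv]

end Cfsg.Agent.PStable
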