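import Cfsg.Prelude.Def_LocalEven
import Cfsg.Agent.Lib.PStable.NotStable
import Cfsg.Agent.Lib.Classical.SL

/-!
`SL₂(p)` and `Qd(p)` as sections of groups that are not `p`-stable.
-/

set_option autoImplicit false
set_option linter.style.haveILetI false

open scoped commutatorElement

namespace Cfsg.Agent.PStable

open Cfsg.Agent

variable {G : Type*} [Group G] {p : ℕ}

/-- A surjection from a subgroup gives a section. -/
theorem exists_section_of_surjective {X : Type*} [Group X] {K : Subgroup G} (ψ : K →* X)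
    (hψ : Function.Surjective ψ) :
    ∃ (R : Subgroup G) (_ : (R.subgroupOf K).Normal), Nonempty (K ⧸ R.subgroupOf K ≃* X) := by
  have e : (ψ.ker.map K.subtype).subgroupOf K = ψ.ker :=
    Subgroup.comap_map_eq_self_of_injective K.subtype_injective _
  haveI hn : ((ψ.ker.map K.subtype).subgroupOf K).Normal := by rw [e]; infer_instance
  exact ⟨ψ.ker.map K.subtype, hn, ⟨(QuotientGroup.quotientMulEquivOfEq e).trans
    (QuotientGroup.quotientKerEquivOfSurjective ψ hψ)⟩⟩

theorem involves_of_surjective {X : Type} [Group X] {K : Subgroup G} (ψ : K →* X)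
    (hψ : Function.Surjective ψ) : Cfsg.Involves X G :=
  ⟨K, exists_section_of_surjective ψ hψ⟩

theorem exists_surjective_of_involves {X : Type} [Group X] (h : Cfsg.Involves X G) :
    ∃ (K : Subgroup G) (ψ : K →* X), Function.Surjective ψ := by
  obtain ⟨K, R, hR, ⟨e⟩⟩ := h
  exact ⟨K, e.toMonoidHom.comp (QuotientGroup.mk' _),
    e.surjective.comp (QuotientGroup.mk'_surjective _)⟩

/-- A section of a homomorphic image is a section. -/
theorem involves_of_hom {X : Type} [Group X] {H : Type*} [Group H] {L : Subgroup G} (f : L →* H)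
    (hf : Function.Surjective f) (h : Cfsg.Involves X H) :
    ∃ (K : Subgroup G) (_ : K ≤ L) (ψ : K →* X), Function.Surjective ψ := by
  obtain ⟨K, ψ, hψ⟩ := exists_surjective_of_involves h
  set K' := (K.comap f).map L.subtype with hK'
  have hle : K' ≤ L := Subgroup.map_subtype_le _
  have hmem : ∀ x : K', f ⟨x, hle x.2⟩ ∈ K := by
    rintro ⟨_, y, hy, rfl⟩
    exact hy
  let g : K' →* K := MonoidHom.mk' (fun x => ⟨f ⟨x, hle x.2⟩, hmem x⟩) fun x y => Subtype.ext (by
    show f ⟨_, hle (x * y).2⟩ = f ⟨x, hle x.2⟩ * f ⟨y, hle y.2⟩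
    rw [← map_mul]; rfl)
  refine ⟨K', hle, ψ.comp g, hψ.comp fun k => ?_⟩
  obtain ⟨l, hl⟩ := hf k
  exact ⟨⟨l, l, (show f l ∈ K by rw [hl]; exact k.2), rfl⟩, Subtype.ext hl⟩

theorem involves_of_hom' {X : Type} [Group X] {H : Type*} [Group H] {L : Subgroup G} (f : L →* H)
    (hf : Function.Surjective f) (h : Cfsg.Involves X H) : Cfsg.Involves X G :=
  let ⟨_, _, ψ, hψ⟩ := involves_of_hom f hf h
  involves_of_surjective ψ hψ

theorem involves_of_subgroup {X : Type} [Group X] {L : Subgroup G} (h : Cfsg.Involves X L) :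
    Cfsg.Involves X G :=
  involves_of_hom' (MonoidHom.id L) Function.surjective_id h

theorem involves_of_quotient {X : Type} [Group X] {H : Type*} [Group H] (f : G →* H)
    (hf : Function.Surjective f) (h : Cfsg.Involves X H) : Cfsg.Involves X G :=
  involves_of_hom' (L := ⊤) (f.comp (⊤ : Subgroup G).subtype)
    (fun y => ⟨⟨_, Subgroup.mem_top (hf y).choose⟩, (hf y).choose_spec⟩) h

variable [hp : Fact p.Prime]

local notation "SL2p" => Matrix.SpecialLinearGroup (Fin 2) (ZMod p)
local notation "SL3p" => Matrix.SpecialLinearGroup (Fin 3) (ZMod p)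

theorem eq_top_of_root (H : Subgroup SL2p) (hu : upp 1 ∈ H) (hl : low 1 ∈ H) : H = ⊤ := by
  rw [eq_top_iff, ← ClassicalSL.closure_elemTransvections, Subgroup.closure_le]
  have hcast : ∀ n : ℕ, upp ((n : ZMod p)) ∈ H ∧ low ((n : ZMod p)) ∈ H := by
    intro n
    induction n with
    | zero =>
      have e1 : (low 0 : SL2p) = 1 := Subtype.ext (by simp [low_val, Matrix.one_fin_two])
      simp [upp_zero, e1]
    | succ n ih =>
      rw [Nat.cast_succ, ← upp_mul, ← low_mul]
      exact ⟨mul_mem ih.1 hu, mul_mem ih.2 hl⟩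
  rintro _ ⟨i, j, hij, c, rfl⟩
  rw [SetLike.mem_coe]
  obtain ⟨n, rfl⟩ : ∃ n : ℕ, (n : ZMod p) = c := ⟨c.val, ZMod.natCast_zmod_val c⟩
  fin_cases i <;> fin_cases j
  · exact absurd rfl hij
  · convert (hcast n).1 using 1
    apply Subtype.ext
    ext a b
    fin_cases a <;> fin_cases b <;>
      simp [Matrix.SpecialLinearGroup.transvection_coe, upp_val, Matrix.single]
  · convert (hcast n).2 using 1
    apply Subtype.ext
    ext a b
    fin_cases a <;> fin_cases b <;>
      simp [Matrix.SpecialLinearGroup.transvection_coe, low_val, Matrix.single]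
  · exact absurd rfl hij

/-- The affine element with linear part `M` and translation part `v`. -/
def aff (M : SL2p) (v : Fin 2 → ZMod p) : SL3p :=
  ⟨!![(M : Matrix (Fin 2) (Fin 2) (ZMod p)) 0 0, (M : Matrix (Fin 2) (Fin 2) (ZMod p)) 0 1, v 0;
      (M : Matrix (Fin 2) (Fin 2) (ZMod p)) 1 0, (M : Matrix (Fin 2) (Fin 2) (ZMod p)) 1 1, v 1;
      0, 0, 1], by
    simp [Matrix.det_fin_three]
    linear_combination det_one M⟩

theorem aff_val (M : SL2p) (v : Fin 2 → ZMod p) : ((aff M v : SL3p) : Matrix (Fin 3) (Fin 3) (ZMod p)) =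
    !![(M : Matrix (Fin 2) (Fin 2) (ZMod p)) 0 0, (M : Matrix (Fin 2) (Fin 2) (ZMod p)) 0 1, v 0;
      (M : Matrix (Fin 2) (Fin 2) (ZMod p)) 1 0, (M : Matrix (Fin 2) (Fin 2) (ZMod p)) 1 1, v 1;
      0, 0, 1] := rfl

theorem aff_mul (M N : SL2p) (v w : Fin 2 → ZMod p) :
    aff M v * aff N w = aff (M * N) (v + (M : Matrix (Fin 2) (Fin 2) (ZMod p)).mulVec w) := by
  apply Subtype.ext
  rw [Matrix.SpecialLinearGroup.coe_mul, aff_val, aff_val, aff_val]
  ext i j
  fin_cases i <;> fin_cases j <;>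
    simp [Matrix.mul_apply, Fin.sum_univ_three, Matrix.mulVec, dotProduct, Fin.sum_univ_two] <;> ring

theorem aff_injective {M N : SL2p} {v w : Fin 2 → ZMod p} (h : aff M v = aff N w) :
    M = N ∧ v = w := by
  have h' := congrArg (fun x : SL3p => (x : Matrix (Fin 3) (Fin 3) (ZMod p))) h
  simp only [aff_val] at h'
  refine ⟨Subtype.ext (ext2 ?_ ?_ ?_ ?_), funext fun i => ?_⟩
  · simpa using congrFun (congrFun h' 0) 0
  · simpa using congrFun (congrFun h' 0) 1
  · simpa using congrFun (congrFun h' 1) 0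
  · simpa using congrFun (congrFun h' 1) 1
  · fin_cases i
    · simpa using congrFun (congrFun h' 0) 2
    · simpa using congrFun (congrFun h' 1) 2

theorem mem_qd_iff {A : SL3p} : A ∈ Cfsg.qd p ↔ ∃ M v, aff M v = A := by
  constructor
  · intro hA
    rw [Cfsg.qd] at hA
    induction hA using Subgroup.closure_induction with
    | mem A hA =>
      obtain ⟨h0, h1, h2⟩ := hA
      have hd := A.2
      rw [Matrix.det_fin_three, h0, h1, h2] at hd
      refine ⟨⟨!![(A : Matrix (Fin 3) (Fin 3) (ZMod p)) 0 0, (A : Matrix (Fin 3) (Fin 3) (ZMod p)) 0 1;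
        (A : Matrix (Fin 3) (Fin 3) (ZMod p)) 1 0, (A : Matrix (Fin 3) (Fin 3) (ZMod p)) 1 1], ?_⟩,
        ![(A : Matrix (Fin 3) (Fin 3) (ZMod p)) 0 2, (A : Matrix (Fin 3) (Fin 3) (ZMod p)) 1 2],
        Subtype.ext ?_⟩
      · rw [Matrix.det_fin_two]; simp; linear_combination hd
      · ext i j
        fin_cases i <;> fin_cases j <;>
          first | rfl | exact h0.symm | exact h1.symm | exact h2.symm
    | one => exact ⟨1, 0, Subtype.ext (by rw [aff_val]; ext i j; fin_cases i <;> fin_cases j <;> simp)⟩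
    | mul A B _ _ hA hB =>
      obtain ⟨M, v, rfl⟩ := hA
      obtain ⟨N, w, rfl⟩ := hB
      exact ⟨_, _, (aff_mul M N v w).symm⟩
    | inv A _ hA =>
      obtain ⟨M, v, rfl⟩ := hA
      refine ⟨M⁻¹, -((M⁻¹ : SL2p) : Matrix (Fin 2) (Fin 2) (ZMod p)).mulVec v, eq_inv_of_mul_eq_one_left ?_⟩
      rw [aff_mul, inv_mul_cancel, neg_add_cancel]
      exact Subtype.ext (by rw [aff_val]; ext i j; fin_cases i <;> fin_cases j <;> simp)
  · rintro ⟨M, v, rfl⟩
    exact Subgroup.subset_closure ⟨by simp [aff_val], by simp [aff_val], by simp [aff_val]⟩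

theorem neg_one_ne_one (hp2 : p ≠ 2) : (-1 : SL2p) ≠ 1 := by
  intro h
  have := congrArg (fun M : SL2p => (M : Matrix (Fin 2) (Fin 2) (ZMod p)) 0 0) h
  simp at this
  exact two_ne_zero' (F := ZMod p) hp2 (by linear_combination -this)

/-- A natural module makes `Qd(p)` a section. -/
theorem involves_qd_of_hasNatural [Finite G] (hp2 : p ≠ 2) (h : HasNatural p G) :
    Cfsg.Involves ↥(Cfsg.qd p) G := by
  obtain ⟨K, W, ψ, θ, hKW, hWp, hψ, hθ, heq⟩ := h
  set e : W → (Fin 2 → ZMod p) := fun w => Multiplicative.toAdd (θ w) with he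
  have he_mul : ∀ u v, e (u * v) = e u + e v := fun u v => by simp [he]
  -- the preimage of the centre and a Sylow `2`-subgroup of it
  set Z : Subgroup K := (Subgroup.zpowers (-1 : SL2p)).comap ψ with hZ
  haveI : Z.Normal := by
    refine Subgroup.Normal.comap ⟨fun x hx g => ?_⟩ ψ
    obtain ⟨i, rfl⟩ := Subgroup.mem_zpowers_iff.1 hx
    rw [← conj_zpow]
    refine Subgroup.mem_zpowers_iff.2 ⟨i, ?_⟩
    congr 1
    apply Subtype.ext
    simp
  haveI : Fact (Nat.Prime 2) := ⟨Nat.prime_two⟩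
  obtain ⟨T⟩ : Nonempty (Sylow 2 Z) := inferInstance
  set T' := (T : Subgroup Z).map Z.subtype with hT'
  set N := Subgroup.normalizer (T' : Set K) with hN
  have hNZ : N ⊔ Z = ⊤ := Sylow.normalizer_sup_eq_top T
  -- the Sylow subgroup contains a preimage of `-1`
  have hm1 : (-1 : SL2p) * -1 = 1 := by simp
  obtain ⟨t, htT, ht⟩ : ∃ t ∈ T', ψ t = -1 := by
    set g : Z →* Subgroup.zpowers (-1 : SL2p) := ψ.subgroupComap _ with hg
    have hgs : Function.Surjective g := fun y => by
      obtain ⟨k, hk⟩ := hψ y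
      exact ⟨⟨k, by rw [hZ, Subgroup.mem_comap, hk]; exact y.2⟩, Subtype.ext hk⟩
    have hU : IsPGroup 2 (Subgroup.zpowers (-1 : SL2p)) := IsPGroup.of_card (n := 1) (by
      rw [Nat.card_zpowers, pow_one]
      exact orderOf_eq_prime (by rw [pow_two, hm1]) (neg_one_ne_one hp2))
    have h1 : (T : Subgroup Z).map g = ⊤ := by
      rw [← Sylow.coe_mapSurjective hgs T]
      exact ((T.mapSurjective hgs).is_maximal' (hU.to_subgroup ⊤) le_top).symm
    obtain ⟨z, hz, hzg⟩ : (⟨-1, Subgroup.mem_zpowers _⟩ : Subgroup.zpowers (-1 : SL2p)) ∈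
        (T : Subgroup Z).map g := h1 ▸ Subgroup.mem_top _
    exact ⟨z, Subgroup.mem_map_of_mem _ hz, congrArg Subtype.val hzg⟩
  -- the normalizer still maps onto `SL₂(p)`
  have hNtop : N.map ψ = ⊤ := by
    have hodd : ∀ u : SL2p, u ^ p = 1 → u ∈ N.map ψ := by
      intro u hu
      obtain ⟨k, rfl⟩ := hψ u
      have hk : k ∈ ((N ⊔ Z : Subgroup K) : Set K) := by rw [hNZ]; trivial
      rw [Subgroup.mul_normal] at hk
      obtain ⟨n, hn, z, hz, rfl⟩ := Set.mem_mul.1 hk
      obtain ⟨i, hi⟩ := Subgroup.mem_zpowers_iff.1 hz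
      have hz2 : ψ z * ψ z = 1 := by
        rw [← hi, ← zpow_add, ← two_mul, zpow_mul, zpow_two, hm1, one_zpow]
      have hzc : Commute (ψ n) (ψ z) := by
        rw [← hi]
        refine Commute.zpow_right ?_ i
        exact Subtype.ext (by simp)
      obtain ⟨m, hm⟩ := hp.out.odd_of_ne_two hp2
      have h1 : ψ (n * z) = ψ n ^ (p + 1) := by
        have h2 : ψ (n * z) ^ (p + 1) = ψ (n * z) := by rw [pow_succ, hu, one_mul]
        rw [← h2, map_mul, hzc.mul_pow, show p + 1 = 2 * (m + 1) by omega, pow_mul (ψ z), pow_two,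
          hz2, one_pow, mul_one]
      rw [h1]
      exact pow_mem (Subgroup.mem_map_of_mem ψ hn) _
    exact eq_top_of_root _ (hodd _ (upp_pow_char 1)) (hodd _ (by
      have hl : ∀ n : ℕ, (low 1 : SL2p) ^ n = low (n : ZMod p) := by
        intro n
        induction n with
        | zero => exact Subtype.ext (by simp [low_val, Matrix.one_fin_two])
        | succ n ih => rw [pow_succ, ih, low_mul, Nat.cast_succ]
      rw [hl, CharP.cast_eq_zero]
      exact Subtype.ext (by simp [low_val, Matrix.one_fin_two])))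
  -- an element of `W` normalizing the Sylow subgroup is in the kernel
  have hker : ∀ (w : W) (k : K), k ∈ N → (k : G) = w → e w = 0 ∧ ψ k = 1 := by
    intro w k hkN hkw
    have hψk : ψ k = 1 := by
      have hfix : ∀ y, (ψ k : Matrix (Fin 2) (Fin 2) (ZMod p)).mulVec y = y := by
        intro y
        obtain ⟨x, hx⟩ := hθ (Multiplicative.ofAdd y)
        have h1 := heq k x
        rw [show θ (⟨(k : G) * x * (k : G)⁻¹, hKW k k.2 x x.2⟩ : W) = θ x by
          rw [show (⟨(k : G) * x * (k : G)⁻¹, hKW k k.2 x x.2⟩ : W) = w * x * w⁻¹ from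
            Subtype.ext (by simp [hkw]), map_mul, map_mul, map_inv, mul_comm (θ w),
            mul_inv_cancel_right], hx, toAdd_ofAdd] at h1
        exact h1.symm
      refine Subtype.ext (Matrix.ext fun i j => ?_)
      have h2 := congrFun (hfix (Pi.single j 1)) i
      simpa [Matrix.one_apply, Pi.single_apply] using h2
    refine ⟨?_, hψk⟩
    have hc : k * t * k⁻¹ ∈ T' := (Subgroup.mem_normalizer_iff.1 hkN t).1 htT
    have hd : k * t * k⁻¹ * t⁻¹ ∈ T' := T'.mul_mem hc (T'.inv_mem htT)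
    have hTp : IsPGroup 2 T' := T.isPGroup'.map _
    have hdW : ((k * t * k⁻¹ * t⁻¹ : K) : G) ∈ W := by
      simp only [Subgroup.coe_mul, Subgroup.coe_inv, hkw]
      rw [show (w : G) * t * (w : G)⁻¹ * (t : G)⁻¹ = w * (t * (w : G)⁻¹ * (t : G)⁻¹) by group]
      exact W.mul_mem w.2 (hKW t t.2 _ (W.inv_mem w.2))
    have h1 : k * t * k⁻¹ * t⁻¹ = 1 := by
      refine PBasic.eq_one_of_isPGroup_of_coprime hTp hd ?_
      obtain ⟨i, hi⟩ := IsPGroup.iff_orderOf.1 hWp ⟨_, hdW⟩
      rw [Subgroup.orderOf_mk, Subgroup.orderOf_coe] at hi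
      rw [hi]
      exact Nat.Coprime.pow_left i ((Nat.coprime_primes hp.out Nat.prime_two).2 hp2)
    have h2 : (⟨(t : G) * w * (t : G)⁻¹, hKW t t.2 w w.2⟩ : W) = w := by
      apply Subtype.ext
      have h3 : k * t = t * k := by rwa [← commutatorElement_def, commutatorElement_eq_one_iff_mul_comm] at h1
      have h4 : (w : G) * t = t * w := by
        rw [← hkw]; exact congrArg Subtype.val h3
      show (t : G) * w * (t : G)⁻¹ = w
      rw [← h4, mul_inv_cancel_right]
    have h5 := heq t w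
    rw [h2, ht] at h5
    have h6 : e w + e w = 0 := by
      show Multiplicative.toAdd (θ w) + Multiplicative.toAdd (θ w) = 0
      nth_rewrite 1 [h5]
      simp [Matrix.neg_mulVec]
    funext i
    have h7 : (2 : ZMod p) * e w i = 0 := by rw [two_mul]; exact congrFun h6 i
    exact (mul_eq_zero.1 h7).resolve_left (two_ne_zero' hp2)
  -- the homomorphism onto `Qd(p)`
  let M : Subgroup G :=
    { carrier := {g | ∃ (w : W) (k : K), k ∈ N ∧ (w : G) * k = g}
      one_mem' := ⟨1, 1, N.one_mem, by simp⟩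
      mul_mem' := by
        rintro _ _ ⟨w, k, hk, rfl⟩ ⟨w', k', hk', rfl⟩
        exact ⟨w * ⟨(k : G) * w' * (k : G)⁻¹, hKW k k.2 w' w'.2⟩, k * k', N.mul_mem hk hk', by
          simp [mul_assoc]⟩
      inv_mem' := by
        rintro _ ⟨w, k, hk, rfl⟩
        refine ⟨⟨((k⁻¹ : K) : G) * ((w⁻¹ : W) : G) * (((k⁻¹ : K) : G))⁻¹,
          hKW _ (k⁻¹).2 _ (w⁻¹).2⟩, k⁻¹, N.inv_mem hk, ?_⟩
        simp [mul_assoc] }
  have hrep : ∀ m : M, ∃ (w : W) (k : K), k ∈ N ∧ (w : G) * k = m := fun m => m.2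
  choose wc kc hkc hwk using hrep
  have huniq : ∀ (m : M) (w : W) (k : K), k ∈ N → (w : G) * k = m →
      e (wc m) = e w ∧ ψ (kc m) = ψ k := by
    intro m w k hk hm
    have hh : (wc m : G) * kc m = w * k := (hwk m).trans hm.symm
    have h1 : ((k * (kc m)⁻¹ : K) : G) = ((w⁻¹ * wc m : W) : G) := by
      rw [Subgroup.coe_mul, Subgroup.coe_mul, Subgroup.coe_inv, Subgroup.coe_inv,
        mul_inv_eq_iff_eq_mul, mul_assoc, hh, inv_mul_cancel_left]
    obtain ⟨h2, h3⟩ := hker _ _ (N.mul_mem hk (N.inv_mem (hkc m))) h1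
    constructor
    · have h4 := he_mul w (w⁻¹ * wc m)
      rwa [mul_inv_cancel_left, h2, add_zero] at h4
    · rw [map_mul, map_inv, mul_inv_eq_one] at h3
      exact h3.symm
  have hmul : ∀ m m' : M, aff (ψ (kc (m * m'))) (e (wc (m * m'))) =
      aff (ψ (kc m)) (e (wc m)) * aff (ψ (kc m')) (e (wc m')) := by
    intro m m'
    obtain ⟨h1, h2⟩ := huniq (m * m')
      (wc m * ⟨(kc m : G) * wc m' * (kc m : G)⁻¹, hKW _ (kc m).2 _ (wc m').2⟩) (kc m * kc m')
      (N.mul_mem (hkc m) (hkc m')) (by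
        show _ = (m : G) * (m' : G)
        rw [← hwk m, ← hwk m']; simp [mul_assoc])
    rw [aff_mul, h1, h2, map_mul, he_mul, show e ⟨_, hKW _ (kc m).2 _ (wc m').2⟩ = _ from heq (kc m) (wc m')]
  let Φ : M →* ↥(Cfsg.qd p) :=
    MonoidHom.mk' (fun m => ⟨aff (ψ (kc m)) (e (wc m)), mem_qd_iff.2 ⟨_, _, rfl⟩⟩) fun m m' =>
      Subtype.ext (hmul m m')
  refine involves_of_surjective Φ fun A => ?_
  obtain ⟨B, v, hA⟩ := mem_qd_iff.1 A.2
  obtain ⟨k, hk, hkB⟩ : B ∈ N.map ψ := hNtop ▸ Subgroup.mem_top B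
  obtain ⟨w, hw⟩ := hθ (Multiplicative.ofAdd v)
  refine ⟨⟨(w : G) * k, w, k, hk, rfl⟩, Subtype.ext ?_⟩
  obtain ⟨h1, h2⟩ := huniq ⟨(w : G) * k, w, k, hk, rfl⟩ w k hk rfl
  show aff _ _ = _
  rw [h1, h2, hkB, ← hA]
  simp [he, hw]

theorem involves_sl2_of_hasNatural (h : HasNatural p G) :
    Cfsg.Involves (Matrix.SpecialLinearGroup (Fin 2) (ZMod p)) G := by
  obtain ⟨K, W, ψ, θ, hKW, hWp, hψ, -⟩ := h
  exact involves_of_surjective ψ hψ

/-- Without a section `Qd(p)` the group is stable in the sense of the `ZJ`-theorem. -/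
theorem isQuad_of_not_involves [Finite G] (hp2 : p ≠ 2) (h : ¬ Cfsg.Involves ↥(Cfsg.qd p) G) :
    ZJ.IsQuad p G := by
  by_contra hns
  exact h (involves_qd_of_hasNatural hp2 (hasNatural_of_not_isQuad hp2 hns))

theorem isQuad_of_not_involves_sl2 [Finite G] (hp2 : p ≠ 2)
    (h : ¬ Cfsg.Involves (Matrix.SpecialLinearGroup (Fin 2) (ZMod p)) G) :
    ZJ.IsQuad p G := by
  by_contra hns
  exact h (involves_sl2_of_hasNatural (hasNatural_of_not_isQuad hp2 hns))

/-- Groups of odd order are stable. -/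
theorem isQuad_of_odd [Finite G] (hp2 : p ≠ 2) (hodd : Odd (Nat.card G)) : ZJ.IsQuad p G := by
  refine isQuad_of_not_involves_sl2 hp2 fun h => ?_
  obtain ⟨K, ψ, hψ⟩ := exists_surjective_of_involves h
  have h2 : orderOf (-1 : SL2p) = 2 := orderOf_eq_prime (by rw [pow_two]; simp) (neg_one_ne_one hp2)
  have h3 : 2 ∣ Nat.card G := by
    rw [← h2]
    exact (orderOf_dvd_natCard _).trans
      ((Subgroup.card_dvd_of_surjective ψ hψ).trans (Subgroup.card_subgroup_dvd_card K))
  exact Nat.not_even_iff_odd.2 hodd (even_iff_two_dvd.2 h3)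

omit hp in
/-- The part of order prime to `p` of a quadratic element acts trivially. -/
theorem mk_mem_of_quadratic [Finite G] [Fact p.Prime] (hq : ZJ.IsQuad p G) (B : Subgroup G)
    [B.Normal] (hB : IsPGroup p B) (g : G)
    (h : ⁅⁅B, Subgroup.zpowers g⁆, Subgroup.zpowers g⁆ = ⊥) :
    (QuotientGroup.mk g : G ⧸ Subgroup.centralizer (B : Set G)) ∈
      Cfsg.pCore p (G ⧸ Subgroup.centralizer (B : Set G)) := by
  obtain ⟨u, v, huv, hu, hv, ⟨k, hk⟩, hvo⟩ := PBasic.exists_pPart_mul (p := p) g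
  have hv' : Subgroup.zpowers v ≤ Subgroup.zpowers g := Subgroup.zpowers_le.2 hv
  have hu' : Subgroup.zpowers u ≤ Subgroup.zpowers g := Subgroup.zpowers_le.2 hu
  have hvC : v ∈ Subgroup.centralizer (B : Set G) := by
    intro y hy
    set c := ⁅y, v⁆ with hc
    have hcB : c ∈ B := Subgroup.commutator_le_left B ⊤
      (Subgroup.commutator_mem_commutator hy (Subgroup.mem_top v))
    have hcv : c * v = v * c := by
      have h0 : ⁅c, v⁆ ∈ ⁅⁅B, Subgroup.zpowers g⁆, Subgroup.zpowers g⁆ :=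
        Subgroup.commutator_mem_commutator (Subgroup.commutator_mem_commutator hy hv) hv
      rw [h, Subgroup.mem_bot, commutatorElement_eq_one_iff_mul_comm] at h0
      exact h0
    have hn : ∀ n : ℕ, y * v ^ n * y⁻¹ = c ^ n * v ^ n := by
      intro n
      rw [← (Commute.mul_pow (show Commute c v from hcv) n), ← conj_pow]
      congr 1
      rw [hc, commutatorElement_def]; group
    have h1 : c ^ orderOf v = 1 := by
      have := hn (orderOf v)
      rwa [pow_orderOf_eq_one, mul_one, mul_one, mul_inv_cancel, eq_comm] at this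
    have h2 : c = 1 := PBasic.eq_one_of_isPGroup_of_coprime hB hcB
      (Nat.Coprime.coprime_dvd_left (orderOf_dvd_of_pow_eq_one h1) hvo)
    rwa [hc, commutatorElement_eq_one_iff_mul_comm] at h2
  have e : (QuotientGroup.mk g : G ⧸ Subgroup.centralizer (B : Set G)) = QuotientGroup.mk u := by
    rw [← huv, QuotientGroup.mk_mul, (QuotientGroup.eq_one_iff v).2 hvC, mul_one]
  rw [e]
  refine hq B u hB (IsPGroup.of_card (n := k) (by rw [Nat.card_zpowers, hk])) (eq_bot_iff.2 ?_)
  rw [← h]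
  exact Subgroup.commutator_mono (Subgroup.commutator_mono le_rfl hu') hu'

theorem quotient_mem_of_quadratic [Finite G] (P : Subgroup G) (hP : IsPGroup p P)
    (hq : ZJ.IsQuad p ↥(Subgroup.normalizer (P : Set G))) (g : G)
    (hg : g ∈ Subgroup.normalizer (P : Set G))
    (h : ⁅⁅P, Subgroup.zpowers g⁆, Subgroup.zpowers g⁆ = ⊥) :
    (QuotientGroup.mk (s := (Subgroup.centralizer (P : Set G)).subgroupOf (Subgroup.normalizer (P : Set G)))
        (⟨g, hg⟩ : ↥(Subgroup.normalizer (P : Set G)))) ∈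
      Cfsg.pCore p (↥(Subgroup.normalizer (P : Set G)) ⧸
        (Subgroup.centralizer (P : Set G)).subgroupOf (Subgroup.normalizer (P : Set G))) := by
  set N := Subgroup.normalizer (P : Set G) with hN
  set B := P.subgroupOf N with hB
  haveI : B.Normal := Subgroup.normal_in_normalizer
  have hPN : P ≤ N := Subgroup.le_normalizer
  have hBmap : B.map N.subtype = P := Subgroup.map_subgroupOf_eq_of_le hPN
  have hBq : ⁅⁅B, Subgroup.zpowers (⟨g, hg⟩ : N)⁆, Subgroup.zpowers (⟨g, hg⟩ : N)⁆ = ⊥ := by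
    rw [← Subgroup.map_eq_bot_iff_of_injective _ (f := N.subtype) N.subtype_injective,
      Subgroup.map_commutator, Subgroup.map_commutator, hBmap, MonoidHom.map_zpowers]
    exact h
  have h1 := mk_mem_of_quadratic hq B (hP.comap_subtype) ⟨g, hg⟩ hBq
  have hC : Subgroup.centralizer (B : Set N) = (Subgroup.centralizer (P : Set G)).subgroupOf N := by
    ext x
    constructor
    · intro hx y hy
      exact congrArg Subtype.val (hx ⟨y, hPN hy⟩ hy)
    · intro hx y hy
      exact Subtype.ext (hx y hy)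
  have h2 := PBasic.map_pCore_le_of_surjective (p := p)
    (QuotientGroup.quotientMulEquivOfEq hC).toMonoidHom
    (QuotientGroup.quotientMulEquivOfEq hC).surjective (Subgroup.mem_map_of_mem _ h1)
  exact h2

/-- Stability in the normalizer form. -/
theorem isNormalizerPStable_of_isQuad [Finite G]
    (h : ∀ P : Subgroup G, IsPGroup p P → ZJ.IsQuad p ↥(Subgroup.normalizer (P : Set G))) :
    Cfsg.IsNormalizerPStable p G := fun P hP g hg hq =>
  quotient_mem_of_quadratic P hP (h P hP) g hg hq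

theorem isNormalizerPStable_of_not_involves [Finite G] (hp2 : p ≠ 2)
    (h : ¬ Cfsg.Involves ↥(Cfsg.qd p) G) : Cfsg.IsNormalizerPStable p G :=
  isNormalizerPStable_of_isQuad fun _ _ =>
    isQuad_of_not_involves hp2 fun hi => h (involves_of_subgroup hi)

theorem isQuad_of_isNormalizerPStable [Finite G] (h : Cfsg.IsNormalizerPStable p G) :
    ZJ.IsQuad p G := by
  intro B _ a hB _ hq
  have ha : a ∈ Subgroup.normalizer (B : Set G) := by rw [Subgroup.normalizer_eq_top]; trivial
  set N := Subgroup.normalizer (B : Set G) with hN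
  set f : N →* G ⧸ Subgroup.centralizer (B : Set G) := (QuotientGroup.mk' _).comp N.subtype with hf
  have hle : (Subgroup.centralizer (B : Set G)).subgroupOf N ≤ f.ker := fun x hx =>
    (QuotientGroup.eq_one_iff _).2 hx
  exact PBasic.map_pCore_le_of_surjective (p := p) (QuotientGroup.lift _ f hle)
    (fun y => by
      obtain ⟨z, rfl⟩ := QuotientGroup.mk'_surjective (Subgroup.centralizer (B : Set G)) y
      exact ⟨QuotientGroup.mk ⟨z, by rw [hN, Subgroup.normalizer_eq_top]; trivial⟩, rfl⟩)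
    (Subgroup.mem_map_of_mem _ (h B hB a ha hq))

end Cfsg.Agent.PStable
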