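import Cfsg.Agent.Lib.Functors.SectionApps
import Cfsg.Agent.Lib.PStable.Involved

/-!
`Z(J)` as a conjugacy functor, and its control of strong fusion.
-/

set_option autoImplicit false
set_option linter.style.haveILetI false
set_option linter.unusedSectionVars false

namespace Cfsg.Agent.PStable

open Cfsg Cfsg.Agent

universe u

/-- `Q ↦ Z(J(Q))`. -/
def zJFun (p : ℕ) (e : Prop) : ∀ (Q : Type u) [Group Q], Subgroup Q :=
  fun Q _ => ZJ.zJ p e (⊤ : Subgroup Q)

variable {p : ℕ} [hp : Fact p.Prime] {e : Prop}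

theorem inducedFunctor_zJFun {G : Type u} [Group G] (S : Subgroup G) :
    Cfsg.inducedFunctor (zJFun.{u} p e) S = ZJ.zJ p e S := by
  show (ZJ.zJ p e (⊤ : Subgroup S)).map S.subtype = _
  rw [ZJ.zJ_map S.subtype S.subtype_injective.injOn, ← MonoidHom.range_eq_map, Subgroup.range_subtype]

theorem zCore_le_zJ {G : Type*} [Group G] [Finite G] (S : Subgroup G) :
    ZJ.zCore p e S ≤ ZJ.zJ p e S := by
  obtain ⟨A₀, hA₀⟩ := ZJ.exists_isMaxIn p e S
  refine le_inf ((sInf_le (show A₀ ∈ {A | ZJ.IsMaxIn p e S A} from hA₀)).trans (ZJ.le_jSub hA₀)) ?_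
  rw [Subgroup.le_centralizer_iff, ZJ.jSub]
  refine sSup_le fun A hA x hx z hz => ?_
  exact hA.2.1.comm ((sInf_le (show A ∈ {A | ZJ.IsMaxIn p e S A} from hA)) hz) hx

theorem isCharPFunctor_zJFun : Cfsg.IsCharPFunctor.{u} p (zJFun.{u} p e) := by
  refine ⟨fun Q _ _ hQ hQn h => ?_, fun Q R _ _ _ _ φ => ?_⟩
  · refine ZJ.zCore_ne_bot (p := p) (e := e) (hQ.to_subgroup (⊤ : Subgroup Q)) ?_ (eq_bot_iff.2 ?_)
    · exact top_ne_bot
    · exact (zCore_le_zJ _).trans h.le
  · show (ZJ.zJ p e (⊤ : Subgroup Q)).map φ.toMonoidHom = _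
    rw [ZJ.zJ_map _ φ.injective.injOn, Subgroup.map_top_of_surjective _ φ.surjective]
    rfl

/-- If the constrained sections are stable, `Z(J)` controls strong fusion. -/
theorem ctlSF_zJ (hp2 : p ≠ 2) (G : Type u) [Group G] [Finite G]
    (hq : ∀ (Y : Type u) [Group Y] [Finite Y], Functors.IsSectionOf G Y → Functors.PConstr p Y →
      ZJ.IsQuad p Y) :
    Functors.CtlSF p {zJFun.{u} p e} G := by
  refine Functors.ctlSF_of_sections (𝓦 := {zJFun.{u} p e}) (by simpa using isCharPFunctor_zJFun) G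
    fun Y _ _ hY hC => ?_
  obtain ⟨S⟩ : Nonempty (Sylow p Y) := inferInstance
  haveI := ZJ.zJ_normal hp2 (hq Y hY hC) hC S e
  refine Functors.familySF_top_of_reach (S := S) fun A g hA hgA => ?_
  refine Functors.Reach.single hA ⟨_, ⟨_, ⟨_, rfl, rfl⟩, rfl⟩, ?_⟩ hgA
  dsimp only
  rw [inducedFunctor_zJFun, Subgroup.normalizer_eq_top]
  exact Subgroup.mem_top g

theorem exists_mem_normalizer_zJ (hp2 : p ≠ 2) {G : Type u} [Group G] [Finite G]
    (hq : ∀ (Y : Type u) [Group Y] [Finite Y], Functors.IsSectionOf G Y → Functors.PConstr p Y →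
      ZJ.IsQuad p Y) (S : Sylow p G) {A : Set G} {g : G} (hA : A ⊆ (S : Subgroup G))
    (hgA : (fun a => g * a * g⁻¹) '' A ⊆ (S : Subgroup G)) :
    ∃ n ∈ Subgroup.normalizer (ZJ.zJ p e (S : Subgroup G) : Set G),
      ∀ a ∈ A, n * a * n⁻¹ = g * a * g⁻¹ := by
  have hW := isCharPFunctor_zJFun.{u} (p := p) (e := e)
  have h := Functors.sfAt_top_of_ctl (by simpa using hW) S (ctlSF_zJ (e := e) hp2 G hq)
  rw [Functors.indSet_singleton] at h
  obtain ⟨x, hx, hxa⟩ := Functors.exists_of_sfAt_singleton h (Subgroup.mem_top g) hA hgA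
  refine ⟨x, ?_, hxa⟩
  have := (Subgroup.mem_inf.1 hx).2
  rwa [inducedFunctor_zJFun] at this

theorem not_involves_section {X : Type} [Group X] {G : Type u} [Group G]
    (h : ¬ Cfsg.Involves X G) {Y : Type u} [Group Y] (hY : Functors.IsSectionOf G Y) :
    ¬ Cfsg.Involves X Y := fun hX => by
  obtain ⟨K, f, hf⟩ := hY
  exact h (involves_of_hom' f hf hX)

end Cfsg.Agent.PStable
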