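/-
Groups in which no automizer of a `p`-subgroup involves `SL₂(p)`.
-/
import Cfsg.Agent.Lib.PStable.Involved
import Cfsg.Agent.Lib.Functors.Conj

set_option autoImplicit false
set_option linter.style.haveILetI false
set_option linter.unusedSectionVars false

open scoped commutatorElement

namespace Cfsg.Agent.AutFreeness

open Cfsg.Agent Cfsg.Agent.PStable

variable {G : Type*} [Group G] {p : ℕ} [hp : Fact p.Prime]

local notation "SL2p" => Matrix.SpecialLinearGroup (Fin 2) (ZMod p)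
local notation "Plane" => Multiplicative (Fin 2 → ZMod p)

/-- Failure of the stability used in the `ZJ`-theorem gives `SL₂(p)` inside an automizer. -/
theorem exists_automizer_of_not_isQuad [Finite G] (hp2 : p ≠ 2) (hns : ¬ ZJ.IsQuad p G) :
    ∃ Y : Subgroup G, Y.Normal ∧ IsPGroup p Y ∧ ∃ (K : Subgroup G) (ψ : K →* SL2p),
      Function.Surjective ψ ∧ ∀ k : K, (k : G) ∈ Subgroup.centralizer (Y : Set G) → ψ k = 1 := by
  simp only [ZJ.IsQuad, not_forall] at hns
  obtain ⟨B, hBn, a, hB, -, hq, hna⟩ := hns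
  have hnaB : a ∉ ZJ.stab p B := hna
  obtain ⟨Y, ⟨hYn, hYB, hYa⟩, hYmin⟩ := Set.exists_min_image
    {Y : Subgroup G | ∃ _ : Y.Normal, Y ≤ B ∧ a ∉ ZJ.stab p Y} (fun Y => Nat.card Y)
    (Set.toFinite _) ⟨B, hBn, le_rfl, hnaB⟩
  haveI := hYn
  have hY1 : Y ≠ ⊥ := by
    intro h
    refine hYa ?_
    rw [ZJ.stab, Subgroup.mem_comap]
    have h1 : QuotientGroup.mk' (Subgroup.centralizer (Y : Set G)) a = 1 := by
      refine (QuotientGroup.eq_one_iff _).2 fun y hy => ?_
      rw [h, SetLike.mem_coe, Subgroup.mem_bot] at hy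
      rw [hy, one_mul, mul_one]
    rw [h1]; exact one_mem _
  have hYp : IsPGroup p Y := hB.to_le hYB
  obtain ⟨N, hNn, hNY, hYc, hYe⟩ := exists_elementary_factor hYp hY1
  haveI := hNn
  have haN : a ∈ ZJ.stab p N := by
    by_contra h
    have := hYmin N ⟨hNn, hNY.le.trans hYB, h⟩
    exact absurd this (not_le.2 (Set.ncard_lt_ncard (SetLike.coe_ssubset_coe.2 hNY) (Set.toFinite _)))
  set f := QuotientGroup.mk' N with hf
  have hker : ∀ g, f g = 1 ↔ g ∈ N := fun g => QuotientGroup.eq_one_iff g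
  set V := Y.map f with hV
  haveI : V.Normal := hYn.map f (QuotientGroup.mk'_surjective N)
  have hVc : ∀ u v : V, u * v = v * u := by
    rintro ⟨_, u, hu, rfl⟩ ⟨_, v, hv, rfl⟩
    apply Subtype.ext
    change f u * f v = f v * f u
    rw [← commutatorElement_eq_one_iff_mul_comm, ← map_commutatorElement, hker]
    exact hYc u hu v hv
  letI : CommGroup V := { (inferInstance : Group V) with mul_comm := hVc }
  have hexp : ∀ v : V, v ^ p = 1 := by
    rintro ⟨_, u, hu, rfl⟩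
    exact Subtype.ext (by rw [SubmonoidClass.coe_pow, ← map_pow, Subgroup.coe_one, hker]; exact hYe u hu)
  set ρ₀ : G →* MulAut V := (MulAut.conjNormal (H := V)).comp f with hρ₀
  have hρv : ∀ (g : G) (v : V), (ρ₀ g v : G ⧸ N) = f g * v * (f g)⁻¹ := fun g v => by
    rw [hρ₀, MonoidHom.comp_apply, MulAut.conjNormal_apply]
  set q := ρ₀.rangeRestrict with hqdef
  have hquad : ∀ v, ρ₀.range.subtype (q a) (ρ₀.range.subtype (q a) v * v⁻¹) =
      ρ₀.range.subtype (q a) v * v⁻¹ := by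
    intro v
    show ρ₀ a (ρ₀ a v * v⁻¹) = ρ₀ a v * v⁻¹
    obtain ⟨_, y, hy, rfl⟩ := v
    apply Subtype.ext
    simp only [hρv, Subgroup.coe_mul, Subgroup.coe_inv, ← map_inv, ← map_mul]
    have h1 : ⁅a * y * a⁻¹ * y⁻¹, a⁆ = 1 := by
      rw [← Subgroup.mem_bot, ← hq]
      refine Subgroup.commutator_mem_commutator ?_ (Subgroup.mem_zpowers a)
      rw [show a * y * a⁻¹ * y⁻¹ = ⁅y, a⁆⁻¹ by rw [commutatorElement_def]; group]
      exact Subgroup.inv_mem _ (Subgroup.commutator_mem_commutator (hYB hy) (Subgroup.mem_zpowers a))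
    rw [commutatorElement_eq_one_iff_mul_comm] at h1
    congr 1
    rw [← h1, mul_inv_cancel_right]
  have hqa : q a ∉ Cfsg.pCore p ρ₀.range := by
    intro hmem
    refine hYa ?_
    set X := ZJ.stab p N ⊓ (Cfsg.pCore p ρ₀.range).comap q with hX
    haveI : X.Normal := by
      haveI := (Cfsg.pCore_normal p ρ₀.range).comap q
      exact Subgroup.normal_inf_normal _ _
    refine (show X ≤ ZJ.stab p Y from ?_) ⟨haN, hmem⟩
    set r := QuotientGroup.mk' (Subgroup.centralizer (Y : Set G)) with hr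
    rw [ZJ.stab, ← Subgroup.map_le_iff_le_comap]
    refine PBasic.le_pCore (Subgroup.Normal.map inferInstance _ (QuotientGroup.mk'_surjective _))
      (PBasic.isPGroup_iff_forall_coprime.2 fun y ho => ?_)
    obtain ⟨x, hx, hxy⟩ := y.2
    obtain ⟨u, v, huv, -, hv, ⟨k, hk⟩, hvo⟩ := PBasic.exists_pPart_mul (p := p) x
    have hvX : v ∈ X := Subgroup.zpowers_le.2 hx hv
    have hqv : q v = 1 := PBasic.eq_one_of_isPGroup_of_coprime (PBasic.pCore_isPGroup p _) hvX.2
      (Nat.Coprime.coprime_dvd_left (orderOf_map_dvd q v) hvo)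
    have hvY : v ∈ ZJ.stab p Y := by
      refine ZJNPC.mem_stab_of_factor hYp hNY.le hvX.1 fun w hw => ?_
      have h1 : ρ₀ v = 1 := congrArg Subtype.val hqv
      have h2 : (ρ₀ v ⟨f w, Subgroup.mem_map_of_mem f hw⟩ : G ⧸ N) = f w := by
        rw [h1]; rfl
      rw [hρv] at h2
      rw [← hker, map_commutatorElement, commutatorElement_eq_one_iff_mul_comm]
      exact mul_inv_eq_iff_eq_mul.1 h2
    have hrv : r v = 1 := PBasic.eq_one_of_isPGroup_of_coprime (PBasic.pCore_isPGroup p _) hvY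
      (Nat.Coprime.coprime_dvd_left (orderOf_map_dvd r v) hvo)
    have hyu : (y : G ⧸ Subgroup.centralizer (Y : Set G)) = r u := by
      rw [← hxy, ← huv, map_mul, hrv, mul_one]
    apply Subtype.ext
    rw [Subgroup.coe_one, hyu, ← orderOf_eq_one_iff]
    refine Nat.eq_one_of_dvd_coprimes (a := p ^ k) (b := orderOf (y : G ⧸ Subgroup.centralizer (Y : Set G)))
      ?_ (hk ▸ orderOf_map_dvd r u) (hyu ▸ dvd_rfl)
    rw [Subgroup.orderOf_coe]
    exact Nat.Coprime.pow_left k ho.symm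
  obtain ⟨K, ψ, W₁, θ, hW, hψ, hθ, heq⟩ :=
    exists_natural_section hp2 hexp ρ₀.range.subtype ρ₀.range.subtype_injective hquad hqa
  refine ⟨Y, hYn, hYp, K.comap q, ψ.comp (q.subgroupComap K), fun M => ?_, fun k hk => ?_⟩
  · obtain ⟨k, hk⟩ := hψ M
    obtain ⟨g, hg⟩ := ρ₀.rangeRestrict_surjective (k : ρ₀.range)
    refine ⟨⟨g, show q g ∈ K by rw [hqdef, hg]; exact k.2⟩, ?_⟩
    rw [← hk]
    exact congrArg ψ (Subtype.ext hg)
  · have h1 : q (k : G) = 1 := by
      apply Subtype.ext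
      refine MulEquiv.ext fun v => Subtype.ext ?_
      obtain ⟨_, y, hy, rfl⟩ := v
      show (ρ₀ (k : G) _ : G ⧸ N) = f y
      rw [hρv]
      show f (k : G) * f y * (f (k : G))⁻¹ = f y
      rw [← map_inv, ← map_mul, ← map_mul]
      exact congrArg f (mul_inv_eq_iff_eq_mul.2 (Subgroup.mem_centralizer_iff.1 hk y hy).symm)
    have h2 : q.subgroupComap K k = 1 := Subtype.ext h1
    rw [MonoidHom.comp_apply, h2, map_one]

/-- No `N(Q)/C(Q)`, `Q` a `p`-subgroup, involves `SL₂(p)`. -/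
def AutFree (p : ℕ) (G : Type*) [Group G] : Prop :=
  ∀ Q : Subgroup G, IsPGroup p Q → ∀ H : Subgroup G, H ≤ Subgroup.normalizer (Q : Set G) →
    ∀ ψ : H →* Matrix.SpecialLinearGroup (Fin 2) (ZMod p), Function.Surjective ψ →
      ∃ h : H, (h : G) ∈ Subgroup.centralizer (Q : Set G) ∧ ψ h ≠ 1

theorem AutFree.subgroup (h : AutFree p G) (L : Subgroup G) : AutFree p L := by
  intro Q hQ H hH ψ hψ
  set e := H.equivMapOfInjective L.subtype L.subtype_injective with he
  obtain ⟨g, hgC, hg⟩ := h (Q.map L.subtype) (hQ.map _) (H.map L.subtype)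
    ((Subgroup.map_mono hH).trans (Subgroup.le_normalizer_map L.subtype))
    (ψ.comp e.symm.toMonoidHom) (hψ.comp e.symm.surjective)
  refine ⟨e.symm g, Subgroup.mem_centralizer_iff.2 fun q hq => Subtype.ext ?_, hg⟩
  have h1 := Subgroup.mem_centralizer_iff.1 hgC (q : G) ⟨q, hq, rfl⟩
  obtain ⟨a, rfl⟩ := e.surjective g
  rw [MulEquiv.symm_apply_apply]
  exact h1

theorem AutFree.quotient [Finite G] (h : AutFree p G) (N : Subgroup G) [N.Normal] :
    AutFree p (G ⧸ N) := by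
  intro Q hQ H hH ψ hψ
  set π := QuotientGroup.mk' N with hπ
  set L := Q.comap π with hL
  set HL := H.comap π with hHL
  obtain ⟨R⟩ : Nonempty (Sylow p L) := inferInstance
  have hR := Functors.isSylowIn_map_subtype (p := p) R
  set Q' := (R : Subgroup L).map L.subtype with hQ'
  have hπQ : Q'.map π = Q := by
    set g : L →* Q := π.subgroupComap Q with hg
    have hgs : Function.Surjective g := fun a => by
      obtain ⟨x, hx⟩ := QuotientGroup.mk'_surjective N (a : G ⧸ N)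
      exact ⟨⟨x, by rw [hL, Subgroup.mem_comap, hπ, hx]; exact a.2⟩, Subtype.ext hx⟩
    have htop : (R : Subgroup L).map g = ⊤ :=
      ((R.mapSurjective hgs).is_maximal' (hQ.to_subgroup ⊤) le_top).symm
    refine le_antisymm (by rintro _ ⟨x, ⟨s, -, rfl⟩, rfl⟩; exact s.2) fun a ha => ?_
    obtain ⟨s, hs, hsa⟩ := htop.ge (Subgroup.mem_top (⟨a, ha⟩ : Q))
    exact ⟨s, ⟨s, hs, rfl⟩, congrArg Subtype.val hsa⟩
  set H' := HL ⊓ Subgroup.normalizer (Q' : Set G) with hH'
  have hmem : ∀ x : H', π (x : G) ∈ H := fun x => (Subgroup.mem_inf.1 x.2).1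
  let f : H' →* H := MonoidHom.mk' (fun x => ⟨π x, hmem x⟩) fun x y => Subtype.ext (map_mul π _ _)
  have hfs : Function.Surjective f := by
    rintro ⟨y, hy⟩
    obtain ⟨x, rfl⟩ := QuotientGroup.mk'_surjective N y
    have hle : Q'.map (Functors.cj x) ≤ L := by
      rintro _ ⟨q, hq, rfl⟩
      rw [hL, Subgroup.mem_comap, Functors.cj_apply, map_mul, map_mul, map_inv]
      exact (Subgroup.mem_normalizer_iff.1 (hH hy) _).1 (hπQ.le ⟨q, hq, rfl⟩)
    obtain ⟨l, hl, hle'⟩ := Functors.exists_conj_le_of_isSylowIn hR (hR.isPGroup.map _) hle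
    rw [Functors.map_map_cj] at hle'
    have hN : l * x ∈ Subgroup.normalizer (Q' : Set G) := Functors.map_cj_eq_iff.1
      (Subgroup.eq_of_le_of_card_ge hle' (Functors.card_map_cj _ _).ge)
    obtain ⟨q, hq, hql⟩ := hπQ.ge (show π l ∈ Q from hl)
    have hx : q⁻¹ * l * x ∈ Subgroup.normalizer (Q' : Set G) := by
      rw [mul_assoc]; exact mul_mem (inv_mem (Subgroup.le_normalizer hq)) hN
    have hπx : π (q⁻¹ * l * x) = π x := by
      rw [map_mul, map_mul, map_inv, hql, inv_mul_cancel, one_mul]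
    exact ⟨⟨q⁻¹ * l * x, Subgroup.mem_inf.2 ⟨by rw [hHL, Subgroup.mem_comap, hπx]; exact hy, hx⟩⟩,
      Subtype.ext hπx⟩
  obtain ⟨x, hxC, hx⟩ := h Q' hR.isPGroup H' inf_le_right (ψ.comp f) (hψ.comp hfs)
  refine ⟨f x, Subgroup.mem_centralizer_iff.2 fun a ha => ?_, hx⟩
  obtain ⟨q, hq, rfl⟩ := hπQ.ge ha
  show π q * π x = π x * π q
  rw [← map_mul, ← map_mul, Subgroup.mem_centralizer_iff.1 hxC q hq]

theorem AutFree.isQuad [Finite G] (h : AutFree p G) (hp2 : p ≠ 2) : ZJ.IsQuad p G := by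
  by_contra hns
  obtain ⟨Y, hY, hYp, K, ψ, hψ, hker⟩ := exists_automizer_of_not_isQuad hp2 hns
  obtain ⟨k, hk, hk1⟩ := h Y hYp K (by haveI := hY; rw [Subgroup.normalizer_eq_top]; exact le_top) ψ hψ
  exact hk1 (hker k hk)

end Cfsg.Agent.AutFreeness
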