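import Mathlib.NumberTheory.SumTwoSquares
import Mathlib.GroupTheory.Sylow
import Cfsg.Prelude.Def_Local
import Cfsg.Agent.Lib.Classical.SL
import Cfsg.Agent.Lib.PLocal.PSolvable
import Cfsg.Agent.Lib.PStable.Involved

/-!
Consequences of a subgroup mapping onto `SL₂(p)`: Sylow `2`-subgroups and `p`-solubility.
-/

set_option autoImplicit false
set_option linter.style.haveILetI false

open scoped commutatorElement

namespace Cfsg.Agent.PStable

open Cfsg.Agent

variable {p : ℕ} [hp : Fact p.Prime]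

local notation "SL2p" => Matrix.SpecialLinearGroup (Fin 2) (ZMod p)

theorem exists_noncommuting_two (hp2 : p ≠ 2) :
    ∃ S : Subgroup SL2p, IsPGroup 2 S ∧ ∃ a ∈ S, ∃ b ∈ S, a * b ≠ b * a := by
  haveI : Fact (Nat.Prime 2) := ⟨Nat.prime_two⟩
  obtain ⟨a, b, hab⟩ := ZMod.sq_add_sq p (-1)
  obtain ⟨w, hw⟩ : ∃ w : SL2p, (w : Matrix (Fin 2) (Fin 2) (ZMod p)) = !![0, -1; 1, 0] :=
    ⟨⟨!![0, -1; 1, 0], by simp [Matrix.det_fin_two]⟩, rfl⟩
  obtain ⟨x, hx⟩ : ∃ x : SL2p, (x : Matrix (Fin 2) (Fin 2) (ZMod p)) = !![a, b; b, -a] :=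
    ⟨⟨!![a, b; b, -a], by rw [Matrix.det_fin_two]; simp; linear_combination -hab⟩, rfl⟩
  have hw2 : w * w = -1 := by
    apply Subtype.ext
    rw [Matrix.SpecialLinearGroup.coe_mul, hw]
    apply ext2 <;> simp [Matrix.mul_apply, Fin.sum_univ_two]
  have hx2 : x * x = -1 := by
    apply Subtype.ext
    rw [Matrix.SpecialLinearGroup.coe_mul, hx]
    apply ext2 <;> simp [Matrix.mul_apply, Fin.sum_univ_two]
    · linear_combination hab
    · ring
    · ring
    · linear_combination hab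
  have hwx : x * w = -(w * x) := by
    apply Subtype.ext
    rw [Matrix.SpecialLinearGroup.coe_neg, Matrix.SpecialLinearGroup.coe_mul,
      Matrix.SpecialLinearGroup.coe_mul, hx, hw]
    apply ext2 <;> simp [Matrix.mul_apply, Fin.sum_univ_two]
  have h4 : ∀ g : SL2p, g * g = -1 → IsPGroup 2 (Subgroup.zpowers g) := fun g hg => by
    have h : g ^ 4 = 1 := by
      rw [show 4 = 2 + 2 from rfl, pow_add, pow_two, hg]; simp
    obtain ⟨i, -, hi⟩ := (Nat.dvd_prime_pow Nat.prime_two (m := 2)).1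
      (show orderOf g ∣ 2 ^ 2 from orderOf_dvd_of_pow_eq_one h)
    exact IsPGroup.of_card (n := i) (by rw [Nat.card_zpowers, hi])
  have hwinv : w⁻¹ = -w := inv_eq_of_mul_eq_one_right (by simp [hw2])
  have hnorm : Subgroup.zpowers x ≤ Subgroup.normalizer (Subgroup.zpowers w : Set SL2p) := by
    rw [Subgroup.zpowers_le, Subgroup.mem_normalizer_iff_map_conj_eq, MonoidHom.map_zpowers]
    show Subgroup.zpowers (x * w * x⁻¹) = Subgroup.zpowers w
    rw [show x * w * x⁻¹ = w⁻¹ by rw [hwx, hwinv, neg_mul, mul_inv_cancel_right], Subgroup.zpowers_inv]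
  refine ⟨Subgroup.zpowers x ⊔ Subgroup.zpowers w, (h4 x hx2).to_sup_of_normal_right' (h4 w hw2) hnorm,
    x, Subgroup.mem_sup_left (Subgroup.mem_zpowers x), w,
    Subgroup.mem_sup_right (Subgroup.mem_zpowers w), fun h => ?_⟩
  rw [hwx] at h
  have h1 : ((w * x : SL2p) : Matrix (Fin 2) (Fin 2) (ZMod p)) =
      -((w * x : SL2p) : Matrix (Fin 2) (Fin 2) (ZMod p)) := by
    have := congrArg (fun g : SL2p => (g : Matrix (Fin 2) (Fin 2) (ZMod p))) h.symm
    simpa using this
  have h2 : ∀ i j, ((w * x : SL2p) : Matrix (Fin 2) (Fin 2) (ZMod p)) i j = 0 := fun i j => by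
    have h3 : (2 : ZMod p) * ((w * x : SL2p) : Matrix (Fin 2) (Fin 2) (ZMod p)) i j = 0 := by
      rw [two_mul]; nth_rewrite 2 [h1]; simp
    exact (mul_eq_zero.1 h3).resolve_left (two_ne_zero' hp2)
  have h4' := det_one (w * x)
  simp [h2] at h4'

/-- A group mapping onto `SL₂(p)` on a subgroup has non-abelian Sylow `2`-subgroups. -/
theorem sylow_two_noncomm {G : Type*} [Group G] [Finite G] (hp2 : p ≠ 2) {K : Subgroup G}
    (ψ : K →* SL2p) (hψ : Function.Surjective ψ) (T : Sylow 2 G) :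
    ¬ IsMulCommutative (T : Subgroup G) := by
  haveI : Fact (Nat.Prime 2) := ⟨Nat.prime_two⟩
  intro hT
  obtain ⟨S, hS, a, haS, b, hbS, hab⟩ := exists_noncommuting_two (p := p) hp2
  obtain ⟨S', hS'⟩ := hS.exists_le_sylow
  obtain ⟨U⟩ : Nonempty (Sylow 2 K) := inferInstance
  -- an abelian Sylow subgroup of `K`
  obtain ⟨T', hT'⟩ := (U.isPGroup'.map K.subtype).exists_le_sylow
  have hTc : ∀ u ∈ (T' : Subgroup G), ∀ v ∈ (T' : Subgroup G), u * v = v * u := fun u hu v hv => by
    have h := (Sylow.equiv T' T).injective (a₁ := ⟨u, hu⟩ * ⟨v, hv⟩) (a₂ := ⟨v, hv⟩ * ⟨u, hu⟩)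
      (by rw [map_mul, map_mul]; exact hT.is_comm.comm _ _)
    exact congrArg Subtype.val h
  have hUc : ∀ u ∈ (U.mapSurjective hψ : Subgroup SL2p), ∀ v ∈ (U.mapSurjective hψ : Subgroup SL2p),
      u * v = v * u := by
    rw [Sylow.coe_mapSurjective]
    rintro _ ⟨u, hu, rfl⟩ _ ⟨v, hv, rfl⟩
    rw [← map_mul, ← map_mul]
    congr 1
    exact Subtype.ext (hTc _ (hT' (Subgroup.mem_map_of_mem _ hu)) _ (hT' (Subgroup.mem_map_of_mem _ hv)))
  refine hab (congrArg Subtype.val ((Sylow.equiv S' (U.mapSurjective hψ)).injective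
    (a₁ := ⟨a, hS' haS⟩ * ⟨b, hS' hbS⟩) (a₂ := ⟨b, hS' hbS⟩ * ⟨a, hS' haS⟩) ?_))
  rw [map_mul, map_mul]
  exact Subtype.ext (hUc _ (Subtype.mem _) _ (Subtype.mem _))

theorem isPerfect_sl2 (hp2 : p ≠ 2) (hp3 : p ≠ 3) (N : Subgroup SL2p) [N.Normal]
    (h : ∀ x y : SL2p ⧸ N, x * y = y * x) : N = ⊤ := by
  have h5 : 5 ≤ p := by
    have h4 : p ≠ 4 := fun h => by have := hp.out; rw [h] at this; norm_num at this
    have := hp.out.two_le; omega
  have h2 : (2 : ZMod p) ^ 2 ≠ 1 := by
    intro h2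
    have h3 : ((3 : ℕ) : ZMod p) = 0 := by push_cast; linear_combination h2
    rw [ZMod.natCast_eq_zero_iff] at h3
    have := Nat.le_of_dvd (by norm_num) h3
    omega
  rw [eq_top_iff, ← ClassicalSL.closure_elemTransvections, Subgroup.closure_le]
  rintro _ ⟨i, j, hij, c, rfl⟩
  obtain ⟨a, b, hab⟩ := ClassicalSL.transvection_mem_commutatorSet_of_sq hij (two_ne_zero' hp2) h2 c
  rw [SetLike.mem_coe, ← hab, ← QuotientGroup.eq_one_iff]
  change QuotientGroup.mk' N ⁅a, b⁆ = 1
  rw [map_commutatorElement, commutatorElement_eq_one_iff_mul_comm]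
  exact h _ _

theorem eq_three_of_isPSolvable_sl2 (hp2 : p ≠ 2) (h : Cfsg.IsPSolvable p SL2p) : p = 3 := by
  by_contra hp3
  obtain ⟨n, H, h0, hn, hmono, hnorm, hfac⟩ := h
  suffices hall : ∀ i : Fin (n + 1), H i = ⊤ by
    have h1 := congrArg (fun K : Subgroup SL2p => (upp 1 : SL2p) ∈ K) ((hall 0).symm.trans h0)
    simp only [Subgroup.mem_top, Subgroup.mem_bot, eq_iff_iff, true_iff] at h1
    exact not_isSc_upp (F := ZMod p) one_ne_zero (h1 ▸ ⟨1, by simp⟩)
  intro i
  induction i using Fin.reverseInduction with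
  | last => exact hn
  | cast i ih =>
    haveI := hnorm i.castSucc
    rcases hfac i with ⟨m, hm⟩ | hco
    · rw [ih, Subgroup.relIndex_top_right] at hm
      have hQ : IsPGroup p (SL2p ⧸ H i.castSucc) := IsPGroup.of_card (n := m) hm
      haveI : Group.IsNilpotent (SL2p ⧸ H i.castSucc) := hQ.isNilpotent
      by_contra hne
      obtain ⟨M, hM, hMlt⟩ : ∃ M : Subgroup (SL2p ⧸ H i.castSucc), M = commutator _ ∧ M < ⊤ := by
        refine ⟨_, rfl, ?_⟩
        haveI : Nontrivial (SL2p ⧸ H i.castSucc) := QuotientGroup.nontrivial_iff.2 hne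
        exact Group.IsSolvable.commutator_lt_top_of_nontrivial _
      haveI : M.Normal := hM ▸ inferInstance
      have hc : ∀ x y : SL2p ⧸ M.comap (QuotientGroup.mk' (H i.castSucc)), x * y = y * x := by
        intro x y
        obtain ⟨x, rfl⟩ := QuotientGroup.mk'_surjective _ x
        obtain ⟨y, rfl⟩ := QuotientGroup.mk'_surjective _ y
        rw [← commutatorElement_eq_one_iff_mul_comm, ← map_commutatorElement]
        refine (QuotientGroup.eq_one_iff _).2 ?_
        rw [Subgroup.mem_comap, map_commutatorElement, hM]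
        exact Subgroup.commutator_mem_commutator (Subgroup.mem_top _) (Subgroup.mem_top _)
      have h1 := isPerfect_sl2 hp2 hp3 _ hc
      refine hMlt.ne ?_
      rw [← Subgroup.map_comap_eq_self_of_surjective (QuotientGroup.mk'_surjective (H i.castSucc)) M,
        h1, Subgroup.map_top_of_surjective _ (QuotientGroup.mk'_surjective _)]
    · rw [ih, Subgroup.relIndex_top_right] at hco
      have hmem : ∀ u : SL2p, u ^ p = 1 → u ∈ H i.castSucc := by
        intro u hu
        rw [← QuotientGroup.eq_one_iff, ← orderOf_eq_one_iff]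
        exact Nat.eq_one_of_dvd_coprimes hco.symm
          (orderOf_dvd_of_pow_eq_one (by rw [← QuotientGroup.mk_pow, hu, QuotientGroup.mk_one]))
          (orderOf_dvd_natCard _)
      have hl : ∀ m : ℕ, (low 1 : SL2p) ^ m = low (m : ZMod p) := by
        intro m
        induction m with
        | zero => exact Subtype.ext (by simp [low_val, Matrix.one_fin_two])
        | succ m ih => rw [pow_succ, ih, low_mul, Nat.cast_succ]
      exact eq_top_of_root _ (hmem _ (upp_pow_char 1)) (hmem _ (by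
        rw [hl, CharP.cast_eq_zero]
        exact Subtype.ext (by simp [low_val, Matrix.one_fin_two])))

theorem eq_three_of_surjective {G : Type*} [Group G] (hp2 : p ≠ 2) (h : Cfsg.IsPSolvable p G)
    {K : Subgroup G} (ψ : K →* SL2p) (hψ : Function.Surjective ψ) : p = 3 :=
  eq_three_of_isPSolvable_sl2 hp2 (PSolvable.of_surjective ψ hψ (PSolvable.subgroup K h))

end Cfsg.Agent.PStable
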