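import Cfsg.Prelude.Def_PLocal
import Cfsg.Agent.Lib.PStable.Involved
import Cfsg.Agent.Lib.PStable.SL2Prime

/-!
`p`-stability in the action sense from the absence of `SL₂(p)`.
-/

set_option autoImplicit false
set_option linter.style.haveILetI false

open scoped commutatorElement

namespace Cfsg.Agent.PStable

open Cfsg.Agent

variable {G : Type*} [Group G] [Finite G] {p : ℕ} [hp : Fact p.Prime]

theorem isPStableOn_of_isQuad (hq : ZJ.IsQuad p G) (V : Subgroup G) [V.Normal] (hV : IsPGroup p V) :
    Cfsg.IsPStableOn p V := fun a ha => mk_mem_of_quadratic hq V hV a ha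

theorem isPStableOnSection_of_isQuad (K N : Subgroup G) [K.Normal] [N.Normal] (hK : IsPGroup p K)
    (hq : ZJ.IsQuad p (G ⧸ N)) : Cfsg.IsPStableOnSection p K N := by
  intro a ha
  set f := QuotientGroup.mk' N with hf
  set B := K.map f with hB
  haveI : B.Normal := ‹K.Normal›.map f (QuotientGroup.mk'_surjective N)
  have hBq : ⁅⁅B, Subgroup.zpowers (f a)⁆, Subgroup.zpowers (f a)⁆ = ⊥ := by
    rw [hB, ← MonoidHom.map_zpowers, ← Subgroup.map_commutator, ← Subgroup.map_commutator,
      Subgroup.map_eq_bot_iff, hf, QuotientGroup.ker_mk']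
    exact ha
  have h1 := mk_mem_of_quadratic hq B (hK.map f) (f a) hBq
  set C := Subgroup.centralizer (B : Set (G ⧸ N)) with hC
  set g := (QuotientGroup.mk' C).comp f with hg
  have hgs : Function.Surjective g :=
    (QuotientGroup.mk'_surjective C).comp (QuotientGroup.mk'_surjective N)
  have hker : Cfsg.sectionKernel K N = g.ker := by
    rw [hg, ← MonoidHom.comap_ker, QuotientGroup.ker_mk']
    rfl
  refine ⟨(Cfsg.pCore p ((G ⧸ N) ⧸ C)).comap g, (Cfsg.pCore_normal p _).comap g, ?_, ?_, h1⟩
  · rw [hker]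
    exact MonoidHom.ker_le_comap g _
  · obtain ⟨k, hk⟩ := IsPGroup.iff_card.1 (PBasic.pCore_isPGroup p ((G ⧸ N) ⧸ C))
    refine ⟨k, ?_⟩
    rw [hker, ← MonoidHom.comap_bot, Subgroup.relIndex_comap,
      Subgroup.map_comap_eq_self_of_surjective hgs, Subgroup.relIndex_bot_left, hk]

/-- Groups without a subgroup mapping onto `SL₂(p)` are `p`-stable in the action sense. -/
theorem isActionPStable_of_free (hp2 : p ≠ 2)
    (h : ¬ Cfsg.Involves (Matrix.SpecialLinearGroup (Fin 2) (ZMod p)) G) :
    Cfsg.IsActionPStable p G := by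
  refine ⟨fun V _ hV => isPStableOn_of_isQuad (isQuad_of_not_involves_sl2 hp2 h) V ?_, ?_, ?_⟩
  · exact fun x => ⟨1, Subtype.ext (by simpa using hV.2 x x.2)⟩
  · haveI : ((frattini ↥(Cfsg.pCore p G)).map (Cfsg.pCore p G).subtype).Normal := inferInstance
    exact isPStableOnSection_of_isQuad _ _ (PBasic.pCore_isPGroup p G)
      (isQuad_of_not_involves_sl2 hp2 fun hi =>
        h (involves_of_quotient (QuotientGroup.mk' _) (QuotientGroup.mk'_surjective _) hi))
  · intro S V _ hV
    refine isPStableOn_of_isQuad (isQuad_of_not_involves_sl2 hp2 fun hi => h (involves_of_subgroup hi))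
      V ?_
    have h1 : IsPGroup p (V.map (Subgroup.normalizer
        (Cfsg.thompsonSubgroupOf p (S : Subgroup G) : Set G)).subtype) :=
      (S.isPGroup'.to_le (Subgroup.map_subtype_le _)).to_le hV
    exact h1.of_injective ((Subgroup.normalizer
      (Cfsg.thompsonSubgroupOf p (S : Subgroup G) : Set G)).subtype.subgroupMap V)
      (fun x y hxy => Subtype.ext (Subtype.ext (congrArg Subtype.val hxy :)))

end Cfsg.Agent.PStable
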