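import Cfsg.Prelude.Def_Transfer
import Mathlib.GroupTheory.GroupAction.ConjAct
import Cfsg.Agent.Lib.PStable.NotStable

/-!
Quadratic action of a subgroup on an elementary abelian subgroup by conjugation.
-/

set_option autoImplicit false
set_option linter.style.haveILetI false

open scoped commutatorElement

namespace Cfsg.Agent.PStable

open Cfsg.Agent

variable {G : Type*} [Group G] {p : ℕ}

/-- A quadratic element fixes the displacement of every element. -/
theorem conj_displacement {V : Subgroup G} {a : G}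
    (hq : ⁅⁅V, Subgroup.zpowers a⁆, Subgroup.zpowers a⁆ = ⊥) {y : G} (hy : y ∈ V) :
    a * (a * y * a⁻¹ * y⁻¹) * a⁻¹ = a * y * a⁻¹ * y⁻¹ := by
  have h1 : ⁅a * y * a⁻¹ * y⁻¹, a⁆ = 1 := by
    rw [← Subgroup.mem_bot, ← hq]
    refine Subgroup.commutator_mem_commutator ?_ (Subgroup.mem_zpowers a)
    rw [show a * y * a⁻¹ * y⁻¹ = ⁅y, a⁆⁻¹ by rw [commutatorElement_def]; group]
    exact Subgroup.inv_mem _ (Subgroup.commutator_mem_commutator hy (Subgroup.mem_zpowers a))
  rw [commutatorElement_eq_one_iff_mul_comm] at h1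
  rw [← h1, mul_inv_cancel_right]

theorem mem_comm_of_elementary {V : Subgroup G} (hV : Cfsg.IsElementaryAbelian p V) (u v : V) :
    u * v = v * u :=
  hV.1.is_comm.comm u v

variable [Finite G] [hp : Fact p.Prime]

/-- A faithful subgroup with a quadratic element outside its `p`-core maps a subgroup onto `SL₂(p)`. -/
theorem exists_sl2_of_action (hp2 : p ≠ 2) (V H : Subgroup G) (hV : Cfsg.IsElementaryAbelian p V)
    (hHV : H ≤ Subgroup.normalizer (V : Set G)) (hf : H ⊓ Subgroup.centralizer (V : Set G) = ⊥)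
    (a : H) (hq : ⁅⁅V, Subgroup.zpowers (a : G)⁆, Subgroup.zpowers (a : G)⁆ = ⊥)
    (hna : a ∉ Cfsg.pCore p H) :
    ∃ K : Subgroup G, K ≤ H ∧ ∃ ψ : K →* Matrix.SpecialLinearGroup (Fin 2) (ZMod p),
      Function.Surjective ψ := by
  letI : CommGroup V := { (inferInstance : Group V) with mul_comm := mem_comm_of_elementary hV }
  set ρ : H →* MulAut V := (Subgroup.normalizerMonoidHom V).comp (Subgroup.inclusion hHV) with hρ
  have hρv : ∀ (h : H) (v : V), (ρ h v : G) = h * v * (h : G)⁻¹ := fun h v => rfl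
  have hinj : Function.Injective ρ := by
    refine (injective_iff_map_eq_one ρ).2 fun h hh => ?_
    have h1 : (h : G) ∈ H ⊓ Subgroup.centralizer (V : Set G) := by
      refine ⟨h.2, fun y hy => ?_⟩
      have h2 := hρv h ⟨y, hy⟩
      rw [hh, MulAut.one_apply, eq_comm, mul_inv_eq_iff_eq_mul] at h2
      exact h2.symm
    rw [hf, Subgroup.mem_bot] at h1
    exact Subtype.ext h1
  have hexp : ∀ v : V, v ^ p = 1 := fun v => Subtype.ext (by simpa using hV.2 v v.2)
  obtain ⟨K, ψ, W, θ, hW, hψ, -, -⟩ := exists_natural_section hp2 hexp ρ hinj (a := a)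
    (fun v => Subtype.ext (by
      rw [hρv, Subgroup.coe_mul, hρv, Subgroup.coe_inv]
      exact conj_displacement hq v.2)) hna
  refine ⟨K.map H.subtype, Subgroup.map_subtype_le K,
    ψ.comp (K.equivMapOfInjective H.subtype H.subtype_injective).symm.toMonoidHom, ?_⟩
  exact hψ.comp (MulEquiv.surjective _)

end Cfsg.Agent.PStable
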