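import Cfsg.Prelude.Def_Local
import Cfsg.Agent.Lib.Techniques.PConstrained
import Cfsg.Agent.Lib.PLocal.PSolvable

/-!
`p`-stability modulo the largest normal subgroup of order prime to `p`; the criterion for
`p`-constraint from the centralizer of a Sylow subgroup of `O_{p',p}`.
-/

set_option autoImplicit false
set_option linter.style.haveILetI false

open scoped Pointwise commutatorElement

namespace Cfsg.Agent.QuotientStable

open Cfsg.Agent

variable {G : Type*} [Group G] [Finite G] {p : ℕ} [hp : Fact p.Prime]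

theorem coprime_ker : (Nat.card (QuotientGroup.mk' (Cfsg.pPrimeCore p G)).ker).Coprime p := by
  rw [QuotientGroup.ker_mk']; exact PBasic.pPrimeCore_coprime p G

/-- A group with `p`-solvable centralizer of a Sylow subgroup of `O_{p',p}` is `p`-constrained. -/
theorem isPConstrained_of_centralizer (P : Sylow p ↥(Cfsg.pPrimePCore p G))
    (hsol : Cfsg.IsPSolvable p ↥(Subgroup.centralizer (((P : Subgroup ↥(Cfsg.pPrimePCore p G)).map
      (Cfsg.pPrimePCore p G).subtype : Subgroup G) : Set G))) : Cfsg.IsPConstrained p G := by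
  set P' := (P : Subgroup ↥(Cfsg.pPrimePCore p G)).map (Cfsg.pPrimePCore p G).subtype with hP'
  set f := QuotientGroup.mk' (Cfsg.pPrimeCore p G) with hf
  have hfs : Function.Surjective f := QuotientGroup.mk'_surjective _
  set U := Cfsg.pCore p (G ⧸ Cfsg.pPrimeCore p G) with hU
  have hPU : P'.map f = U := by
    refine le_antisymm ?_ fun y hy => ?_
    · rintro _ ⟨_, ⟨x, -, rfl⟩, rfl⟩; exact x.2
    · let g : ↥(Cfsg.pPrimePCore p G) →* ↥U := (f.comp (Cfsg.pPrimePCore p G).subtype).codRestrict _ (fun x => x.2)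
      have hgs : Function.Surjective g := fun ⟨z, hz⟩ => by
        obtain ⟨x, rfl⟩ := hfs z
        exact ⟨⟨x, hz⟩, rfl⟩
      have htop : (P : Subgroup ↥(Cfsg.pPrimePCore p G)).map g = ⊤ := by
        rw [← Sylow.coe_mapSurjective hgs P]
        refine top_le_iff.1 ?_
        obtain ⟨Q, hQ⟩ := ((PBasic.pCore_isPGroup p _).to_subgroup (⊤ : Subgroup ↥U)).exists_le_sylow
        obtain ⟨w, hw⟩ := MulAction.exists_smul_eq ↥U Q (P.mapSurjective hgs)
        have hQtop : (Q : Subgroup ↥U) = ⊤ := top_le_iff.1 hQ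
        rw [← hw, Sylow.coe_subgroup_smul, hQtop]
        intro z _
        rw [SolvBasic.mem_conjSmul]
        exact Subgroup.mem_top _
      obtain ⟨x, hx, hxy⟩ : (⟨y, hy⟩ : ↥U) ∈ (P : Subgroup ↥(Cfsg.pPrimePCore p G)).map g := htop ▸ Subgroup.mem_top _
      exact ⟨_, ⟨x, hx, rfl⟩, congrArg Subtype.val hxy⟩
  set C := Subgroup.centralizer (P' : Set G) with hC
  have hmap : C.map f = Subgroup.centralizer (U : Set _) := by
    rw [← hPU, hC, PConstr.map_centralizer_eq f hfs coprime_ker (P.isPGroup'.map _)]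
  haveI hUn : U.Normal := Cfsg.pCore_normal p _
  set D := Subgroup.centralizer (U : Set (G ⧸ Cfsg.pPrimeCore p G)) with hD
  haveI hDn : D.Normal := inferInstance
  have hDs : Cfsg.IsPSolvable p ↥D := by
    rw [← hmap]
    exact PSolvable.of_surjective _ (f.subgroupMap_surjective C) hsol
  have hD0 : Cfsg.pPrimeCore p ↥D = ⊥ := by
    have h := PBasic.map_pPrimeCore_le_of_normal (p := p) D
    rw [PBasic.pPrimeCore_quotient_pPrimeCore, le_bot_iff,
      Subgroup.map_eq_bot_iff_of_injective _ D.subtype_injective] at h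
    exact h
  refine PSolvable.isPConstrained_of_quotient fun y hy => ?_
  have hle := PSolvable.centralizer_pCore_le hDs hD0
  have hy' : (⟨y, hy⟩ : ↥D) ∈ Cfsg.pCore p ↥D := by
    refine hle fun z hz => Subtype.ext ?_
    exact hy z (PBasic.map_pCore_le_of_normal D ⟨z, hz, rfl⟩)
  exact PBasic.map_pCore_le_of_normal D ⟨_, hy', rfl⟩

/-- The pairs `(P, A)` of the definition of `p`-stability, read in a quotient by a `p'`-group. -/
theorem mem_pCore_iff {H : Type*} [Group H] [Finite H] (f : G →* H) (hf : Function.Surjective f)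
    (hk : (Nat.card f.ker).Coprime p) {P : Subgroup G} (hP : IsPGroup p P) {P' : Subgroup H}
    (hPP' : P.map f = P') [hPn : P'.Normal] :
    ∀ a : ↥(Subgroup.normalizer (P : Set G)),
    (QuotientGroup.mk a : ↥(Subgroup.normalizer (P : Set G)) ⧸
        (Subgroup.centralizer (P : Set G)).subgroupOf (Subgroup.normalizer (P : Set G))) ∈
        Cfsg.pCore p _ ↔
      (QuotientGroup.mk (f a) : H ⧸ Subgroup.centralizer (P' : Set H)) ∈ Cfsg.pCore p _ := by
  subst hPP'
  set N := Subgroup.normalizer (P : Set G) with hN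
  set φ : ↥N →* H ⧸ Subgroup.centralizer (P.map f : Set H) :=
    (QuotientGroup.mk' _).comp (f.comp N.subtype) with hφ
  have hφs : Function.Surjective φ := by
    intro y
    obtain ⟨z, rfl⟩ := QuotientGroup.mk'_surjective _ y
    have hz : z ∈ N.map f := by
      rw [hN, PConstr.map_normalizer_eq f hf hk hP, Subgroup.normalizer_eq_top]
      exact Subgroup.mem_top _
    obtain ⟨x, hx, rfl⟩ := hz
    exact ⟨⟨x, hx⟩, rfl⟩
  have hker : φ.ker = (Subgroup.centralizer (P : Set G)).subgroupOf N := by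
    ext x
    rw [MonoidHom.mem_ker, Subgroup.mem_subgroupOf]
    change (QuotientGroup.mk (f (x : G)) : H ⧸ _) = 1 ↔ _
    rw [QuotientGroup.eq_one_iff]
    constructor
    · intro h
      rw [← PConstr.map_centralizer_eq f hf hk hP] at h
      obtain ⟨c, hc, hcx⟩ := h
      have hmk : c⁻¹ * (x : G) ∈ f.ker := by
        rw [MonoidHom.mem_ker, map_mul, map_inv, hcx, inv_mul_cancel]
      have hmN : c⁻¹ * (x : G) ∈ N :=
        mul_mem (inv_mem (Subgroup.centralizer_le_normalizer _ hc)) x.2
      have hmC : c⁻¹ * (x : G) ∈ Subgroup.centralizer (P : Set G) := by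
        intro u hu
        set m := c⁻¹ * (x : G) with hm
        have h1 : m * u * m⁻¹ * u⁻¹ ∈ f.ker := by
          rw [MonoidHom.mem_ker, map_mul, map_mul, map_mul, map_inv, map_inv,
            MonoidHom.mem_ker.1 hmk]
          group
        have h2 := PBasic.eq_one_of_isPGroup_of_coprime hP
          (mul_mem ((Subgroup.mem_normalizer_iff.1 hmN u).1 hu) (inv_mem hu))
          (PBasic.coprime_orderOf_of_mem hk h1)
        rw [mul_inv_eq_one, mul_inv_eq_iff_eq_mul] at h2
        exact h2.symm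
      have := mul_mem hc hmC
      rwa [mul_inv_cancel_left] at this
    · intro h
      rintro _ ⟨u, hu, rfl⟩
      rw [← map_mul, ← map_mul, h u hu]
  set e := (QuotientGroup.quotientMulEquivOfEq hker.symm).trans
    (QuotientGroup.quotientKerEquivOfSurjective φ hφs) with he
  intro a
  rw [← PBasic.map_pCore_equiv e, Subgroup.mem_map_equiv]
  have : e.symm (QuotientGroup.mk (f (a : G))) = QuotientGroup.mk a := by
    rw [MulEquiv.symm_apply_eq]
    rfl
  rw [this]

/-- `p`-stability is a property of `G/O_{p'}(G)` when `O_p(G) ≠ 1`. -/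
theorem isPStable_iff (hO : Cfsg.pCore p G ≠ ⊥) :
    Cfsg.IsPStable p G ↔ Cfsg.IsPStable p (G ⧸ Cfsg.pPrimeCore p G) := by
  set M := Cfsg.pPrimeCore p G with hM
  set f := QuotientGroup.mk' M with hf
  have hfs : Function.Surjective f := QuotientGroup.mk'_surjective M
  have hk : (Nat.card f.ker).Coprime p := coprime_ker
  have hkerf : f.ker = M := QuotientGroup.ker_mk' M
  have hM0 : Cfsg.pPrimeCore p (G ⧸ M) = ⊥ := PBasic.pPrimeCore_quotient_pPrimeCore p G
  have hcomm : ∀ {P A : Subgroup G}, IsPGroup p P → A ≤ Subgroup.normalizer (P : Set G) →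
      ⁅⁅P.map f, A.map f⁆, A.map f⁆ = ⊥ → ⁅⁅P, A⁆, A⁆ = ⊥ := by
    intro P A hP hA h
    rw [← Subgroup.map_commutator, ← Subgroup.map_commutator, Subgroup.map_eq_bot_iff, hkerf] at h
    have h1 : ⁅⁅P, A⁆, A⁆ ≤ P :=
      (Subgroup.commutator_mono (Subgroup.le_normalizer_iff_commutator_le_left.1 hA) le_rfl).trans
        (Subgroup.le_normalizer_iff_commutator_le_left.1 hA)
    rw [eq_bot_iff, ← PBasic.inf_eq_bot_of_coprime (PBasic.pPrimeCore_coprime p G) hP]
    exact le_inf h h1
  constructor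
  · rintro ⟨hodd, -, h⟩
    refine ⟨hodd, fun hbot => hO ?_, fun A' P' hA' hP' hconj hPle hPn hq => ?_⟩
    · have h1 := PBasic.map_pCore_le_of_surjective (p := p) f hfs
      rw [hbot, le_bot_iff, Subgroup.map_eq_bot_iff, hkerf] at h1
      rw [eq_bot_iff, ← PBasic.inf_eq_bot_of_coprime (PBasic.pPrimeCore_coprime p G)
        (PBasic.pCore_isPGroup p G)]
      exact le_inf h1 le_rfl
    rw [hM0, bot_sup_eq] at hPn
    haveI := hPn
    -- lift `P'`
    obtain ⟨S⟩ : Nonempty (Sylow p ↥(P'.comap f)) := inferInstance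
    set P := (S : Subgroup ↥(P'.comap f)).map (P'.comap f).subtype with hPdef
    have hPp : IsPGroup p P := S.isPGroup'.map _
    have hlift : ∀ (K : Subgroup G) (B : Subgroup (G ⧸ M)), IsPGroup p B → K.map f = B →
        ∀ S : Sylow p ↥K, ((S : Subgroup ↥K).map K.subtype).map f = B := by
      intro K B hB hKB S
      have h1 : ((S : Subgroup ↥K).map (f.subgroupMap K)) = ⊤ := by
        rw [← Sylow.coe_mapSurjective (f.subgroupMap_surjective K) S]
        refine Subgroup.eq_top_of_card_eq _ ?_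
        obtain ⟨k, hk'⟩ := IsPGroup.iff_card.1 (hKB ▸ hB : IsPGroup p ↥(K.map f))
        rw [Sylow.card_eq_multiplicity, hk', Nat.Prime.factorization_pow hp.out,
          Finsupp.single_eq_same]
      rw [← hKB]
      refine le_antisymm (Subgroup.map_mono (Subgroup.map_subtype_le _)) fun y hy => ?_
      obtain ⟨x, hx, hxy⟩ : (⟨y, hy⟩ : ↥(K.map f)) ∈ (S : Subgroup ↥K).map (f.subgroupMap K) :=
        h1 ▸ Subgroup.mem_top _
      exact ⟨_, ⟨x, hx, rfl⟩, congrArg Subtype.val hxy⟩
    have hPmap : P.map f = P' :=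
      hlift _ P' hP' (Subgroup.map_comap_eq_self_of_surjective hfs P') S
    set N := Subgroup.normalizer (P : Set G) with hN
    have hNtop : N.map f = ⊤ := by
      rw [hN, PConstr.map_normalizer_eq f hfs hk hPp, hPmap, Subgroup.normalizer_eq_top]
    set K := N ⊓ A'.comap f with hK
    have hKmap : K.map f = A' := by
      refine le_antisymm ((Subgroup.map_mono inf_le_right).trans (Subgroup.map_comap_le _ _))
        fun y hy => ?_
      obtain ⟨x, hx, rfl⟩ := (hNtop.symm ▸ Subgroup.mem_top y : y ∈ N.map f)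
      exact ⟨x, ⟨hx, hy⟩, rfl⟩
    obtain ⟨T⟩ : Nonempty (Sylow p ↥K) := inferInstance
    set A := (T : Subgroup ↥K).map K.subtype with hAdef
    have hAmap : A.map f = A' := hlift K A' hA' hKmap T
    have hAN : A ≤ N := (Subgroup.map_subtype_le _).trans inf_le_left
    have hsup : M ⊔ P = P'.comap f := by
      rw [← hPmap, Subgroup.comap_map_eq, hkerf, sup_comm]
    have h1 := h A P (T.isPGroup'.map _) hPp
      (fun a ha x hx => (Subgroup.mem_normalizer_iff.1 (hAN ha) x).1 hx)
      ((le_sup_right.trans hsup.le).trans (Subgroup.comap_mono (PBasic.le_pCore hPn hP')))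
      (hsup ▸ hPn.comap f)
      (hcomm hPp hAN (by rw [hPmap, hAmap]; exact hq))
    rintro _ ⟨⟨a', ha'N⟩, ha', rfl⟩
    obtain ⟨a, ha, rfl⟩ : a' ∈ A.map f := hAmap.symm ▸ ha'
    have h2 := (mem_pCore_iff f hfs hk hPp hPmap ⟨a, hAN ha⟩).1 (h1 ⟨⟨a, hAN ha⟩, ha, rfl⟩)
    exact (mem_pCore_iff (MonoidHom.id (G ⧸ M)) Function.surjective_id
      (by rw [MonoidHom.ker_id, Subgroup.card_bot]; exact Nat.coprime_one_left p) hP'
      (Subgroup.map_id P') ⟨f a, ha'N⟩).2 h2
  · rintro ⟨hodd, -, h⟩
    refine ⟨hodd, hO, fun A P hA hP hconj hPle hPn hq => ?_⟩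
    have hAN : A ≤ Subgroup.normalizer (P : Set G) := by
      intro a ha
      rw [Subgroup.mem_normalizer_iff]
      refine fun x => ⟨hconj a ha x, fun hx => ?_⟩
      simpa [mul_assoc] using hconj a⁻¹ (inv_mem ha) _ hx
    have hPn' : (P.map f).Normal := by
      have h1 : (M ⊔ P).map f = P.map f := by
        rw [Subgroup.map_sup, (Subgroup.map_eq_bot_iff M).2 hkerf.ge, bot_sup_eq]
      exact h1 ▸ hPn.map f hfs
    haveI := hPn'
    have h1 := h (A.map f) (P.map f) (hA.map f) (hP.map f)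
      (fun a _ x hx => hPn'.conj_mem x hx a)
      ((PBasic.le_pCore hPn' (hP.map f)).trans fun x hx =>
        PBasic.map_pCore_le_of_surjective (p := p) (QuotientGroup.mk' (Cfsg.pPrimeCore p (G ⧸ M)))
          (QuotientGroup.mk'_surjective _) ⟨x, hx, rfl⟩)
      (by rw [hM0, bot_sup_eq]; exact hPn')
      (by rw [← Subgroup.map_commutator, ← Subgroup.map_commutator, hq, Subgroup.map_bot])
    rintro _ ⟨⟨a, haN⟩, ha, rfl⟩
    refine (mem_pCore_iff f hfs hk hP rfl ⟨a, haN⟩).2 ?_
    exact (mem_pCore_iff (MonoidHom.id (G ⧸ M)) Function.surjective_id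
      (by rw [MonoidHom.ker_id, Subgroup.card_bot]; exact Nat.coprime_one_left p) (hP.map f)
      (Subgroup.map_id _) ⟨f a, by rw [Subgroup.normalizer_eq_top]; trivial⟩).1
      (h1 ⟨⟨f a, by rw [Subgroup.normalizer_eq_top]; trivial⟩, ⟨a, ha, rfl⟩, rfl⟩)

end Cfsg.Agent.QuotientStable
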